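import Groth.Agent.H7Flat.Flatten.Modif
import Groth.Agent.H17.SchDense
import Groth.Agent.H26Blow.Proper
import Groth.Agent.H11Strict.Admissible
import Mathlib

/-!
# Morphisms which are isomorphisms over an open
-/

set_option autoImplicit false
set_option linter.style.haveILetI false
set_option backward.isDefEq.respectTransparency false
set_option maxHeartbeats 1000000

universe u

open AlgebraicGeometry CategoryTheory Limits TopologicalSpace Opposite HTop

namespace Groth.Agent.H7Flat.Flatten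

/-- A base change along a morphism landing in an open is a base change of the restriction. -/
theorem property_of_range_subset {P : MorphismProperty Scheme.{u}} [P.IsStableUnderBaseChange]
    {X S X' S' : Scheme.{u}} {f : X ⟶ S} {b : S' ⟶ S} {p₁ : X' ⟶ X} {p₂ : X' ⟶ S'}
    (hc : IsPullback p₁ p₂ f b) {U : S.Opens} (hb : Set.range b ⊆ U) (h : P (f ∣_ U)) : P p₂ := by
  let l : S' ⟶ (U : Scheme.{u}) := IsOpenImmersion.lift U.ι b (by rwa [Scheme.Opens.range_ι])
  have hl : l ≫ U.ι = b := IsOpenImmersion.lift_fac _ _ _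
  let m : X' ⟶ (f ⁻¹ᵁ U : Scheme.{u}) := IsOpenImmersion.lift (f ⁻¹ᵁ U).ι p₁ (by
    rintro _ ⟨z, rfl⟩
    rw [Scheme.Opens.range_ι]
    show f (p₁ z) ∈ U
    rw [← Scheme.Hom.comp_apply, hc.w]
    exact hb ⟨p₂ z, rfl⟩)
  have hm : m ≫ (f ⁻¹ᵁ U).ι = p₁ := IsOpenImmersion.lift_fac _ _ _
  have hbig : IsPullback (m ≫ (f ⁻¹ᵁ U).ι) p₂ f (l ≫ U.ι) := by rwa [hm, hl]
  refine MorphismProperty.of_isPullback (IsPullback.of_right hbig ?_ (isPullback_morphismRestrict f U).flip) h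
  rw [← cancel_mono U.ι, Category.assoc, Category.assoc, morphismRestrict_ι, hl, ← Category.assoc, hm, hc.w]

/-- Restrictions to smaller opens inherit base change stable properties. -/
theorem property_restrict_mono {P : MorphismProperty Scheme.{u}} [P.IsStableUnderBaseChange]
    {X S : Scheme.{u}} (f : X ⟶ S) {W U : S.Opens} (hWU : W ≤ U) (h : P (f ∣_ U)) : P (f ∣_ W) :=
  property_of_range_subset (isPullback_morphismRestrict f W).flip (by rw [Scheme.Opens.range_ι]; exact hWU) h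

/-- A separated morphism with a schematically dense section over an open is an isomorphism over it. -/
theorem isIso_restrict_of_dominant {U₀ X₀ S : Scheme.{u}} (u : U₀ ⟶ X₀) [QuasiCompact u]
    [IsSchemeTheoreticallyDominant u] (φ : X₀ ⟶ S) [IsSeparated φ] (j : U₀ ⟶ S) [IsOpenImmersion j]
    (hj : u ≫ φ = j) {O : S.Opens} (hO : j.opensRange = O) : IsIso (φ ∣_ O) := by
  subst hO
  let u' : U₀ ⟶ (φ ⁻¹ᵁ j.opensRange : Scheme.{u}) := IsOpenImmersion.lift (φ ⁻¹ᵁ j.opensRange).ι u (by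
    rintro _ ⟨z, rfl⟩
    rw [Scheme.Opens.range_ι]
    exact ⟨z, by rw [← hj]; rfl⟩)
  have hu' : u' ≫ (φ ⁻¹ᵁ j.opensRange).ι = u := IsOpenImmersion.lift_fac _ _ _
  have he : u' ≫ (φ ∣_ j.opensRange) = j.isoOpensRange.hom := by
    rw [← cancel_mono j.opensRange.ι, Category.assoc, morphismRestrict_ι, ← Category.assoc, hu', hj,
      Scheme.Hom.isoOpensRange_hom_ι]
  haveI : IsClosedImmersion (u' ≫ (φ ∣_ j.opensRange)) := by rw [he]; infer_instance
  haveI : IsSeparated (φ ∣_ j.opensRange) := IsZariskiLocalAtTarget.restrict (P := @IsSeparated) ‹_› _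
  haveI : IsClosedImmersion u' := IsClosedImmersion.of_comp u' (φ ∣_ j.opensRange)
  haveI : IsSchemeTheoreticallyDominant u' := by
    refine IsSchemeTheoreticallyDominant.of_isPullback (f := u) (g := (φ ⁻¹ᵁ j.opensRange).ι) (pX := 𝟙 _) ?_
    refine ⟨⟨by rw [Category.id_comp, hu']⟩, ⟨PullbackCone.IsLimit.mk _ (fun s => s.fst) (fun s => Category.comp_id _) (fun s => ?_)
      fun s m hm₁ _ => (Category.comp_id m).symm.trans hm₁⟩⟩
    rw [← cancel_mono (φ ⁻¹ᵁ j.opensRange).ι, Category.assoc, hu']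
    exact s.condition
  haveI : IsIso u' := IsClosedImmersion.isIso_iff_ker_eq_bot.mpr u'.ker_eq_bot
  exact IsIso.of_isIso_fac_left he

/-- Two morphisms agreeing after a map which is a monomorphism over an open agree there. -/
theorem eq_of_mono_restrict {T X₀ S : Scheme.{u}} (φ : X₀ ⟶ S) (O : S.Opens) [Mono (φ ∣_ O)] (a b : T ⟶ X₀)
    (h : a ≫ φ = b ≫ φ) (ha : Set.range (a ≫ φ) ⊆ O) : a = b := by
  have hb : Set.range (b ≫ φ) ⊆ O := h ▸ ha
  have hr : ∀ c : T ⟶ X₀, Set.range (c ≫ φ) ⊆ O → Set.range c ⊆ Set.range (φ ⁻¹ᵁ O).ι := fun c hc => by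
    rw [Scheme.Opens.range_ι]
    rintro _ ⟨z, rfl⟩
    exact hc ⟨z, rfl⟩
  rw [← IsOpenImmersion.lift_fac (φ ⁻¹ᵁ O).ι a (hr a ha), ← IsOpenImmersion.lift_fac (φ ⁻¹ᵁ O).ι b (hr b hb)]
  refine congrArg (· ≫ _) ?_
  rw [← cancel_mono (φ ∣_ O), ← cancel_mono O.ι, Category.assoc, Category.assoc, morphismRestrict_ι,
    IsOpenImmersion.lift_fac_assoc, IsOpenImmersion.lift_fac_assoc, h]

/-- A blow-up in a finite type centre is proper. -/
theorem isProper_blowUp {X X' : Scheme.{u}} {I : X.IdealSheafData} (hI : BlowUp.IsFiniteTypeIdeal I) {b : X' ⟶ X}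
    (hb : BlowUp.IsBlowUp b I) : IsProper b :=
  H26Blow.isProper_of_isBlowUp hb fun x => by
    obtain ⟨U, hU, hxU, -⟩ := exists_isAffineOpen_mem_and_subset (U := ⊤) (x := x) trivial
    exact ⟨⟨U, hU⟩, hxU, hI _⟩

/-- A modification over an open of the base is dominated by an admissible blow-up of the whole base. -/
theorem exists_extension_blowup {X S : Scheme.{u}} [CompactSpace S] [QuasiSeparatedSpace S]
    (U W : S.Opens) (hU : IsCompact (U : Set S)) (hW : IsCompact (W : Set S))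
    (φ : X ⟶ (W : Scheme.{u})) [IsProper φ] [IsIso (φ ∣_ (W.ι ⁻¹ᵁ U))] :
    ∃ (𝓘 : S.IdealSheafData) (S' : Scheme.{u}) (b : S' ⟶ S), BlowUp.IsBlowUp b 𝓘 ∧ BlowUp.IsAdmissibleFor U 𝓘 ∧
      ∃ h : ((b ⁻¹ᵁ W : S'.Opens) : Scheme.{u}) ⟶ X, h ≫ φ = b ∣_ W := by
  haveI : CompactSpace (W : Scheme.{u}) := isCompact_iff_compactSpace.mp hW
  haveI : QuasiSeparatedSpace (W : Scheme.{u}) :=
    (isQuasiSeparated_iff_quasiSeparatedSpace _ W.2).mp (.of_quasiSeparatedSpace _)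
  have hUW : IsCompact ((W.ι ⁻¹ᵁ U : (W : Scheme.{u}).Opens) : Set (W : Scheme.{u})) := by
    refine W.ι.isOpenEmbedding.isInducing.isCompact_iff.mpr ?_
    have : (W.ι '' ((W.ι ⁻¹ᵁ U : (W : Scheme.{u}).Opens) : Set (W : Scheme.{u}))) = (U : Set S) ∩ W := by
      show W.ι '' (W.ι ⁻¹' (U : Set S)) = _
      rw [Set.image_preimage_eq_inter_range, Scheme.Opens.range_ι]
    rw [this]
    exact QuasiSeparatedSpace.inter_isCompact _ _ U.2 hU W.2 hW
  obtain ⟨I, SW, bW, hbW, hI, -, h, hh⟩ := exists_iso_blowup φ (W.ι ⁻¹ᵁ U) hUW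
  obtain ⟨J, hJ, hJW⟩ := H11Strict.exists_admissible_extension U W hU hW I hI
  obtain ⟨S', b, hb⟩ := H26Blow.exists_isBlowUp J
  have hb' := H11Strict.isBlowUp_restrict_opens hb W
  rw [hJW] at hb'
  obtain ⟨e, he, -⟩ := hbW.2 _ (b ∣_ W) hb'.1
  exact ⟨J, S', b, hb, hJ, e ≫ h, by rw [Category.assoc, hh, he]⟩

/-- Sections over an open extend after an admissible blow-up. -/
theorem exists_extension_section {X S : Scheme.{u}} [CompactSpace S] [QuasiSeparatedSpace S]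
    (U W : S.Opens) (hUW : U ≤ W) (hU : IsCompact (U : Set S)) (hW : IsCompact (W : Set S))
    (f : X ⟶ (W : Scheme.{u})) [IsProper f] (s : (U : Scheme.{u}) ⟶ X) (hs : s ≫ f = S.homOfLE hUW) :
    ∃ (𝓘 : S.IdealSheafData) (S' : Scheme.{u}) (b : S' ⟶ S), BlowUp.IsBlowUp b 𝓘 ∧ BlowUp.IsAdmissibleFor U 𝓘 ∧
      ∃ s' : ((b ⁻¹ᵁ W : S'.Opens) : Scheme.{u}) ⟶ X, s' ≫ f = b ∣_ W ∧
        S'.homOfLE (show b ⁻¹ᵁ U ≤ b ⁻¹ᵁ W from fun _ hx => hUW hx) ≫ s' = (b ∣_ U) ≫ s := by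
  haveI : CompactSpace (U : Scheme.{u}) := isCompact_iff_compactSpace.mp hU
  haveI : QuasiSeparatedSpace (W : Scheme.{u}) :=
    (isQuasiSeparated_iff_quasiSeparatedSpace _ W.2).mp (.of_quasiSeparatedSpace _)
  haveI : QuasiSeparatedSpace X := quasiSeparatedSpace_of_quasiSeparated f
  haveI : QuasiCompact s := QuasiCompact.of_comp s (terminal.from X)
  haveI : IsSchemeTheoreticallyDominant s.toImage := ⟨H17.ker_toImage s⟩
  let φ := s.imageι ≫ f
  haveI : IsProper φ := inferInstance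
  have hsφ : s.toImage ≫ φ = S.homOfLE hUW := by rw [← Category.assoc, s.toImage_imageι, hs]
  have hrange : (S.homOfLE hUW).opensRange = W.ι ⁻¹ᵁ U := by
    refine Opens.ext (Set.ext fun x => ⟨?_, fun hx => ⟨⟨W.ι x, hx⟩, ?_⟩⟩)
    · rintro ⟨y, rfl⟩
      show W.ι ((S.homOfLE hUW) y) ∈ U
      rw [← Scheme.Hom.comp_apply, Scheme.homOfLE_ι]
      exact y.2
    · refine W.ι.isOpenEmbedding.injective ?_
      rw [← Scheme.Hom.comp_apply, Scheme.homOfLE_ι]
      rfl
  haveI := isIso_restrict_of_dominant s.toImage φ (S.homOfLE hUW) hsφ hrange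
  obtain ⟨J, S', b, hb, hJ, h, hh⟩ := exists_extension_blowup U W hU hW φ
  refine ⟨J, S', b, hb, hJ, h ≫ s.imageι, by rw [Category.assoc]; exact hh, ?_⟩
  have heq : S'.homOfLE (show b ⁻¹ᵁ U ≤ b ⁻¹ᵁ W from fun _ hx => hUW hx) ≫ h = (b ∣_ U) ≫ s.toImage := by
    refine eq_of_mono_restrict φ (W.ι ⁻¹ᵁ U) _ _ ?_ ?_
    · rw [Category.assoc, Category.assoc, hh, hsφ, ← cancel_mono W.ι, Category.assoc, Category.assoc,
        morphismRestrict_ι, Scheme.homOfLE_ι_assoc, Scheme.homOfLE_ι, morphismRestrict_ι]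
    · rw [Category.assoc, hh]
      rintro _ ⟨z, rfl⟩
      show W.ι ((S'.homOfLE _ ≫ (b ∣_ W)) z) ∈ U
      rw [← Scheme.Hom.comp_apply, Category.assoc, morphismRestrict_ι, Scheme.homOfLE_ι_assoc]
      exact z.2
  rw [← Category.assoc, heq, Category.assoc, s.toImage_imageι]

end Groth.Agent.H7Flat.Flatten
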