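import Groth.Agent.H7Flat.Flatten.Birat
import Mathlib

/-!
# Compactifications dominating an open
-/

set_option autoImplicit false
set_option linter.style.haveILetI false
set_option backward.isDefEq.respectTransparency false
set_option maxHeartbeats 1000000

universe u

open AlgebraicGeometry CategoryTheory Limits TopologicalSpace Opposite HTop

namespace Groth.Agent.H7Flat.Flatten

/-- After an admissible blow-up of a compactification of an open, an open of it is proper over the whole. -/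
theorem exists_dominating_blowup {U S Y : Scheme.{u}} [CompactSpace S] [QuasiSeparatedSpace S]
    (g : U ⟶ S) [IsSeparated g] [LocallyOfFiniteType g] [QuasiCompact g]
    (V : U.Opens) (hV : IsCompact (V : Set U)) (j : (V : Scheme.{u}) ⟶ Y) [IsOpenImmersion j] [QuasiCompact j]
    (πY : Y ⟶ S) [IsProper πY] (hj : j ≫ πY = V.ι ≫ g) :
    ∃ (𝓘 : Y.IdealSheafData) (Y' : Scheme.{u}) (b : Y' ⟶ Y), BlowUp.IsBlowUp b 𝓘 ∧ BlowUp.IsAdmissibleFor j.opensRange 𝓘 ∧
      awayFrom 𝓘 = j.opensRange ∧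
      ∃ (V' : Y'.Opens) (hle : b ⁻¹ᵁ j.opensRange ≤ V') (h : (V' : Scheme.{u}) ⟶ U),
        IsProper h ∧ h ≫ g = V'.ι ≫ b ≫ πY ∧
        ∃ k : ((b ⁻¹ᵁ j.opensRange : Y'.Opens) : Scheme.{u}) ⟶ V,
          k ≫ j = (b ∣_ j.opensRange) ≫ j.opensRange.ι ∧ Y'.homOfLE hle ≫ h = k ≫ V.ι := by
  haveI : CompactSpace (V : Scheme.{u}) := isCompact_iff_compactSpace.mp hV
  haveI : CompactSpace Y := QuasiCompact.compactSpace_of_compactSpace πY
  haveI : QuasiSeparatedSpace Y := quasiSeparatedSpace_of_quasiSeparated πY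
  let γ : (V : Scheme.{u}) ⟶ pullback πY g := pullback.lift j V.ι hj
  haveI : QuasiSeparatedSpace ↥(pullback πY g) := quasiSeparatedSpace_of_quasiSeparated (pullback.fst πY g)
  haveI : QuasiCompact γ := QuasiCompact.of_comp γ (terminal.from _)
  haveI : IsSchemeTheoreticallyDominant γ.toImage := ⟨H17.ker_toImage γ⟩
  let φ := γ.imageι ≫ pullback.fst πY g
  have huφ : γ.toImage ≫ φ = j := by
    rw [← Category.assoc, γ.toImage_imageι]; exact pullback.lift_fst _ _ _
  let O := j.opensRange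
  haveI : IsSeparated φ := inferInstance
  haveI : LocallyOfFiniteType φ := inferInstance
  haveI : QuasiCompact φ := inferInstance
  haveI := isIso_restrict_of_dominant γ.toImage φ j huφ (O := O) rfl
  have hO : IsCompact (O : Set Y) := isCompact_range j.continuous
  obtain ⟨𝓘, Y', b, hb, hadm, hU, hopen⟩ := exists_openImmersion_blowup φ O hO
  refine ⟨𝓘, Y', b, hb, hadm, hU, ?_⟩
  haveI := isProper_blowUp hadm.1 hb
  have hc := IsPullback.of_hasPullback φ b
  let s := (supportedOn ((𝓘.comap φ).comap (pullback.fst φ b))).subschemeι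
  let g' := s ≫ pullback.snd φ b
  haveI : IsOpenImmersion g' := hopen _ _ _ hc
  have hle : b ⁻¹ᵁ O ≤ g'.opensRange := by
    haveI : IsIso (g' ∣_ (b ⁻¹ᵁ awayFrom 𝓘)) :=
      property_strict_restrict (P := MorphismProperty.isomorphisms Scheme) hc 𝓘
        (show IsIso (φ ∣_ awayFrom 𝓘) by rw [hU]; infer_instance)
    rw [← hU]
    intro y hy
    obtain ⟨w, hw⟩ := (g' ∣_ (b ⁻¹ᵁ awayFrom 𝓘)).surjective ⟨y, hy⟩
    refine ⟨(g' ⁻¹ᵁ (b ⁻¹ᵁ awayFrom 𝓘)).ι w, ?_⟩
    rw [← Scheme.Hom.comp_apply, ← morphismRestrict_ι, Scheme.Hom.comp_apply, hw]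
    rfl
  let a : (g'.opensRange : Scheme.{u}) ⟶ γ.image := g'.isoOpensRange.inv ≫ s ≫ pullback.fst φ b
  have ha : a ≫ φ = g'.opensRange.ι ≫ b := by
    rw [Category.assoc, Category.assoc, pullback.condition, ← Category.assoc s,
      show s ≫ pullback.snd φ b = g' from rfl, ← Category.assoc, Scheme.Hom.isoOpensRange_inv_comp]
  let h : (g'.opensRange : Scheme.{u}) ⟶ U := a ≫ γ.imageι ≫ pullback.snd πY g
  have hprop : IsProper h := inferInstance
  let k : ((b ⁻¹ᵁ O : Y'.Opens) : Scheme.{u}) ⟶ V := (b ∣_ O) ≫ j.isoOpensRange.inv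
  have hk : k ≫ j = (b ∣_ O) ≫ O.ι := by rw [Category.assoc, Scheme.Hom.isoOpensRange_inv_comp]
  have hh : h ≫ g = g'.opensRange.ι ≫ b ≫ πY := by
    have h1 : h ≫ g = (a ≫ φ) ≫ πY := by simp only [h, φ, Category.assoc, pullback.condition]
    rw [h1, ha, Category.assoc]
  refine ⟨g'.opensRange, hle, h, hprop, hh, k, hk, ?_⟩
  have heq : Y'.homOfLE hle ≫ a = k ≫ γ.toImage := by
    refine eq_of_mono_restrict φ O _ _ ?_ ?_
    · rw [(Category.assoc (Y'.homOfLE hle) a φ).trans (congrArg (Y'.homOfLE hle ≫ ·) ha),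
        (Category.assoc k γ.toImage φ).trans (congrArg (k ≫ ·) huφ), hk, morphismRestrict_ι, Scheme.homOfLE_ι_assoc]
    · rw [(Category.assoc (Y'.homOfLE hle) a φ).trans (congrArg (Y'.homOfLE hle ≫ ·) ha), Scheme.homOfLE_ι_assoc]
      rintro _ ⟨z, rfl⟩
      exact z.2
  rw [show h = a ≫ γ.imageι ≫ pullback.snd πY g from rfl, ← Category.assoc, heq, Category.assoc,
    γ.toImage_imageι_assoc, show γ ≫ pullback.snd πY g = V.ι from pullback.lift_snd _ _ _]

end Groth.Agent.H7Flat.Flatten
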