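import Groth.Agent.H7Flat.Flatten.NagataA
import Groth.Agent.H11Ample.ImmersionPn
import Groth.Agent.H17.Ample.LocalProj
import Groth.Agent.H27Weil.Geometry
import Mathlib

/-!
# Nagata compactification
-/

set_option autoImplicit false
set_option linter.style.haveILetI false
set_option backward.isDefEq.respectTransparency false

universe u

open AlgebraicGeometry CategoryTheory Limits TopologicalSpace

namespace Groth.Agent.H7Flat.Flatten

/-- A finite type morphism from an affine scheme has a compactification. -/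
theorem exists_compactification_of_isAffine {A S : Scheme.{u}} [IsAffine A] [QuasiSeparatedSpace S]
    (q : A ⟶ S) [LocallyOfFiniteType q] :
    ∃ (Y : Scheme.{u}) (j : A ⟶ Y) (p : Y ⟶ S), IsOpenImmersion j ∧ QuasiCompact j ∧ IsProper p ∧ j ≫ p = q := by
  obtain ⟨M, hM⟩ := H17.LocalProj.exists_isAmple_of_isAffine A
  obtain ⟨n, i, hi, hiq⟩ := H11Ample.exists_immersion_projSpaceOver q hM
  haveI := hi
  haveI : IsProper (CohB1.ProjSpaceOver.toBase n S) := H27Weil.isProper_toBase n S
  haveI : QuasiSeparatedSpace ↥(CohB1.ProjSpaceOver n S) :=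
    quasiSeparatedSpace_of_quasiSeparated (CohB1.ProjSpaceOver.toBase n S)
  haveI : QuasiCompact i := QuasiCompact.of_comp i (terminal.from _)
  haveI : QuasiCompact (i.toImage ≫ i.imageι) := by rw [i.toImage_imageι]; infer_instance
  exact ⟨i.image, i.toImage, i.imageι ≫ CohB1.ProjSpaceOver.toBase n S, inferInstance,
    QuasiCompact.of_comp i.toImage i.imageι, inferInstance, by rw [Scheme.Hom.toImage_imageι_assoc, hiq]⟩

/-- Compactifications only depend on the range of an open immersion. -/
theorem exists_compactification_congr {A B X S : Scheme.{u}} (f : X ⟶ S) (a : A ⟶ X) [IsOpenImmersion a]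
    (b : B ⟶ X) [IsOpenImmersion b] (hab : Set.range a = Set.range b)
    (h : ∃ (Y : Scheme.{u}) (j : A ⟶ Y) (p : Y ⟶ S), IsOpenImmersion j ∧ QuasiCompact j ∧ IsProper p ∧ j ≫ p = a ≫ f) :
    ∃ (Y : Scheme.{u}) (j : B ⟶ Y) (p : Y ⟶ S), IsOpenImmersion j ∧ QuasiCompact j ∧ IsProper p ∧ j ≫ p = b ≫ f := by
  obtain ⟨Y, j, p, hjo, hjq, hp, hj⟩ := h
  refine ⟨Y, (IsOpenImmersion.isoOfRangeEq b a hab.symm).hom ≫ j, p, inferInstance, inferInstance, hp, ?_⟩
  rw [Category.assoc, hj, ← Category.assoc, IsOpenImmersion.isoOfRangeEq_hom_fac]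

/-- Nagata's compactification theorem. -/
theorem exists_compactification {X S : Scheme.{u}} (f : X ⟶ S) [CompactSpace S] [QuasiSeparatedSpace S]
    [IsSeparated f] [QuasiCompact f] [LocallyOfFiniteType f] :
    ∃ (Y : Scheme.{u}) (j : X ⟶ Y) (p : Y ⟶ S), IsOpenImmersion j ∧ QuasiCompact j ∧ IsProper p ∧ j ≫ p = f := by
  classical
  haveI : CompactSpace X := QuasiCompact.compactSpace_of_compactSpace f
  haveI : QuasiSeparatedSpace X := quasiSeparatedSpace_of_quasiSeparated f
  choose V hV hxV using fun x : X => H11Ample.exists_isAffineOpen_mem x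
  have key : ∀ T : Finset X, IsCompact ((T.sup V : X.Opens) : Set X) ∧
      ∃ (Y : Scheme.{u}) (j : (T.sup V).toScheme ⟶ Y) (p : Y ⟶ S),
        IsOpenImmersion j ∧ QuasiCompact j ∧ IsProper p ∧ j ≫ p = (T.sup V).ι ≫ f := by
    intro T
    induction T using Finset.induction_on with
    | empty =>
      rw [Finset.sup_empty]
      haveI : IsAffine ((⊥ : X.Opens) : Scheme.{u}) := isAffineOpen_bot X
      exact ⟨by simp, exists_compactification_of_isAffine _⟩
    | @insert a T ha ih =>
      obtain ⟨hc, h⟩ := ih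
      rw [Finset.sup_insert]
      have hW : IsCompact ((V a ⊔ T.sup V : X.Opens) : Set X) := by
        rw [Opens.coe_sup]; exact (hV a).isCompact.union hc
      refine ⟨hW, ?_⟩
      let W : X.Opens := V a ⊔ T.sup V
      haveI : CompactSpace (W : Scheme.{u}) := isCompact_iff_compactSpace.mp hW
      haveI : IsAffine (V a : Scheme.{u}) := hV a
      haveI : QuasiCompact W.ι := QuasiCompact.of_comp W.ι (terminal.from _)
      have hr : ∀ (O : X.Opens), O ≤ W → Set.range O.ι = Set.range ((W.ι ⁻¹ᵁ O).ι ≫ W.ι) := by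
        intro O hO
        rw [Scheme.Hom.comp_base, TopCat.coe_comp, Set.range_comp, Scheme.Opens.range_ι, Scheme.Opens.range_ι]
        show (O : Set X) = W.ι '' (W.ι ⁻¹' (O : Set X))
        rw [Set.image_preimage_eq_inter_range, Scheme.Opens.range_ι]
        exact (Set.inter_eq_left.mpr hO).symm
      refine exists_compactification_union (W.ι ≫ f) (W.ι ⁻¹ᵁ V a) (W.ι ⁻¹ᵁ T.sup V) ?_ ?_ ?_
      · exact eq_top_iff.mpr fun z _ => z.2
      · simpa only [Category.assoc] using exists_compactification_congr f (V a).ι ((W.ι ⁻¹ᵁ V a).ι ≫ W.ι)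
          (hr _ le_sup_left) (exists_compactification_of_isAffine _)
      · simpa only [Category.assoc] using exists_compactification_congr f (T.sup V).ι ((W.ι ⁻¹ᵁ T.sup V).ι ≫ W.ι)
          (hr _ le_sup_right) h
  obtain ⟨T, hT⟩ := CompactSpace.elim_nhds_subcover (fun x => (V x : Set X))
    (fun x => (V x).2.mem_nhds (hxV x))
  have htop : Set.range (T.sup V).ι = Set.range (𝟙 X : X ⟶ X) := by
    rw [Scheme.Opens.range_ι]
    refine Set.Subset.antisymm (fun z _ => ⟨z, rfl⟩) fun z _ => ?_
    obtain ⟨x, hx, hz⟩ := Set.mem_iUnion₂.1 (hT.ge (Set.mem_univ z))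
    exact (Finset.le_sup hx : V x ≤ T.sup V) hz
  simpa only [Category.id_comp] using exists_compactification_congr f (T.sup V).ι (𝟙 X) htop (key T).2

end Groth.Agent.H7Flat.Flatten
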