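import Groth.Agent.H7Flat.Flatten.Chart
import Groth.Agent.H8Props.RelFP.PullSections
import Groth.Agent.H10Coh.QCohOps
import Groth.Agent.H11Tilde.QCohCrit
import Groth.Agent.H29Blow.QCohExt
import Groth.Agent.H29Blow.QCohLoc
import Groth.Agent.H29Omega.SheafFinite
import Groth.Agent.H10Coh.FinType2
import Groth.Agent.H26Blow.Exists
import Groth.Agent.S19349
import Mathlib

/-!
# Flattening by admissible blow-ups
-/

set_option autoImplicit false
set_option linter.style.haveILetI false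
set_option backward.isDefEq.respectTransparency false
set_option maxHeartbeats 1000000

universe u

open AlgebraicGeometry CategoryTheory Limits TopologicalSpace Opposite

namespace Groth.Agent.H7Flat.Flatten

/-- An ideal sheaf which is locally principal. -/
def LocPrincipal {X : Scheme.{u}} (E : X.IdealSheafData) : Prop :=
  ∀ x : X, ∃ U : X.affineOpens, x ∈ U.1 ∧ ∃ f : Γ(X, U.1), E.ideal U = Ideal.span {f}

theorem locPrincipal_comap {X Y : Scheme.{u}} (g : Y ⟶ X) {E : X.IdealSheafData}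
    (hE : BlowUp.IsEffCartierIdeal E) : LocPrincipal (E.comap g) := fun y => by
  obtain ⟨U, hy, t, -, ht⟩ := hE (g y)
  obtain ⟨_, ⟨V, hV, rfl⟩, hyV, hVU⟩ :=
    Y.isBasis_affineOpens.exists_subset_of_mem_open hy (g ⁻¹ᵁ U.1).isOpen
  refine ⟨⟨V, hV⟩, hyV, g.appLE U.1 V hVU t, ?_⟩
  rw [H29Blow.ideal_comap E g U ⟨V, hV⟩ hVU, ht, Ideal.map_span, Set.image_singleton]

/-- The kernel of a strict transform map is quasi-coherent. -/
theorem isQuasicoherent_kernel {X : Scheme.{u}} {M G : X.Modules} [M.IsQuasicoherent] (E : X.IdealSheafData)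
    (hE : LocPrincipal E) (π : M ⟶ G) [Epi π]
    (hπ : ∀ (V : X.affineOpens) (m : Γ(M, V.1)), π.app V.1 m = 0 ↔ BlowUp.KilledByPowerNear E M V m) :
    (kernel π).IsQuasicoherent := by
  choose U hxU f hI using hE
  have hι : ∀ (W : X.Opens), Function.Injective ((kernel.ι π).app W) := fun W =>
    H10Coh.injective_app_of_mono' _ W
  have hlift : ∀ (V : X.affineOpens) (m : Γ(M, V.1)), π.app V.1 m = 0 →
      ∃ k : Γ(kernel π, V.1), (kernel.ι π).app V.1 k = m := fun V m hm =>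
    H10Coh.exists_app_eq_of_exact (H10Coh.shortExact_kernel π) V.1 m hm
  refine H11Tilde.isQuasicoherent_of_basicOpen_localization _ (fun x => (U x).1) ?_
    (fun x => (U x).2) ?_ ?_
  · rw [TopologicalSpace.IsOpenCover, eq_top_iff]
    exact fun x _ => TopologicalSpace.Opens.mem_iSup.2 ⟨x, hxU x⟩
  · intro x r s hs
    obtain ⟨n, hn⟩ := _root_.H29Blow.exists_pow_smul_eq_zero M inferInstance (U x).2 r ((kernel.ι π).app _ s)
      (by rw [← H11Tilde.app_map_apply, hs, map_zero])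
    exact ⟨n, hι _ (((kernel.ι π).app_smul _ _).trans (hn.trans (map_zero ((kernel.ι π).app _).hom).symm))⟩
  · intro x r s'
    obtain ⟨n, t, ht⟩ := _root_.H29Blow.exists_pow_smul_eq_res M inferInstance (U x).2 r ((kernel.ι π).app _ s')
    let W : X.affineOpens := ⟨X.basicOpen r, (U x).2.basicOpen r⟩
    obtain ⟨m, hm⟩ := (hπ W _).1 (show π.app _ ((kernel.ι π).app _ s') = 0 by
      rw [← ConcreteCategory.comp_apply, ← Scheme.Modules.Hom.comp_app, kernel.condition]; rfl)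
    let ρ := X.presheaf.map (homOfLE (X.basicOpen_le r)).op
    have hfm : ρ (f x ^ m) ∈ (E ^ m).ideal W := by
      rw [← show ((E ^ m).ideal (U x)).map ρ.hom = (E ^ m).ideal W from
        (E ^ m).map_ideal' (U := W) (V := U x) _]
      refine Ideal.mem_map_of_mem _ ?_
      rw [Scheme.IdealSheafData.ideal_pow, Pi.pow_apply, hI]
      exact Ideal.pow_mem_pow (Ideal.mem_span_singleton_self _) m
    obtain ⟨l, hl⟩ := _root_.H29Blow.exists_pow_smul_eq_zero M inferInstance (U x).2 r (f x ^ m • t) (by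
      rw [Scheme.Modules.map_smul, ht, smul_smul, mul_comm, mul_smul]
      exact (congrArg (_ • ·) (hm _ hfm)).trans (smul_zero _))
    obtain ⟨k, hk⟩ := hlift (U x) (r ^ l • t) ((hπ _ _).2 ⟨m, fun a ha => by
      rw [Scheme.IdealSheafData.ideal_pow, Pi.pow_apply, hI, Ideal.span_singleton_pow,
        Ideal.mem_span_singleton'] at ha
      obtain ⟨c, rfl⟩ := ha
      rw [mul_smul, smul_comm (f x ^ m), hl, smul_zero]⟩)
    refine ⟨n + l, k, hι _ ?_⟩
    rw [H11Tilde.app_map_apply, hk, Scheme.Modules.Hom.app_smul, Scheme.Modules.map_smul, ht,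
      smul_smul, ← map_mul, ← pow_add, add_comm]

/-- Strict transforms along locally principal ideals are quasi-coherent. -/
theorem isQuasicoherent_of_kills {X : Scheme.{u}} {M G : X.Modules} [M.IsQuasicoherent] (E : X.IdealSheafData)
    (hE : LocPrincipal E) (π : M ⟶ G) [Epi π]
    (hπ : ∀ (V : X.affineOpens) (m : Γ(M, V.1)), π.app V.1 m = 0 ↔ BlowUp.KilledByPowerNear E M V m) :
    G.IsQuasicoherent := by
  haveI := isQuasicoherent_kernel E hE π hπ
  haveI := H10Coh.isQuasicoherent_cokernel (kernel.ι π)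
  exact H10Coh.isQuasicoherent_of_iso (M := cokernel (kernel.ι π))
    (IsColimit.coconePointUniqueUpToIso (cokernelIsCokernel (kernel.ι π))
      (Abelian.epiIsCokernelOfKernel (KernelFork.ofι (kernel.ι π) (kernel.condition π)) (kernelIsKernel π)))

/-- The strict transform of a module along the base change of a blow-up is quasi-coherent. -/
theorem isQuasicoherent_strictTransform {X S X' S' : Scheme.{u}} {f : X ⟶ S} {b : S' ⟶ S}
    {p₁ : X' ⟶ X} {p₂ : X' ⟶ S'} (hw : p₁ ≫ f = p₂ ≫ b) {𝓘 : S.IdealSheafData} (hb : BlowUp.IsBlowUp b 𝓘)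
    {F : X.Modules} (hqc : Coh.IsQCoh F) {G : X'.Modules} {π : (Scheme.Modules.pullback p₁).obj F ⟶ G}
    (hG : BlowUp.IsStrictTransform p₁ (𝓘.comap f) F G π) : G.IsQuasicoherent := by
  haveI : ((Scheme.Modules.pullback p₁).obj F).IsQuasicoherent := H29Fitt.isQCoh_pullback p₁ F hqc
  haveI := hG.1
  refine isQuasicoherent_of_kills _ ?_ π hG.2
  rw [BlowUp.exceptional, ← Scheme.IdealSheafData.comap_comp, hw, Scheme.IdealSheafData.comap_comp]
  exact locPrincipal_comap p₂ hb.1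

/-- Near a point where the exceptional ideal is principal, a flattening centre gives flat finitely
presented sections of the strict transform. -/
theorem exists_good_nhd {X S : Scheme.{u}} (f : X ⟶ S) (F : X.Modules) (hqc : Coh.IsQCoh F)
    (hft : CohB1.IsFT F) {V : S.Opens} (hV : IsAffineOpen V) {W : X.Opens} (hW : IsAffineOpen W)
    (hWV : W ≤ f ⁻¹ᵁ V) (J K : S.IdealSheafData)
    (hfl : letI := (f.appLE V W hWV).hom.toAlgebra
      Flattening Γ(S, V) Γ(X, W) Γ(F, W) (J.ideal ⟨V, hV⟩))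
    {S' : Scheme.{u}} (b : S' ⟶ S) (hb : BlowUp.IsBlowUp b (J * K))
    {X' : Scheme.{u}} (p₁ : X' ⟶ X) (p₂ : X' ⟶ S') (hc : IsPullback p₁ p₂ f b)
    (G : X'.Modules) (π : (Scheme.Modules.pullback p₁).obj F ⟶ G)
    (hG : BlowUp.IsStrictTransform p₁ ((J * K).comap f) F G π) (x : X') (hx : p₁ x ∈ W) :
    ∃ Z : X'.Opens, IsAffineOpen Z ∧ x ∈ Z ∧ Module.FinitePresentation Γ(X', Z) Γ(G, Z) ∧
      ∀ z ∈ Z, FlatMod.IsFlatOverAt p₂ G z := by
  classical
  haveI hGq : G.IsQuasicoherent := isQuasicoherent_strictTransform hc.w hb hqc hG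
  haveI hMq : ((Scheme.Modules.pullback p₁).obj F).IsQuasicoherent := H29Fitt.isQCoh_pullback p₁ F hqc
  haveI := hG.1
  -- the chart of the blow-up
  obtain ⟨U₀, hxU₀, t₀, ht₀, hI₀⟩ := hb.1 (p₂ x)
  have hxV : b (p₂ x) ∈ V := by
    rw [← Scheme.Hom.comp_apply, ← hc.w]
    exact hWV hx
  obtain ⟨r, hr, hxr⟩ := U₀.2.exists_basicOpen_le (V := b ⁻¹ᵁ V) ⟨p₂ x, hxV⟩ hxU₀
  let A : S'.affineOpens := ⟨S'.basicOpen r, U₀.2.basicOpen r⟩
  let ρ := (S'.presheaf.map (homOfLE (S'.basicOpen_le r)).op).hom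
  let t : Γ(S', A.1) := ρ t₀
  have ht : t ∈ nonZeroDivisors Γ(S', A.1) := by
    haveI := U₀.2.isLocalization_basicOpen r
    exact nzd_localization (Submonoid.powers r) Γ(S', S'.basicOpen r) ht₀
  have hIA : ((J * K).comap b).ideal A = Ideal.span {t} := by
    rw [← ((J * K).comap b).map_ideal (U := A) (V := U₀) (S'.basicOpen_le r), hI₀, Ideal.map_span,
      Set.image_singleton]
    rfl
  -- the chart of the base change
  let Z : X'.Opens := p₁ ⁻¹ᵁ W ⊓ p₂ ⁻¹ᵁ A.1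
  have hp : IsPushout (f.appLE V W hWV) (b.appLE V A.1 hr)
      (p₁.appLE W Z inf_le_left) (p₂.appLE A.1 Z inf_le_right) :=
    (isIso_pushoutSection_iff hc hr hWV (UY := Z) rfl).mp
      (isIso_pushoutSection_of_isAffineOpen hc hr hWV rfl hV A.2 hW)
  have hZ : IsAffineOpen Z := by
    haveI : IsAffine _ := hV
    haveI : IsAffine _ := A.2
    haveI : IsAffine _ := hW
    exact .of_isIso (Scheme.Hom.isPullback_resLE hc hr hWV (UY := Z) rfl).isoPullback.hom
  refine ⟨Z, hZ, ⟨hx, hxr⟩, ?_⟩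
  letI := (f.appLE V W hWV).hom.toAlgebra
  letI := (b.appLE V A.1 hr).hom.toAlgebra
  letI := (p₁.appLE W Z inf_le_left).hom.toAlgebra
  letI := (p₂.appLE A.1 Z inf_le_right).hom.toAlgebra
  letI : Algebra Γ(S, V) Γ(X', Z) :=
    ((p₁.appLE W Z inf_le_left).hom.comp (f.appLE V W hWV).hom).toAlgebra
  haveI : IsScalarTower Γ(S, V) Γ(X, W) Γ(X', Z) := .of_algebraMap_eq fun _ => rfl
  haveI : IsScalarTower Γ(S, V) Γ(S', A.1) Γ(X', Z) :=
    IsScalarTower.of_algebraMap_eq' (congrArg CommRingCat.Hom.hom hp.w)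
  haveI : Algebra.IsPushout Γ(S, V) Γ(S', A.1) Γ(X, W) Γ(X', Z) :=
    (CommRingCat.isPushout_iff_isPushout.mp hp.flip)
  letI := Module.compHom Γ((Scheme.Modules.pullback p₁).obj F, Z) (p₁.appLE W Z inf_le_left).hom
  haveI : IsScalarTower Γ(X, W) Γ(X', Z) Γ((Scheme.Modules.pullback p₁).obj F, Z) :=
    .of_algebraMap_smul fun _ _ => rfl
  letI := Module.compHom Γ((Scheme.Modules.pullback p₁).obj F, Z) (p₂.appLE A.1 Z inf_le_right).hom
  haveI : IsScalarTower Γ(S', A.1) Γ(X', Z) Γ((Scheme.Modules.pullback p₁).obj F, Z) :=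
    .of_algebraMap_smul fun _ _ => rfl
  letI := Module.compHom Γ(G, Z) (p₂.appLE A.1 Z inf_le_right).hom
  haveI : IsScalarTower Γ(S', A.1) Γ(X', Z) Γ(G, Z) := .of_algebraMap_smul fun _ _ => rfl
  haveI : F.IsQuasicoherent := hqc
  haveI := H10Coh.finite_sections F hft hW
  have hmap : ((J * K).ideal ⟨V, hV⟩).map (algebraMap Γ(S, V) Γ(S', A.1)) = Ideal.span {t} := by
    rw [← hIA, H29Blow.ideal_comap (J * K) b ⟨V, hV⟩ A hr]
    rfl
  have hflK : Flattening Γ(S, V) Γ(X, W) Γ(F, W) ((J * K).ideal ⟨V, hV⟩) := by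
    rw [Scheme.IdealSheafData.ideal_mul]
    exact hfl.mul (K.ideal ⟨V, hV⟩)
  obtain ⟨hflat, hfp⟩ := hflK Γ(S', A.1) t ht hmap Γ(X', Z) _
    (H8Props.PullSections.pullLin p₁ F inf_le_left)
    (H8Props.PullSections.isBaseChange_pullLin p₁ F inf_le_left hqc hW hZ)
  let L := H29Fitt.appLin π Z
  let τ : Γ(X', Z) := p₂.appLE A.1 Z inf_le_right t
  have hE : (BlowUp.exceptional p₁ ((J * K).comap f)).ideal ⟨Z, hZ⟩ = Ideal.span {τ} := by
    rw [BlowUp.exceptional, ← Scheme.IdealSheafData.comap_comp, hc.w, Scheme.IdealSheafData.comap_comp,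
      H29Blow.ideal_comap ((J * K).comap b) p₂ A ⟨Z, hZ⟩ inf_le_right, hIA, Ideal.map_span, Set.image_singleton]
  have hker : LinearMap.ker L = tors Γ(X', Z) t Γ((Scheme.Modules.pullback p₁).obj F, Z) := by
    ext m
    rw [LinearMap.mem_ker, mem_tors_iff]
    refine (hG.2 ⟨Z, hZ⟩ m).trans ?_
    refine exists_congr fun n => ⟨fun h => ?_, fun h a ha => ?_⟩
    · have h' := h (τ ^ n) (by
        rw [Scheme.IdealSheafData.ideal_pow, Pi.pow_apply, hE]
        exact Ideal.pow_mem_pow (Ideal.mem_span_singleton_self _) n)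
      rw [← algebraMap_smul Γ(X', Z) (t ^ n), map_pow]
      exact h'
    · rw [Scheme.IdealSheafData.ideal_pow, Pi.pow_apply, hE, Ideal.span_singleton_pow,
        Ideal.mem_span_singleton'] at ha
      obtain ⟨c, rfl⟩ := ha
      rw [← algebraMap_smul Γ(X', Z) (t ^ n), map_pow] at h
      rw [mul_smul, show τ ^ n • m = 0 from h, smul_zero]
  have hsurj : Function.Surjective L := H10Coh.surjective_app_of_epi π hZ
  let e := (Submodule.quotEquivOfEq _ _ hker.symm).trans (L.quotKerEquivOfSurjective hsurj)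
  haveI := hfp
  haveI := hflat
  refine ⟨Module.FinitePresentation.of_equiv e, fun z hz => ?_⟩
  exact (H8Props.FlatLocus.flat_sections_over_iff p₂ G hGq A.2 hZ inf_le_right).1
    (Module.Flat.of_linearEquiv (e.restrictScalars Γ(S', A.1)).symm) ⟨z, hz⟩

/-- Flattening by an admissible blow-up. -/
theorem exists_flattening_blowup {X S : Scheme.{u}} [CompactSpace S] [QuasiSeparatedSpace S] [CompactSpace X]
    (f : X ⟶ S) [LocallyOfFinitePresentation f] (U : S.Opens) (hU : IsCompact (U : Set S))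
    (F : X.Modules) (hqc : Coh.IsQCoh F) (hft : CohB1.IsFT F)
    (hfpU : CohB1.IsFP ((Scheme.Modules.pullback (f ⁻¹ᵁ U).ι).obj F))
    (hflU : ∀ x : X, f.base x ∈ U → FlatMod.IsFlatOverAt f F x) :
    ∃ (𝓘 : S.IdealSheafData) (S' : Scheme.{u}) (b : S' ⟶ S), BlowUp.IsBlowUp b 𝓘 ∧ BlowUp.IsAdmissibleFor U 𝓘 ∧
      ∀ (X' : Scheme.{u}) (p₁ : X' ⟶ X) (p₂ : X' ⟶ S'), IsPullback p₁ p₂ f b →
      ∀ (G : X'.Modules) (π : (Scheme.Modules.pullback p₁).obj F ⟶ G),
        BlowUp.IsStrictTransform p₁ (𝓘.comap f) F G π → CohB1.IsFP G ∧ FlatMod.IsFlatOver p₂ G := by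
  classical
  have hchart : ∀ x : X, ∃ (V : S.Opens) (W : X.Opens), IsAffineOpen V ∧ IsAffineOpen W ∧ x ∈ W ∧ W ≤ f ⁻¹ᵁ V := by
    intro x
    obtain ⟨_, ⟨V, hV, rfl⟩, hxV, -⟩ :=
      S.isBasis_affineOpens.exists_subset_of_mem_open (Set.mem_univ (f x)) isOpen_univ
    obtain ⟨_, ⟨W, hW, rfl⟩, hxW, hWV⟩ :=
      X.isBasis_affineOpens.exists_subset_of_mem_open hxV (f ⁻¹ᵁ V).isOpen
    exact ⟨V, W, hV, hW, hxW, hWV⟩
  choose V W hV hW hxW hWV using hchart
  obtain ⟨T, hT⟩ := isCompact_univ.elim_finite_subcover (fun x => (W x : Set X)) (fun x => (W x).2)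
    fun x _ => Set.mem_iUnion.mpr ⟨x, hxW x⟩
  choose J hJadm hJfl using fun x : X => exists_chart_centre f U hU F hqc hft hfpU hflU (hV x) (hW x) (hWV x)
  let 𝓘 := ∏ x ∈ T, J x
  obtain ⟨S', b, hb⟩ := H26Blow.exists_isBlowUp 𝓘
  refine ⟨𝓘, S', b, hb, ⟨H11Strict.isFiniteTypeIdeal_prod _ _ fun x => (hJadm x).1,
    H11Strict.disjoint_support_prod _ _ _ fun x => (hJadm x).2⟩, ?_⟩
  intro X' p₁ p₂ hc G π hG
  have hgood : ∀ x : X', ∃ Z : X'.Opens, IsAffineOpen Z ∧ x ∈ Z ∧ Module.FinitePresentation Γ(X', Z) Γ(G, Z) ∧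
      ∀ z ∈ Z, FlatMod.IsFlatOverAt p₂ G z := by
    intro x
    obtain ⟨i, hi, hxi⟩ := Set.mem_iUnion₂.mp (hT (Set.mem_univ (p₁ x)))
    have h𝓘 : 𝓘 = J i * ∏ j ∈ T.erase i, J j := (Finset.mul_prod_erase _ _ hi).symm
    rw [h𝓘] at hb hG
    exact exists_good_nhd f F hqc hft (hV i) (hW i) (hWV i) (J i) _ (hJfl i) b hb p₁ p₂ hc G π hG x hxi
  choose Z hZ hxZ hfp hfl using hgood
  haveI hGq : G.IsQuasicoherent := isQuasicoherent_strictTransform hc.w hb hqc hG
  exact ⟨H8Props.FinLocFree.isFP_of_affineCover G hGq Z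
    (eq_top_iff.2 fun x _ => Opens.mem_iSup.2 ⟨x, hxZ x⟩) hZ hfp, fun x => hfl x x (hxZ x)⟩

end Groth.Agent.H7Flat.Flatten
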