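import Groth.Agent.H7Flat.Flatten.Strat
import Groth.Agent.H7Flat.Chain.Main
import Mathlib

/-!
# Flattening by admissible blow-ups
-/

set_option autoImplicit false
set_option linter.style.haveILetI false
set_option backward.isDefEq.respectTransparency false
set_option maxHeartbeats 1000000

universe u

open TensorProduct

namespace Groth.Agent.H7Flat.Flatten

attribute [local instance] Algebra.TensorProduct.rightAlgebra

/-- A chart of the blow-up of the given ideal. -/
theorem exists_centre_first_chart {R R₁ D G : Type u} [CommRing R] [CommRing R₁] [Algebra R R₁] [CommRing D]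
    [Algebra R D] [Algebra.FinitePresentation R D] [Module.Flat R D] (hgi : FlatCA.GeomIntegralFibres R D) (m : ℕ)
    (hsm : FlatCA.SmoothRelDim m R D) (hlow : Below.{u} m) [AddCommGroup G] [Module D G] [Module.Finite D G]
    [Module R G] [IsScalarTower R D G] (f : R) (hgood : GoodAway R D G f) (J : Ideal R)
    (hJ : J.map (algebraMap R R₁) = Ideal.span {algebraMap R R₁ f})
    (S₁ M₁ : Type u) [CommRing S₁] [Algebra R₁ S₁] [Algebra R S₁] [Algebra D S₁] [IsScalarTower R R₁ S₁]
    [IsScalarTower R D S₁] [Algebra.IsPushout R R₁ D S₁] [AddCommGroup M₁] [Module S₁ M₁] [Module D M₁]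
    [IsScalarTower D S₁ M₁] [Module R₁ M₁] [IsScalarTower R₁ S₁ M₁] (φ : G →ₗ[D] M₁) (hφ : IsBaseChange S₁ φ) :
    ∃ I₁, Adm (J.map (algebraMap R R₁)) I₁ ∧ Flattening R₁ S₁ (M₁ ⧸ tors S₁ (algebraMap R R₁ f) M₁) I₁ := by
  haveI : Module.Finite S₁ M₁ := Module.Finite.equiv hφ.equiv
  haveI : Algebra.FinitePresentation R₁ S₁ := Algebra.FinitePresentation.equiv (Algebra.IsPushout.equiv R R₁ D S₁)
  haveI : Module.Flat R₁ S₁ := Module.Flat.isBaseChange R R₁ D S₁
    (Algebra.IsPushout.out : IsBaseChange R₁ (IsScalarTower.toAlgHom R D S₁).toLinearMap)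
  obtain ⟨I₁, hI₁, hfl⟩ := exists_flattening_of_single (geomIntegralFibres_baseChange R R₁ D S₁ hgi) m
    (H8Props.Devissage.smoothRelDim_baseChange R R₁ D S₁ m hsm) hlow (algebraMap R R₁ f)
    ((hgood.baseChange (A := R₁) φ hφ).quotient_tors)
  exact ⟨I₁, hJ.symm ▸ hI₁, hfl⟩

/-- Flattening a finite module over a smooth algebra with geometrically integral fibres. -/
theorem exists_flattening_of_smooth {R D G : Type u} [CommRing R] [CommRing D] [Algebra R D]
    (hgi : FlatCA.GeomIntegralFibres R D) (m : ℕ) (hsm : FlatCA.SmoothRelDim m R D) (hlow : Below.{u} m)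
    [AddCommGroup G] [Module D G] [Module.Finite D G] [Module R G] [IsScalarTower R D G] (s : Finset R)
    (hgood : ∀ j ∈ s, GoodAway R D G j) :
    ∃ I : Ideal R, Adm (Ideal.span (s : Set R)) I ∧ Flattening R D G I := by
  classical
  haveI := smooth_of_relDim hsm
  haveI : Module.Flat R D := inferInstance
  let a : Fin s.card → R := fun i => (s.equivFin.symm i).1
  have ha : Set.range a = (s : Set R) := by
    ext x
    constructor
    · rintro ⟨i, rfl⟩
      exact (s.equivFin.symm i).2
    · intro hx
      exact ⟨s.equivFin (⟨x, Finset.mem_coe.mp hx⟩ : {y // y ∈ s}), by simp [a]⟩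
  rw [← ha]
  refine exists_flattening_of_charts (Ideal.span (Set.range a)) (Submodule.fg_span (Set.finite_range a)) a
    ⟨Submodule.fg_span (Set.finite_range a), Ideal.le_radical⟩ fun i S₁ M₁ _ _ _ _ _ _ _ _ _ _ _ _ _ φ hφ => ?_
  exact exists_centre_first_chart hgi m hsm hlow (a i) (hgood _ (s.equivFin.symm i).2) _
    (affineAlgebra_map _ _ (show a i ∈ Ideal.span (Set.range a) from Ideal.subset_span ⟨i, rfl⟩)) S₁ M₁ φ hφ

/-- The zero module needs no blow-up. -/
theorem flattening_of_subsingleton {R S N : Type u} [CommRing R] [CommRing S] [Algebra R S] [AddCommGroup N]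
    [Module S N] [Subsingleton N] (I : Ideal R) : Flattening R S N I := by
  intro A _ _ t ht hI B M _ _ _ _ _ _ _ _ _ _ _ _ _ φ hφ
  haveI : Subsingleton (B ⊗[S] N) := by
    refine subsingleton_of_forall_eq 0 fun z => ?_
    induction z using TensorProduct.induction_on with
    | zero => rfl
    | tmul b x => rw [Subsingleton.elim x 0, tmul_zero]
    | add a b ha hb => rw [ha, hb, add_zero]
  haveI : Subsingleton M := hφ.equiv.symm.injective.subsingleton
  haveI : Subsingleton (M ⧸ tors B t M) := (Submodule.mkQ_surjective _).subsingleton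
  haveI : Module.Finite B (M ⧸ tors B t M) := inferInstance
  exact ⟨inferInstance, Module.finitePresentation_of_projective B _⟩

/-- Goodness along an etale neighbourhood. -/
theorem GoodAway.etale {R S N R' S' N' : Type u} [CommRing R] [CommRing S] [Algebra R S] [CommRing R'] [CommRing S']
    [Algebra R R'] [Algebra.Etale R R'] [Algebra R' S'] [Algebra R S'] [Algebra S S'] [IsScalarTower R R' S']
    [IsScalarTower R S S'] [Module.Flat S S'] [AddCommGroup N] [Module S N] [Module R N] [IsScalarTower R S N]
    [AddCommGroup N'] [Module S' N'] [Module S N'] [IsScalarTower S S' N'] [Module R' N'] [IsScalarTower R' S' N']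
    {j : R} (h : GoodAway R S N j) (φ : N →ₗ[S] N') (hφ : IsBaseChange S' φ) :
    GoodAway R' S' N' (algebraMap R R' j) := by
  have he : algebraMap R' S' (algebraMap R R' j) = algebraMap S S' (algebraMap R S j) := by
    rw [← IsScalarTower.algebraMap_apply, ← IsScalarTower.algebraMap_apply]
  refine ⟨(DevissageFP.fp_localized_baseChange hφ (Submonoid.powers (algebraMap R S j))
    (Submonoid.powers (algebraMap R' S' (algebraMap R R' j))) ?_).1 h.1, ?_⟩
  · rintro _ ⟨n, rfl⟩
    exact ⟨n, by dsimp only; rw [map_pow, he]⟩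
  · rw [DevissageLoc.flat_away_iff]
    intro Q _ hQ
    letI : Module R N' := Module.compHom N' (algebraMap R R')
    haveI : IsScalarTower R R' N' := .of_algebraMap_smul fun _ _ => rfl
    haveI : IsScalarTower R S' N' := .of_algebraMap_smul fun r x => by
      rw [IsScalarTower.algebraMap_apply R R' S', algebraMap_smul]
      rfl
    haveI : IsScalarTower R S N' := .of_algebraMap_smul fun r x => by
      rw [← algebraMap_smul S' (algebraMap R S r), ← IsScalarTower.algebraMap_apply, algebraMap_smul]
    exact (DevissageLoc.flat_localizedModule_etale_iff N' Q.primeCompl).mp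
      ((FlatAtFinite.flat_localizedModule_flat_iff (R := R) hφ Q).mp
        (h.flatAt _ fun hm => hQ (he ▸ hm)))

open FlatMor in
/-- The local dimension of the support is at most its dimension. -/
theorem localDim_le_supportDim (k : Type u) {A : Type u} [Field k] [CommRing A] [Algebra k A] [Algebra.FiniteType k A]
    (M : Type u) [AddCommGroup M] [Module A M] [Module.Finite A M] (x : PrimeSpectrum A)
    (hx : x ∈ Module.support A M) : localDim (Module.support A M) ⟨x, hx⟩ ≤ Module.supportDim A M := by
  rw [Chain.localDim_supp (k := k) M x hx]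
  refine iSup_le fun Q => ?_
  have hmem : ∀ P : PrimeSpectrum (A ⧸ Q.1.asIdeal),
      PrimeSpectrum.comap (Ideal.Quotient.mk Q.1.asIdeal) P ∈ Module.support A M := fun P =>
    Module.mem_support_mono (fun a ha => by
      show Ideal.Quotient.mk Q.1.asIdeal a ∈ P.asIdeal
      rw [Ideal.Quotient.eq_zero_iff_mem.mpr ha]
      exact zero_mem _) Q.2.1
  exact Order.krullDim_le_of_strictMono (fun P => ⟨_, hmem P⟩) fun P P' h =>
    lt_of_le_of_ne (Ideal.comap_mono h.le) fun he => h.ne (PrimeSpectrum.comap_injective_of_surjective _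
      Ideal.Quotient.mk_surjective (congrArg Subtype.val he))

/-- A member of the cover at a point. -/
theorem exists_member {R S N : Type u} [CommRing R] [CommRing S] [Algebra R S] [Algebra.FinitePresentation R S]
    [AddCommGroup N] [Module S N] [Module R N] [IsScalarTower R S N] [Module.Finite S N] (s : Finset R)
    (hgood : ∀ j ∈ s, GoodAway R S N j) (n : ℕ)
    (hdim : ∀ (p : Ideal R) [p.IsPrime],
      Module.supportDim (p.Fiber S) (FlatCA.fiberMod p S N) < (n : WithBot ℕ∞))
    (hlow : ∀ m, m < n → Below.{u} m) (q : PrimeSpectrum S) :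
    ∃ (g : S) (_ : g ∉ q.asIdeal) (R' S' N' : Type u) (_ : CommRing R') (_ : CommRing S') (_ : Algebra R R')
      (_ : Algebra.IsStandardEtale R R') (_ : Algebra R' S') (_ : Algebra R S') (_ : Algebra S S')
      (_ : IsScalarTower R R' S') (_ : IsScalarTower R S S') (_ : Module.Flat S S') (_ : AddCommGroup N')
      (_ : Module S' N') (_ : Module S N') (_ : IsScalarTower S S' N') (φ : N →ₗ[S] N') (I' : Ideal R'),
      IsBaseChange S' φ ∧ Adm ((Ideal.span (s : Set R)).map (algebraMap R R')) I' ∧ Flattening R' S' N' I' ∧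
      ∀ P : PrimeSpectrum S, g ∉ P.asIdeal →
        ∃ P' : PrimeSpectrum S', PrimeSpectrum.comap (algebraMap S S') P' = P := by
  classical
  by_cases hq : q ∈ Module.support S N
  swap
  · haveI : Subsingleton (LocalizedModule q.asIdeal.primeCompl N) := Module.notMem_support_iff.mp hq
    obtain ⟨u, hu, hu0⟩ := LocalizedModule.exists_subsingleton_away (M := N) q.asIdeal
    let S' := Localization.Away u
    haveI : Subsingleton (S' ⊗[S] N) :=
      (IsLocalizedModule.isBaseChange (Submonoid.powers u) S'
        (LocalizedModule.mkLinearMap (Submonoid.powers u) N)).equiv.injective.subsingleton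
    haveI : Module.Flat S S' := IsLocalization.flat _ (Submonoid.powers u)
    refine ⟨u, hu, R, S', S' ⊗[S] N, inferInstance, inferInstance, inferInstance, inferInstance, inferInstance,
      inferInstance, inferInstance, inferInstance, inferInstance, inferInstance, inferInstance, inferInstance,
      inferInstance, inferInstance, TensorProduct.mk S S' N 1, ⊤, TensorProduct.isBaseChange S N S', adm_top _,
      flattening_of_subsingleton ⊤, fun P hP => ?_⟩
    have hr : P ∈ Set.range (PrimeSpectrum.comap (algebraMap S S')) := by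
      rw [PrimeSpectrum.localization_away_comap_range S' u]
      exact hP
    exact hr
  let p : Ideal R := q.asIdeal.comap (algebraMap R S)
  haveI : q.asIdeal.LiesOver p := ⟨rfl⟩
  obtain ⟨x, hx, m, hxq, hm⟩ := Chain.exists_point N p q.asIdeal hq
  have hmn : m < n := by
    haveI : Module.Finite (p.Fiber S) (FlatCA.fiberMod p S N) :=
      inferInstanceAs (Module.Finite (p.Fiber S) ((p.Fiber S) ⊗[S] N))
    have h1 := (localDim_le_supportDim p.ResidueField (FlatCA.fiberMod p S N) x hx).trans_lt (hdim p)
    rw [hm] at h1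
    exact_mod_cast h1
  obtain ⟨E⟩ := ElemDev.exists_elemDevissage N p q.asIdeal m x hxq hx hm
  haveI : Algebra.Etale R E.R' := E.etaleR.1
  haveI : Algebra.Etale S E.S' := E.etaleS.1
  haveI : Module.Flat S E.S' := inferInstance
  haveI : Module.Finite E.D E.C := E.finiteDC
  haveI : Module.Finite E.C E.G := E.finiteG
  haveI : Algebra.FinitePresentation E.S' E.C := E.fpC
  haveI : Module.Finite E.S' E.C := Module.Finite.of_surjective (Algebra.linearMap E.S' E.C) E.surjC
  haveI : Module.FinitePresentation E.S' E.C := Module.FinitePresentation.of_finite_of_finitePresentation _ _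
  haveI : Algebra.FinitePresentation R E.S' := Algebra.FinitePresentation.trans R S E.S'
  haveI : Algebra.FinitePresentation E.R' E.S' := .of_restrict_scalars_finitePresentation R _ _
  haveI : Algebra.FinitePresentation E.R' E.C := Algebra.FinitePresentation.trans E.R' E.S' E.C
  haveI := smooth_of_relDim E.smooth
  haveI : Algebra.FinitePresentation E.D E.C := .of_restrict_scalars_finitePresentation E.R' _ _
  haveI : Module.FinitePresentation E.D E.C := Module.FinitePresentation.of_finite_of_finitePresentation _ _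
  haveI : Module.Finite E.D E.G := Module.Finite.trans E.C E.G
  haveI : Module.Finite E.S' E.N' := Module.Finite.equiv E.isBaseChange.equiv
  letI : Module E.R' E.N' := Module.compHom E.N' (algebraMap E.R' E.S')
  haveI : IsScalarTower E.R' E.S' E.N' := .of_algebraMap_smul fun _ _ => rfl
  haveI : IsScalarTower E.R' E.S' E.G := .of_algebraMap_smul fun r x => by
    rw [← algebraMap_smul E.C (algebraMap E.R' E.S' r), ← IsScalarTower.algebraMap_apply, algebraMap_smul]
  have hgoodG : ∀ j ∈ s.image (algebraMap R E.R'), GoodAway E.R' E.D E.G j := by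
    intro j hj
    obtain ⟨j₀, hj₀, rfl⟩ := Finset.mem_image.mp hj
    have h1 := (GoodAway.etale (R' := E.R') (S' := E.S') (hgood j₀ hj₀) E.f E.isBaseChange).congr E.iso
    exact (goodAway_comap_iff (R := E.R') (S := E.D) (C := E.C) _).mpr
      ((goodAway_comap_iff (R := E.R') (S := E.S') (C := E.C) _).mp h1)
  obtain ⟨I, hI, hfl⟩ := exists_flattening_of_smooth E.geomInt m E.smooth (hlow m hmn) _ hgoodG
  have hfl' : Flattening E.R' E.S' E.N' I :=
    ((hfl.extend (C := E.C)).restrict (S := E.S')).congr E.iso.symm
  obtain ⟨h', hh', hse⟩ := Algebra.IsEtaleAt.exists_isStandardEtale (R := R) E.p'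
  obtain ⟨L, B', M', _, _, iAL, iloc, _, _, _, _, _, _, _, _, _, _, _, _, _, _, _, ψ, hψ, hLf, hBf, hP⟩ :=
    exists_local_model (A := E.R') (B := E.S') (M := E.N') h'
  letI : Algebra R L := ((algebraMap E.R' L).comp (algebraMap R E.R')).toAlgebra
  haveI : IsScalarTower R E.R' L := IsScalarTower.of_algebraMap_eq fun _ => rfl
  haveI : Algebra.IsStandardEtale R L := by
    haveI := hse
    exact Algebra.IsStandardEtale.of_equiv
      ((IsLocalization.algEquiv (Submonoid.powers h') (Localization.Away h') L).restrictScalars R)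
  letI : Algebra R B' := ((algebraMap E.S' B').comp (algebraMap R E.S')).toAlgebra
  haveI : IsScalarTower R E.S' B' := IsScalarTower.of_algebraMap_eq fun _ => rfl
  letI : Algebra S B' := ((algebraMap E.S' B').comp (algebraMap S E.S')).toAlgebra
  haveI : IsScalarTower S E.S' B' := IsScalarTower.of_algebraMap_eq fun _ => rfl
  haveI : IsScalarTower R S B' := IsScalarTower.of_algebraMap_eq fun r => by
    rw [IsScalarTower.algebraMap_apply S E.S' B', ← IsScalarTower.algebraMap_apply R S E.S',
      ← IsScalarTower.algebraMap_apply R E.S' B']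
  haveI : IsScalarTower R L B' := IsScalarTower.of_algebraMap_eq fun r => by
    rw [IsScalarTower.algebraMap_apply R E.R' L, ← IsScalarTower.algebraMap_apply E.R' L B',
      IsScalarTower.algebraMap_apply E.R' E.S' B', ← IsScalarTower.algebraMap_apply R E.R' E.S',
      ← IsScalarTower.algebraMap_apply R E.S' B']
  letI : Module S M' := Module.compHom M' (algebraMap S E.S')
  haveI : IsScalarTower S E.S' M' := .of_algebraMap_smul fun _ _ => rfl
  haveI : IsScalarTower S B' M' := .of_algebraMap_smul fun a x => by
    rw [IsScalarTower.algebraMap_apply S E.S' B', algebraMap_smul, algebraMap_smul]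
  haveI : Module.Flat S B' := Module.Flat.trans S E.S' B'
  have hsq : algebraMap E.R' E.S' h' ∉ E.q' := fun hm =>
    hh' ((Ideal.LiesOver.over (p := E.p') (P := E.q')).ge hm)
  obtain ⟨g, hg, hgQ⟩ := DevissageLoc.exists_basicOpen_le_image (S := S) E.q' _ hsq
  obtain ⟨_, hover, -⟩ := E.etaleS
  refine ⟨g, fun hm => hg (hover.over.le hm), L, B', M', inferInstance, inferInstance, inferInstance, inferInstance,
    inferInstance, inferInstance, inferInstance, inferInstance, inferInstance, inferInstance, inferInstance,
    inferInstance, inferInstance, inferInstance, ψ.restrictScalars S ∘ₗ E.f, I.map (algebraMap E.R' L),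
    E.isBaseChange.comp hψ, ?_, hfl'.baseChange L B' M' ψ hψ, ?_⟩
  · refine ⟨hI.1.map _, ?_⟩
    rw [Finset.coe_image, ← Ideal.map_span] at hI
    rw [IsScalarTower.algebraMap_eq R E.R' L, ← Ideal.map_map]
    exact (Ideal.map_mono hI.2).trans (Ideal.map_radical_le _)
  · intro P hgP
    obtain ⟨Q, hQ, hhQ, hQP⟩ := hgQ P.asIdeal hgP
    obtain ⟨P', hP'⟩ := hP ⟨Q, hQ⟩ hhQ
    refine ⟨P', PrimeSpectrum.ext ?_⟩
    rw [← hQP, show Q = (PrimeSpectrum.comap (algebraMap E.S' B') P').asIdeal from
      (congrArg PrimeSpectrum.asIdeal hP').symm]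
    show Ideal.comap (algebraMap S B') P'.asIdeal = (P'.asIdeal.comap (algebraMap E.S' B')).comap (algebraMap S E.S')
    rw [Ideal.comap_comap, ← IsScalarTower.algebraMap_eq]

/-- Flattening by admissible blow-ups in every relative dimension. -/
theorem below (n : ℕ) : Below.{u} n := by
  induction n using Nat.strong_induction_on with
  | h n ih =>
  intro R S N _ _ _ _ _ _ _ _ _ s hgood hdim
  classical
  choose g hg Ri Si Ni iR iS iAR iSE iARS iRS iDS t1 t2 iF iN iMN iDN t3 φ I hφ hI hfl hP using
    fun q : PrimeSpectrum S => exists_member s hgood n hdim ih q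
  have htop : Ideal.span (Set.range g) = ⊤ := by
    by_contra hne
    obtain ⟨P, hP', hle⟩ := Ideal.exists_le_maximal _ hne
    exact hg ⟨P, hP'.isPrime⟩ (hle (Ideal.subset_span ⟨_, rfl⟩))
  obtain ⟨t, ht, h1⟩ := Submodule.mem_span_finite_of_mem_span ((Ideal.eq_top_iff_one _).mp htop)
  let e : Fin t.card ≃ {x // x ∈ t} := t.equivFin.symm
  choose pt hpt using fun i : Fin t.card => ht (e i).2
  refine exists_flattening_of_cover (Ideal.span (s : Set R)) (Submodule.fg_span s.finite_toSet) (fun i => Ri (pt i))
    (fun i => Si (pt i)) (fun i => Ni (pt i)) (fun P => ?_) (fun i => φ (pt i)) (fun i => hφ (pt i))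
    (fun i => I (pt i)) (fun i => hI (pt i)) (fun i => hfl (pt i))
  obtain ⟨i, hi⟩ : ∃ i, g (pt i) ∉ P.asIdeal := by
    by_contra! hall
    refine P.isPrime.ne_top ((Ideal.eq_top_iff_one _).mpr ?_)
    refine (Submodule.span_le.mpr fun x hx => ?_) h1
    have := hall (e.symm ⟨x, hx⟩)
    rwa [hpt, Equiv.apply_symm_apply] at this
  exact ⟨i, hP (pt i) P hi⟩

/-- Flattening by an admissible blow-up, affine case. -/
theorem exists_flattening {R S N : Type u} [CommRing R] [CommRing S] [Algebra R S] [Algebra.FinitePresentation R S]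
    [AddCommGroup N] [Module S N] [Module R N] [IsScalarTower R S N] [Module.Finite S N] (s : Finset R)
    (hgood : ∀ j ∈ s, GoodAway R S N j) :
    ∃ I : Ideal R, Adm (Ideal.span (s : Set R)) I ∧ Flattening R S N I := by
  obtain ⟨k, φ, hφ, -⟩ := Algebra.FinitePresentation.out (R := R) (A := S)
  refine below (k + 1) R S N s hgood fun p _ => ?_
  have h1 : Module.supportDim (p.Fiber S) (FlatCA.fiberMod p S N) ≤ ringKrullDim (p.Fiber S) :=
    Order.krullDim_le_of_strictMono (fun x => x.1) fun _ _ h => h
  let ψ := Algebra.TensorProduct.map (AlgHom.id p.ResidueField p.ResidueField) φ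
  have hψ : Function.Surjective ψ := LinearMap.lTensor_surjective p.ResidueField hφ
  have h2 : ringKrullDim (p.Fiber S) ≤ ringKrullDim (p.ResidueField ⊗[R] MvPolynomial (Fin k) R) :=
    ringKrullDim_le_of_surjective ψ.toRingHom hψ
  have h3 : ringKrullDim (p.ResidueField ⊗[R] MvPolynomial (Fin k) R) = (k : WithBot ℕ∞) := by
    rw [ringKrullDim_eq_of_ringEquiv (MvPolynomial.algebraTensorAlgEquiv R p.ResidueField).toRingEquiv,
      MvPolynomial.ringKrullDim_of_isNoetherianRing, ringKrullDim_eq_zero_of_field, zero_add, Nat.card_eq_fintype_card, Fintype.card_fin]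
  calc Module.supportDim (p.Fiber S) (FlatCA.fiberMod p S N) ≤ (k : WithBot ℕ∞) :=
        h1.trans (h2.trans h3.le)
    _ < ((k + 1 : ℕ) : WithBot ℕ∞) := by exact_mod_cast Nat.lt_succ_self k

end Groth.Agent.H7Flat.Flatten
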