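import Groth.Agent.H7Flat.Flatten.Sub
import Groth.Agent.H18HTop.AlmostBlowUp
import Groth.Agent.H11Strict.Residual
import Mathlib

/-!
# Strict transforms as schematic closures
-/

set_option autoImplicit false
set_option linter.style.haveILetI false
set_option backward.isDefEq.respectTransparency false
set_option maxHeartbeats 1000000

universe u

open AlgebraicGeometry CategoryTheory Limits TopologicalSpace Opposite HTop

namespace Groth.Agent.H7Flat.Flatten

/-- A locally principal ideal is of finite type. -/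
theorem isFiniteTypeIdeal_of_locPrincipal {X : Scheme.{u}} {E : X.IdealSheafData} (hE : HTop.IsLocPrincipal E) :
    BlowUp.IsFiniteTypeIdeal E := fun V => by
  refine H7Lim.fg_of_cover V.2 _ fun y hy => ?_
  obtain ⟨U, hyU, f, hf⟩ := hE y
  obtain ⟨r, hr, hyr⟩ := V.2.exists_basicOpen_le (V := U.1) ⟨y, hyU⟩ hy
  refine ⟨r, hyr, ?_⟩
  rw [show (E.ideal V).map (X.presheaf.map (homOfLE (X.basicOpen_le r)).op).hom =
      E.ideal ⟨X.basicOpen r, V.2.basicOpen r⟩ from E.map_ideal (U := ⟨_, V.2.basicOpen r⟩) (X.basicOpen_le r),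
    ← E.map_ideal (U := ⟨X.basicOpen r, V.2.basicOpen r⟩) (V := U) hr, hf]
  exact Ideal.FG.map ⟨{f}, by simp⟩ _

theorem res_eq_zero_of_le {X : Scheme.{u}} {U V W : X.Opens} (h₁ : W ≤ V) (h₂ : V ≤ U) (a : Γ(X, U))
    (h : X.presheaf.map (homOfLE h₂).op a = 0) : X.presheaf.map (homOfLE (h₁.trans h₂)).op a = 0 := by
  have h' := congrArg (X.presheaf.map (homOfLE h₁).op) h
  rw [map_zero, ← ConcreteCategory.comp_apply, ← Functor.map_comp] at h'
  exact h'

/-- The sections supported on a locally principal ideal are those killed by a power of it. -/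
theorem mem_supportedOn_iff_killed {X : Scheme.{u}} {E : X.IdealSheafData} (hE : HTop.IsLocPrincipal E)
    (V : X.affineOpens) (a : Γ(X, V.1)) :
    a ∈ (supportedOn E).ideal V ↔ BlowUp.KilledByPowerNear E (Coh.structureModule X) V a := by
  haveI := H18HTop.quasiCompact_awayFrom_ι hE
  let K : Ideal Γ(X, V.1) := (⊥ : Ideal Γ(X, V.1)).colon (Ideal.span {a})
  have hK : ∀ e, e ∈ K ↔ e * a = 0 := fun e => by
    rw [Submodule.mem_colon_span_singleton, Submodule.mem_bot, smul_eq_mul]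
  have hker : a ∈ (supportedOn E).ideal V ↔ (awayFrom E).ι.app V.1 a = 0 := by
    rw [supportedOn, Scheme.Hom.ker_apply]
    exact Iff.rfl
  have hbasic : ∀ e ∈ E.ideal V, X.basicOpen e ≤ awayFrom E :=
    fun e he x hx => H29Blow.basicOpen_disjoint_support he hx
  rw [hker]
  constructor
  · intro h
    have hrad : E.ideal V ≤ K.radical := fun e he => by
      have h1 : X.presheaf.map (homOfLE (X.basicOpen_le e)).op a = 0 := by
        have hle : X.basicOpen e ≤ (awayFrom E).ι ''ᵁ ((awayFrom E).ι ⁻¹ᵁ V.1) := by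
          rw [Scheme.Hom.image_preimage_eq_opensRange_inf, Scheme.Opens.opensRange_ι]
          exact le_inf (hbasic e he) (X.basicOpen_le e)
        rw [Scheme.Opens.ι_app] at h
        exact res_eq_zero_of_le hle _ a h
      haveI := V.2.isLocalization_basicOpen e
      obtain ⟨⟨_, n, rfl⟩, hn⟩ := (IsLocalization.map_eq_zero_iff (Submonoid.powers e) Γ(X, X.basicOpen e) a).1 h1
      exact ⟨n, (hK _).2 hn⟩
    obtain ⟨n, hn⟩ := Ideal.exists_pow_le_of_le_radical_of_fg hrad (isFiniteTypeIdeal_of_locPrincipal hE V)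
    refine ⟨n, fun b hb => ?_⟩
    rw [Scheme.IdealSheafData.ideal_pow, Pi.pow_apply] at hb
    exact (hK b).1 (hn hb)
  · rintro ⟨n, hn⟩
    rw [Scheme.Opens.ι_app]
    refine TopCat.Presheaf.section_ext X.sheaf _ _ _ fun x hx => ?_
    obtain ⟨⟨x, hxO⟩, hxV, rfl⟩ := hx
    have hxs : x ∉ (E.support : Set X) := hxO
    obtain ⟨e, he, hxe⟩ : ∃ e ∈ E.ideal V, x ∈ X.basicOpen e := by
      by_contra! hne
      refine hxs ((Scheme.IdealSheafData.mem_support_iff_of_mem (U := V) hxV).mpr ?_)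
      rw [Scheme.mem_zeroLocus_iff]
      exact fun g hg => hne g hg
    have h0 : e ^ n * a = 0 := hn (e ^ n) (by
      rw [Scheme.IdealSheafData.ideal_pow, Pi.pow_apply]
      exact Ideal.pow_mem_pow he n)
    show X.presheaf.germ _ x _ _ = X.presheaf.germ _ x _ 0
    rw [map_zero]
    refine (X.presheaf.germ_res_apply _ _ _ _).trans ?_
    have h1 := congrArg (X.presheaf.germ V.1 x hxV) h0
    rw [map_mul, map_pow, map_zero] at h1
    exact (((Scheme.mem_basicOpen X e x hxV).mp hxe).pow n).mul_right_eq_zero.mp h1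

/-- The strict transform ideal is the ideal of sections supported on the exceptional ideal. -/
theorem eq_supportedOn {X : Scheme.{u}} {E : X.IdealSheafData} (hE : HTop.IsLocPrincipal E) (𝒥 : X.IdealSheafData)
    (h : ∀ (V : X.affineOpens) (a : Γ(X, V.1)), a ∈ 𝒥.ideal V ↔
      BlowUp.KilledByPowerNear E (Coh.structureModule X) V a) : 𝒥 = supportedOn E :=
  Scheme.IdealSheafData.ext (funext fun V => Ideal.ext fun a =>
    (h V a).trans (mem_supportedOn_iff_killed hE V a).symm)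

/-- Away from the ideal nothing is cut out. -/
theorem isIso_subschemeι_restrict {X : Scheme.{u}} (E : X.IdealSheafData) :
    IsIso ((supportedOn E).subschemeι ∣_ awayFrom E) := by
  let U := awayFrom E
  let w := (supportedOn E).subschemeι
  have hle : w.ker ≤ U.ι.ker := by rw [Scheme.IdealSheafData.ker_subschemeι]; exact le_rfl
  let s : U.toScheme ⟶ (supportedOn E).subscheme := IsClosedImmersion.lift w U.ι hle
  have hs : s ≫ w = U.ι := IsClosedImmersion.lift_fac _ _ _
  have hr : Set.range s ⊆ Set.range (w ⁻¹ᵁ U).ι := by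
    rintro _ ⟨z, rfl⟩
    rw [Scheme.Opens.range_ι]
    change w (s z) ∈ U
    rw [← Scheme.Hom.comp_apply, hs]
    exact z.2
  have hid : IsOpenImmersion.lift (w ⁻¹ᵁ U).ι s hr ≫ (w ∣_ U) = 𝟙 _ := by
    rw [← cancel_mono U.ι, Category.assoc, morphismRestrict_ι,
      IsOpenImmersion.lift_fac_assoc, hs, Category.id_comp]
  haveI : IsClosedImmersion (w ∣_ U) :=
    IsZariskiLocalAtTarget.restrict (P := @IsClosedImmersion) inferInstance _
  haveI : IsSplitEpi (w ∣_ U) := IsSplitEpi.mk' ⟨_, hid⟩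
  exact isIso_of_mono_of_isSplitEpi _

/-- The restriction of a base change over the preimage of an open is a base change of the restriction. -/
theorem property_restrict_of_isPullback {P : MorphismProperty Scheme.{u}} [P.IsStableUnderBaseChange]
    {X S X' S' : Scheme.{u}} {f : X ⟶ S} {b : S' ⟶ S} {p₁ : X' ⟶ X} {p₂ : X' ⟶ S'}
    (hc : IsPullback p₁ p₂ f b) (U : S.Opens) (h : P (f ∣_ U)) : P (p₂ ∣_ (b ⁻¹ᵁ U)) := by
  let l : (p₂ ⁻¹ᵁ (b ⁻¹ᵁ U) : Scheme.{u}) ⟶ (f ⁻¹ᵁ U : Scheme.{u}) :=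
    IsOpenImmersion.lift (f ⁻¹ᵁ U).ι ((p₂ ⁻¹ᵁ (b ⁻¹ᵁ U)).ι ≫ p₁) (by
      rintro _ ⟨z, rfl⟩
      rw [Scheme.Opens.range_ι]
      show f (p₁ z.1) ∈ U
      rw [← Scheme.Hom.comp_apply, hc.w]
      exact z.2)
  have hl : l ≫ (f ⁻¹ᵁ U).ι = (p₂ ⁻¹ᵁ (b ⁻¹ᵁ U)).ι ≫ p₁ := IsOpenImmersion.lift_fac _ _ _
  have hbig : IsPullback (l ≫ (f ⁻¹ᵁ U).ι) (p₂ ∣_ (b ⁻¹ᵁ U)) f ((b ∣_ U) ≫ U.ι) := by
    rw [hl, morphismRestrict_ι]
    exact (isPullback_morphismRestrict p₂ (b ⁻¹ᵁ U)).flip.paste_horiz hc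
  have hsq := IsPullback.of_right hbig ?_ (isPullback_morphismRestrict f U).flip
  · exact MorphismProperty.of_isPullback hsq h
  · rw [← cancel_mono U.ι, Category.assoc, Category.assoc, morphismRestrict_ι, morphismRestrict_ι,
      ← Category.assoc, hl, morphismRestrict_ι_assoc, Category.assoc, hc.w]

/-- The strict transform restricts to the base change over the open. -/
theorem property_strict_restrict {P : MorphismProperty Scheme.{u}} [P.IsStableUnderBaseChange] [P.RespectsIso]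
    {X S X' S' : Scheme.{u}} {f : X ⟶ S} {b : S' ⟶ S} {p₁ : X' ⟶ X} {p₂ : X' ⟶ S'}
    (hc : IsPullback p₁ p₂ f b) (𝓘 : S.IdealSheafData) (h : P (f ∣_ awayFrom 𝓘)) :
    P (((supportedOn ((𝓘.comap f).comap p₁)).subschemeι ≫ p₂) ∣_ (b ⁻¹ᵁ awayFrom 𝓘)) := by
  have hO : p₂ ⁻¹ᵁ (b ⁻¹ᵁ awayFrom 𝓘) = awayFrom ((𝓘.comap f).comap p₁) := by
    rw [← H18HTop.awayFrom_comap, ← H18HTop.awayFrom_comap, ← Scheme.IdealSheafData.comap_comp,
      ← Scheme.IdealSheafData.comap_comp, hc.w]
  rw [morphismRestrict_comp]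
  haveI : IsIso ((supportedOn ((𝓘.comap f).comap p₁)).subschemeι ∣_ (p₂ ⁻¹ᵁ (b ⁻¹ᵁ awayFrom 𝓘))) := by
    rw [hO]; exact isIso_subschemeι_restrict _
  rw [P.cancel_left_of_respectsIso]
  exact property_restrict_of_isPullback hc _ h

/-- A finite type ideal cutting out the complement of a quasi-compact open. -/
theorem exists_centre_awayFrom_eq {S : Scheme.{u}} [CompactSpace S] [QuasiSeparatedSpace S] (U : S.Opens)
    (hU : IsCompact (U : Set S)) : ∃ K : S.IdealSheafData, BlowUp.IsFiniteTypeIdeal K ∧ awayFrom K = U := by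
  let J := Scheme.IdealSheafData.vanishingIdeal ⟨(U : Set S)ᶜ, U.2.isClosed_compl⟩
  have hJ : (J.support : Set S) = (U : Set S)ᶜ := by
    simp [J]
  obtain ⟨F, hFJ, hF, hFd⟩ := H11Strict.exists_ft_le_disjoint J U hU (by rw [hJ]; exact disjoint_compl_left)
  refine ⟨F, hF, Opens.ext ?_⟩
  refine Set.Subset.antisymm (fun x hx => ?_) fun x hx hxF => Set.disjoint_left.mp hFd hxF hx
  by_contra hxU
  exact hx (Scheme.IdealSheafData.support_antitone hFJ (hJ ▸ hxU : x ∈ (J.support : Set S)))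

/-- Flattening by a blow-up whose centre is exactly the complement of the open. -/
theorem exists_strict_flattening {X S : Scheme.{u}} [CompactSpace S] [QuasiSeparatedSpace S]
    (f : X ⟶ S) [LocallyOfFiniteType f] [QuasiCompact f] [QuasiSeparated f] (U : S.Opens) (hU : IsCompact (U : Set S))
    [Flat (f ∣_ U)] [LocallyOfFinitePresentation (f ∣_ U)] :
    ∃ (𝓘 : S.IdealSheafData) (S' : Scheme.{u}) (b : S' ⟶ S), BlowUp.IsBlowUp b 𝓘 ∧ BlowUp.IsAdmissibleFor U 𝓘 ∧
      awayFrom 𝓘 = U ∧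
      ∀ (X' : Scheme.{u}) (p₁ : X' ⟶ X) (p₂ : X' ⟶ S'), IsPullback p₁ p₂ f b →
        let g := (supportedOn ((𝓘.comap f).comap p₁)).subschemeι ≫ p₂
        Flat g ∧ LocallyOfFinitePresentation g ∧ QuasiCompact g ∧ QuasiSeparated g := by
  obtain ⟨J, hJ, hflat⟩ := exists_flattening_centre_sub f U hU
  obtain ⟨K, hK, hKU⟩ := exists_centre_awayFrom_eq U hU
  obtain ⟨S', b, hb⟩ := H26Blow.exists_isBlowUp (J * K)
  have hsupp : awayFrom (J * K) = U := by
    refine Opens.ext ?_
    show (((J * K).support : Set S))ᶜ = _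
    have hK' : (K.support : Set S)ᶜ = (U : Set S) := congrArg (fun V : S.Opens => (V : Set S)) hKU
    rw [Scheme.IdealSheafData.support_mul, Closeds.coe_sup, Set.compl_union, hK', Set.inter_eq_right,
      Set.subset_compl_iff_disjoint_left]
    exact hJ.2
  refine ⟨J * K, S', b, hb, ⟨H11Strict.isFiniteTypeIdeal_mul hJ.1 hK, ?_⟩, hsupp, fun X' p₁ p₂ hc => ?_⟩
  · rw [← hsupp]
    exact disjoint_compl_right
  · refine hflat K S' b hb X' p₁ p₂ hc _ fun V a => mem_supportedOn_iff_killed ?_ V a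
    rw [← Scheme.IdealSheafData.comap_comp, hc.w, Scheme.IdealSheafData.comap_comp]
    exact H18HTop.isLocPrincipal_comap (H18HTop.isLocPrincipal_of_isEffCartierIdeal hb.1) p₂

end Groth.Agent.H7Flat.Flatten
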