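import Groth.Agent.H7Flat.Flatten.Glue
import Mathlib

/-!
# Flattening of schemes by admissible blow-ups
-/

set_option autoImplicit false
set_option linter.style.haveILetI false
set_option backward.isDefEq.respectTransparency false
set_option maxHeartbeats 1000000

universe u

open AlgebraicGeometry CategoryTheory Limits TopologicalSpace Opposite TensorProduct

namespace Groth.Agent.H7Flat.Flatten

/-- Blowing up `I` makes the strict transform of the algebra `C` flat and finitely presented. -/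
def AlgFlattening (R C : Type u) [CommRing R] [CommRing C] [Algebra R C] (I : Ideal R) : Prop :=
  ∀ (A : Type u) [CommRing A] [Algebra R A] (t : A), t ∈ nonZeroDivisors A →
    I.map (algebraMap R A) = Ideal.span {t} →
    ∀ (B : Type u) [CommRing B] [Algebra A B] [Algebra R B] [Algebra C B] [IsScalarTower R A B]
      [IsScalarTower R C B] [Algebra.IsPushout R A C B],
      Module.Flat A (B ⧸ tors B t B) ∧ Algebra.FinitePresentation A (B ⧸ tors B t B)

/-- A finitely presented algebra over a polynomial presentation gives a good module. -/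
theorem goodAway_of_localization {R P C L : Type u} [CommRing R] [CommRing P] [CommRing C] [CommRing L]
    [Algebra R P] [Algebra.FinitePresentation R P] [Algebra R C] [Algebra P C] [IsScalarTower R P C]
    (hsurj : Function.Surjective (algebraMap P C)) [Algebra R L] [Algebra C L] [IsScalarTower R C L]
    (j : R) [IsLocalization.Away (algebraMap R C j) L] [Module.Flat R L] [Algebra.FinitePresentation R L] :
    GoodAway R P C j := by
  let T := Submonoid.powers (algebraMap R P j)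
  letI : Algebra P L := ((algebraMap C L).comp (algebraMap P C)).toAlgebra
  haveI : IsScalarTower P C L := .of_algebraMap_eq fun _ => rfl
  haveI : IsScalarTower R P L := .of_algebraMap_eq fun r => by
    show _ = algebraMap C L (algebraMap P C (algebraMap R P r))
    rw [← IsScalarTower.algebraMap_apply R P C, ← IsScalarTower.algebraMap_apply R C L]
  have hT : Algebra.algebraMapSubmonoid C T = Submonoid.powers (algebraMap R C j) := by
    rw [Algebra.algebraMapSubmonoid_powers, ← IsScalarTower.algebraMap_apply R P C]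
  haveI : IsLocalization (Algebra.algebraMapSubmonoid C T) L := by rw [hT]; infer_instance
  haveI : IsLocalizedModule T (IsScalarTower.toAlgHom P C L).toLinearMap :=
    isLocalizedModule_iff_isLocalization.mpr inferInstance
  let e := IsLocalizedModule.iso T (IsScalarTower.toAlgHom P C L).toLinearMap
  refine ⟨?_, Module.Flat.of_linearEquiv (e.restrictScalars R)⟩
  let Pj := Localization.Away (algebraMap R P j)
  have hu : ∀ y : T, IsUnit (algebraMap P L y) := fun y =>
    IsLocalization.map_units L (⟨algebraMap P C y, _, y.2, rfl⟩ : Algebra.algebraMapSubmonoid C T)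
  let g : Pj →ₐ[P] L := IsLocalization.liftAlgHom (M := T) (f := Algebra.ofId P L) hu
  letI : Algebra Pj L := g.toRingHom.toAlgebra
  haveI : IsScalarTower P Pj L := .of_algebraMap_eq fun x => (g.commutes x).symm
  have hg : Function.Surjective g := fun l => by
    obtain ⟨⟨c, w⟩, hw⟩ := IsLocalization.surj (Algebra.algebraMapSubmonoid C T) l
    obtain ⟨p, rfl⟩ := hsurj c
    obtain ⟨y, hy, hyw⟩ := w.2
    refine ⟨IsLocalization.mk' Pj p (⟨y, hy⟩ : T), (hu ⟨y, hy⟩).mul_left_inj.mp ?_⟩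
    conv_lhs => rw [← g.commutes y, ← map_mul, IsLocalization.mk'_spec, g.commutes]
    show algebraMap C L (algebraMap P C p) = l * algebraMap C L (algebraMap P C y)
    rw [← hw]
    exact congrArg (fun z => l * algebraMap C L z) hyw.symm
  haveI : Algebra.FinitePresentation P Pj := IsLocalization.Away.finitePresentation (algebraMap R P j)
  haveI : Algebra.FinitePresentation R Pj := Algebra.FinitePresentation.trans R P Pj
  have hker := Algebra.FinitePresentation.ker_fG_of_surjective (g.restrictScalars R) hg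
  haveI : Module.FinitePresentation Pj L :=
    Module.finitePresentation_of_surjective (Algebra.linearMap Pj L) hg hker
  exact Module.FinitePresentation.of_equiv (LinearEquiv.extendScalarsOfIsLocalization T Pj e).symm

/-- A good quotient of a finitely presented algebra as a module is good as an algebra. -/
theorem algGood_of_tfGood {A T B : Type u} [CommRing A] [CommRing T] [CommRing B] [Algebra A T]
    [Algebra.FinitePresentation A T] [Algebra A B] [Algebra T B] [IsScalarTower A T B]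
    (hsurj : Function.Surjective (algebraMap T B)) (t : A) (h : TFGood T t B) :
    Module.Flat A (B ⧸ tors B t B) ∧ Algebra.FinitePresentation A (B ⧸ tors B t B) := by
  obtain ⟨hfl, hfp⟩ := h
  haveI := hfl
  haveI := hfp
  let e : (B ⧸ tors T t B) ≃ₗ[T] (B ⧸ tors B t B) :=
    Submodule.quotEquivOfEq _ _ (tors_restrictScalars t).symm ≪≫ₗ Submodule.Quotient.restrictScalarsEquiv T _
  haveI : Module.FinitePresentation T (B ⧸ tors B t B) := Module.FinitePresentation.of_equiv e
  refine ⟨Module.Flat.of_linearEquiv (e.restrictScalars A).symm, ?_⟩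
  let f : T →ₐ[A] B ⧸ tors B t B := (Ideal.Quotient.mkₐ A _).comp (IsScalarTower.toAlgHom A T B)
  have hf : Function.Surjective f := Ideal.Quotient.mk_surjective.comp hsurj
  exact Algebra.FinitePresentation.of_surjective hf
    (Module.FinitePresentation.fg_ker (Algebra.linearMap T (B ⧸ tors B t B)) hf)

/-- A flattening centre for a presentation flattens the algebra. -/
theorem algFlattening_of_flattening {R P C : Type u} [CommRing R] [CommRing P] [CommRing C] [Algebra R P]
    [Algebra.FinitePresentation R P] [Algebra R C] [Algebra P C] [IsScalarTower R P C]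
    (hsurj : Function.Surjective (algebraMap P C)) {I : Ideal R} (h : Flattening R P C I) :
    AlgFlattening R C I := by
  intro A _ _ t ht hI B _ _ _ _ _ _ _
  let T := A ⊗[R] P
  letI : Algebra P T := Algebra.TensorProduct.rightAlgebra
  haveI : IsScalarTower R P T := Algebra.TensorProduct.right_isScalarTower
  let θ : T →ₐ[A] B := Algebra.TensorProduct.lift (Algebra.ofId A B)
    ((IsScalarTower.toAlgHom R C B).comp (IsScalarTower.toAlgHom R P C)) fun _ _ => .all _ _
  letI : Algebra T B := θ.toRingHom.toAlgebra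
  letI : Algebra P B := ((algebraMap C B).comp (algebraMap P C)).toAlgebra
  haveI : IsScalarTower P C B := .of_algebraMap_eq fun _ => rfl
  haveI : IsScalarTower A T B := .of_algebraMap_eq fun a => (θ.commutes a).symm
  haveI : IsScalarTower P T B := .of_algebraMap_eq fun p => by
    show _ = θ ((1 : A) ⊗ₜ[R] p)
    rw [Algebra.TensorProduct.lift_tmul, map_one, one_mul]
    rfl
  haveI : IsScalarTower R T B := .of_algebraMap_eq fun r => by
    rw [IsScalarTower.algebraMap_apply R A T, ← IsScalarTower.algebraMap_apply A T B,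
      ← IsScalarTower.algebraMap_apply]
  haveI : Algebra.IsPushout R P A T := Algebra.IsPushout.symm inferInstance
  haveI : Algebra.IsPushout P C T B :=
    (Algebra.IsPushout.comp_iff (R := R) (S := P) (R' := A) (S' := T) (T := C) (T' := B)).mp
      (Algebra.IsPushout.symm ‹_›)
  have hbc : IsBaseChange T (IsScalarTower.toAlgHom P C B).toLinearMap :=
    (Algebra.IsPushout.symm (R := P) (S := C) (R' := T) (S' := B) ‹_›).out
  have hθ : Function.Surjective (algebraMap T B) := fun b => by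
    refine hbc.inductionOn b _ ⟨0, map_zero _⟩ (fun c => ?_) (fun s b hb => ?_) fun b₁ b₂ h₁ h₂ => ?_
    · obtain ⟨p, rfl⟩ := hsurj c
      exact ⟨algebraMap P T p, (IsScalarTower.algebraMap_apply P T B p).symm⟩
    · obtain ⟨y, rfl⟩ := hb
      exact ⟨s * y, by rw [map_mul, Algebra.smul_def]⟩
    · obtain ⟨y₁, rfl⟩ := h₁
      obtain ⟨y₂, rfl⟩ := h₂
      exact ⟨y₁ + y₂, map_add _ _ _⟩
  exact algGood_of_tfGood hθ t (h A t ht hI T B (IsScalarTower.toAlgHom P C B).toLinearMap hbc)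

/-- A finite type algebra, good over the basic opens of finitely many functions, has a flattening centre. -/
theorem exists_algFlattening {R C : Type u} [CommRing R] [CommRing C] [Algebra R C] [Algebra.FiniteType R C]
    (s : Finset R) (h : ∀ j ∈ s, ∀ (L : Type u) [CommRing L] [Algebra R L] [Algebra C L] [IsScalarTower R C L]
      [IsLocalization.Away (algebraMap R C j) L], Module.Flat R L ∧ Algebra.FinitePresentation R L) :
    ∃ I : Ideal R, Adm (Ideal.span (s : Set R)) I ∧ ∀ K : Ideal R, AlgFlattening R C (I * K) := by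
  obtain ⟨n, φ, hφ⟩ := Algebra.FiniteType.iff_quotient_mvPolynomial''.mp ‹Algebra.FiniteType R C›
  letI : Algebra (MvPolynomial (Fin n) R) C := φ.toRingHom.toAlgebra
  haveI : IsScalarTower R (MvPolynomial (Fin n) R) C := .of_algebraMap_eq fun r => (φ.commutes r).symm
  haveI : Module.Finite (MvPolynomial (Fin n) R) C := Module.Finite.of_surjective (Algebra.linearMap _ C) hφ
  obtain ⟨I, hI, hfl⟩ := exists_flattening (S := MvPolynomial (Fin n) R) (N := C) s fun j hj => by
    obtain ⟨hf, hp⟩ := h j hj (Localization.Away (algebraMap R C j))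
    haveI := hf
    haveI := hp
    exact goodAway_of_localization (L := Localization.Away (algebraMap R C j)) hφ j
  exact ⟨I, hI, fun K => algFlattening_of_flattening hφ (hfl.mul K)⟩

/-- Flatness and finite presentation do not depend on the model of a localisation. -/
theorem flat_fp_of_algEquiv {R L L' : Type u} [CommRing R] [CommRing L] [CommRing L'] [Algebra R L] [Algebra R L']
    (e : L ≃ₐ[R] L') [Module.Flat R L] [Algebra.FinitePresentation R L] :
    Module.Flat R L' ∧ Algebra.FinitePresentation R L' :=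
  ⟨Module.Flat.of_linearEquiv e.symm.toLinearEquiv, Algebra.FinitePresentation.equiv e⟩

/-- An affine chart of a morphism has an admissible centre flattening it. -/
theorem exists_chart_centre_sub {X S : Scheme.{u}} [CompactSpace S] [QuasiSeparatedSpace S] (f : X ⟶ S)
    [LocallyOfFiniteType f] (U : S.Opens) (hU : IsCompact (U : Set S)) [Flat (f ∣_ U)]
    [LocallyOfFinitePresentation (f ∣_ U)] {V : S.Opens} (hV : IsAffineOpen V) {W : X.Opens} (hW : IsAffineOpen W)
    (hWV : W ≤ f ⁻¹ᵁ V) :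
    ∃ J : S.IdealSheafData, BlowUp.IsAdmissibleFor U J ∧ ∀ K : S.IdealSheafData,
      letI := (f.appLE V W hWV).hom.toAlgebra
      AlgFlattening Γ(S, V) Γ(X, W) ((J * K).ideal ⟨V, hV⟩) := by
  letI := (f.appLE V W hWV).hom.toAlgebra
  haveI : Algebra.FiniteType Γ(S, V) Γ(X, W) := f.finiteType_appLE hV hW hWV
  obtain ⟨s, hsU, hs⟩ := exists_finset_eq_inter U hU hV
  have hgood : ∀ j ∈ s, ∀ (L : Type u) [CommRing L] [Algebra Γ(S, V) L] [Algebra Γ(X, W) L]
      [IsScalarTower Γ(S, V) Γ(X, W) L] [IsLocalization.Away (algebraMap Γ(S, V) Γ(X, W) j) L],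
      Module.Flat Γ(S, V) L ∧ Algebra.FinitePresentation Γ(S, V) L := fun j hj L _ _ _ _ _ => by
    let j' : Γ(X, W) := algebraMap Γ(S, V) Γ(X, W) j
    let O := f ⁻¹ᵁ U
    have hle : X.basicOpen j' ≤ O := (Scheme.basicOpen_appLE f W V hWV j).le.trans
      (inf_le_right.trans (f.preimage_mono (hsU j hj)))
    have hleV : X.basicOpen j' ≤ f ⁻¹ᵁ V := (X.basicOpen_le j').trans hWV
    have hr : X.basicOpen j' ≤ O.ι.opensRange := hle.trans_eq O.opensRange_ι.symm
    have hO : IsAffineOpen (O.ι ⁻¹ᵁ X.basicOpen j') := (hW.basicOpen j').preimage_of_isOpenImmersion O.ι hr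
    haveI := O.ι.isIso_app (X.basicOpen j') hr
    haveI : IsIso (O.ι.appLE (X.basicOpen j') (O.ι ⁻¹ᵁ X.basicOpen j') le_rfl) := by
      rw [← Scheme.Hom.app_eq_appLE]; infer_instance
    haveI : Flat (O.ι ≫ f) := by rw [← morphismRestrict_ι]; infer_instance
    haveI : LocallyOfFinitePresentation (O.ι ≫ f) := by rw [← morphismRestrict_ι]; infer_instance
    have h : O.ι ⁻¹ᵁ X.basicOpen j' ≤ (O.ι ≫ f) ⁻¹ᵁ V := O.ι.preimage_mono hleV
    have h1 : (O.ι ≫ f).appLE V _ h = f.appLE V (X.basicOpen j') hleV ≫ O.ι.appLE _ _ le_rfl :=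
      (Scheme.Hom.appLE_comp_appLE O.ι f _ _ _ _ _).symm
    letI := (f.appLE V (X.basicOpen j') hleV).hom.toAlgebra
    haveI : Module.Flat Γ(S, V) Γ(X, X.basicOpen j') := by
      have h2 := HasRingHomProperty.appLE @Flat (O.ι ≫ f) inferInstance ⟨V, hV⟩ ⟨_, hO⟩ h
      rw [h1, CommRingCat.hom_comp, RingHom.Flat.respectsIso.cancel_right_isIso] at h2
      exact h2
    haveI : Algebra.FinitePresentation Γ(S, V) Γ(X, X.basicOpen j') := by
      have h2 := (O.ι ≫ f).finitePresentation_appLE hV hO h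
      rw [h1, CommRingCat.hom_comp, RingHom.finitePresentation_respectsIso.cancel_right_isIso] at h2
      exact h2
    haveI : IsScalarTower Γ(S, V) Γ(X, W) Γ(X, X.basicOpen j') := .of_algebraMap_eq fun r =>
      (DFunLike.congr_fun (congrArg CommRingCat.Hom.hom
        (f.appLE_map hWV (homOfLE (X.basicOpen_le j')).op)) r).symm
    haveI := hW.isLocalization_basicOpen j'
    exact flat_fp_of_algEquiv
      ((IsLocalization.algEquiv (Submonoid.powers j') Γ(X, X.basicOpen j') L).restrictScalars Γ(S, V))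
  obtain ⟨I, hI, hfl⟩ := exists_algFlattening s hgood
  obtain ⟨J, hJ, hJV⟩ := exists_admissible_of_ideal U hU hV (s : Set Γ(S, V)) hs I hI
  refine ⟨J, hJ, fun K => ?_⟩
  rw [Scheme.IdealSheafData.ideal_mul, Pi.mul_apply, hJV]
  exact hfl (K.ideal ⟨V, hV⟩)

/-- The structure sheaf: sections killed by powers of a principal ideal. -/
theorem mem_tors_iff_killed {X : Scheme.{u}} (E : X.IdealSheafData) (Z : X.affineOpens) {A : Type u} [CommRing A]
    [Algebra A Γ(X, Z.1)] (t : A) (hE : E.ideal Z = Ideal.span {algebraMap A Γ(X, Z.1) t}) (a : Γ(X, Z.1)) :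
    a ∈ tors Γ(X, Z.1) t Γ(X, Z.1) ↔ BlowUp.KilledByPowerNear E (Coh.structureModule X) Z a := by
  rw [mem_tors_iff]
  refine exists_congr fun n => ⟨fun h b hb => ?_, fun h => ?_⟩
  · rw [Scheme.IdealSheafData.ideal_pow, Pi.pow_apply, hE, Ideal.span_singleton_pow,
      Ideal.mem_span_singleton'] at hb
    obtain ⟨c, rfl⟩ := hb
    rw [Algebra.smul_def, map_pow] at h
    show c * algebraMap A Γ(X, Z.1) t ^ n * a = 0
    rw [mul_assoc, h, mul_zero]
  · rw [Algebra.smul_def, map_pow]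
    exact h _ (by
      rw [Scheme.IdealSheafData.ideal_pow, Pi.pow_apply, hE]
      exact Ideal.pow_mem_pow (Ideal.mem_span_singleton_self _) n)

/-- Near a point where the exceptional ideal is principal, a flattening centre gives a flat finitely
presented strict transform. -/
theorem exists_good_nhd_sub {X S : Scheme.{u}} (f : X ⟶ S) {V : S.Opens} (hV : IsAffineOpen V) {W : X.Opens}
    (hW : IsAffineOpen W) (hWV : W ≤ f ⁻¹ᵁ V) (I : S.IdealSheafData)
    (hfl : letI := (f.appLE V W hWV).hom.toAlgebra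
      AlgFlattening Γ(S, V) Γ(X, W) (I.ideal ⟨V, hV⟩))
    {S' : Scheme.{u}} (b : S' ⟶ S) (hb : BlowUp.IsBlowUp b I)
    {X' : Scheme.{u}} (p₁ : X' ⟶ X) (p₂ : X' ⟶ S') (hc : IsPullback p₁ p₂ f b) (𝒥 : X'.IdealSheafData)
    (h𝒥 : ∀ (V : X'.affineOpens) (a : Γ(X', V.1)), a ∈ 𝒥.ideal V ↔
      BlowUp.KilledByPowerNear ((I.comap f).comap p₁) (Coh.structureModule X') V a)
    (x : X') (hx : p₁ x ∈ W) :
    ∃ (A : S'.affineOpens) (Z : X'.affineOpens) (e : 𝒥.subschemeι ⁻¹ᵁ Z.1 ≤ (𝒥.subschemeι ≫ p₂) ⁻¹ᵁ A.1),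
      x ∈ Z.1 ∧ ((𝒥.subschemeι ≫ p₂).appLE A.1 (𝒥.subschemeι ⁻¹ᵁ Z.1) e).hom.Flat ∧
        ((𝒥.subschemeι ≫ p₂).appLE A.1 (𝒥.subschemeι ⁻¹ᵁ Z.1) e).hom.FinitePresentation := by
  classical
  obtain ⟨U₀, hxU₀, t₀, ht₀, hI₀⟩ := hb.1 (p₂ x)
  have hxV : b (p₂ x) ∈ V := by
    rw [← Scheme.Hom.comp_apply, ← hc.w]
    exact hWV hx
  obtain ⟨r, hr, hxr⟩ := U₀.2.exists_basicOpen_le (V := b ⁻¹ᵁ V) ⟨p₂ x, hxV⟩ hxU₀
  let A : S'.affineOpens := ⟨S'.basicOpen r, U₀.2.basicOpen r⟩
  let t : Γ(S', A.1) := (S'.presheaf.map (homOfLE (S'.basicOpen_le r)).op).hom t₀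
  have ht : t ∈ nonZeroDivisors Γ(S', A.1) := by
    haveI := U₀.2.isLocalization_basicOpen r
    exact nzd_localization (Submonoid.powers r) Γ(S', S'.basicOpen r) ht₀
  have hIA : (I.comap b).ideal A = Ideal.span {t} := by
    rw [← (I.comap b).map_ideal (U := A) (V := U₀) (S'.basicOpen_le r), hI₀, Ideal.map_span,
      Set.image_singleton]
    rfl
  let Z : X'.Opens := p₁ ⁻¹ᵁ W ⊓ p₂ ⁻¹ᵁ A.1
  have hp : IsPushout (f.appLE V W hWV) (b.appLE V A.1 hr)
      (p₁.appLE W Z inf_le_left) (p₂.appLE A.1 Z inf_le_right) :=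
    (isIso_pushoutSection_iff hc hr hWV (UY := Z) rfl).mp
      (isIso_pushoutSection_of_isAffineOpen hc hr hWV rfl hV A.2 hW)
  have hZ : IsAffineOpen Z := by
    haveI : IsAffine _ := hV
    haveI : IsAffine _ := A.2
    haveI : IsAffine _ := hW
    exact .of_isIso (Scheme.Hom.isPullback_resLE hc hr hWV (UY := Z) rfl).isoPullback.hom
  letI := (f.appLE V W hWV).hom.toAlgebra
  letI := (b.appLE V A.1 hr).hom.toAlgebra
  letI := (p₁.appLE W Z inf_le_left).hom.toAlgebra
  letI := (p₂.appLE A.1 Z inf_le_right).hom.toAlgebra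
  letI : Algebra Γ(S, V) Γ(X', Z) :=
    ((p₁.appLE W Z inf_le_left).hom.comp (f.appLE V W hWV).hom).toAlgebra
  haveI : IsScalarTower Γ(S, V) Γ(X, W) Γ(X', Z) := .of_algebraMap_eq fun _ => rfl
  haveI : IsScalarTower Γ(S, V) Γ(S', A.1) Γ(X', Z) :=
    IsScalarTower.of_algebraMap_eq' (congrArg CommRingCat.Hom.hom hp.w)
  haveI : Algebra.IsPushout Γ(S, V) Γ(S', A.1) Γ(X, W) Γ(X', Z) :=
    (CommRingCat.isPushout_iff_isPushout.mp hp.flip)
  have hmap : (I.ideal ⟨V, hV⟩).map (algebraMap Γ(S, V) Γ(S', A.1)) = Ideal.span {t} := by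
    rw [← hIA, H29Blow.ideal_comap I b ⟨V, hV⟩ A hr]
    rfl
  obtain ⟨hflat, hfp⟩ := hfl Γ(S', A.1) t ht hmap Γ(X', Z)
  have hE : ((I.comap f).comap p₁).ideal ⟨Z, hZ⟩ = Ideal.span {algebraMap Γ(S', A.1) Γ(X', Z) t} := by
    rw [← Scheme.IdealSheafData.comap_comp, hc.w, Scheme.IdealSheafData.comap_comp,
      H29Blow.ideal_comap (I.comap b) p₂ A ⟨Z, hZ⟩ inf_le_right, hIA, Ideal.map_span, Set.image_singleton]
    rfl
  have hJ : 𝒥.ideal ⟨Z, hZ⟩ = tors Γ(X', Z) t Γ(X', Z) := Ideal.ext fun a =>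
    (h𝒥 ⟨Z, hZ⟩ a).trans (mem_tors_iff_killed _ ⟨Z, hZ⟩ t hE a).symm
  let σ := (𝒥.subschemeι.app Z).hom
  let K := tors Γ(X', Z) t Γ(X', Z)
  have hσ : RingHom.ker σ = K := (𝒥.ker_subschemeι_app ⟨Z, hZ⟩).trans hJ
  let e : (Γ(X', Z) ⧸ K) ≃+* Γ(𝒥.subscheme, 𝒥.subschemeι ⁻¹ᵁ Z) :=
    (Ideal.quotEquivOfEq hσ.symm).trans
      (RingHom.quotientKerEquivOfSurjective (𝒥.subschemeι_app_surjective ⟨Z, hZ⟩))
  have he : 𝒥.subschemeι ⁻¹ᵁ Z ≤ (𝒥.subschemeι ≫ p₂) ⁻¹ᵁ A.1 := 𝒥.subschemeι.preimage_mono inf_le_right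
  have happ : ((𝒥.subschemeι ≫ p₂).appLE A.1 (𝒥.subschemeι ⁻¹ᵁ Z) he).hom =
      e.toRingHom.comp (algebraMap Γ(S', A.1) (Γ(X', Z) ⧸ K)) := by
    rw [← Scheme.Hom.appLE_comp_appLE 𝒥.subschemeι p₂ A.1 Z (𝒥.subschemeι ⁻¹ᵁ Z) inf_le_right le_rfl,
      ← Scheme.Hom.app_eq_appLE]
    rfl
  refine ⟨A, ⟨Z, hZ⟩, he, ⟨hx, hxr⟩, ?_, ?_⟩
  · rw [happ]
    exact RingHom.Flat.respectsIso.1 _ e (RingHom.flat_algebraMap_iff.mpr hflat)
  · rw [happ]
    exact RingHom.finitePresentation_respectsIso.1 _ e (RingHom.finitePresentation_algebraMap.mpr hfp)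

/-- An admissible centre all of whose multiples flatten the scheme. -/
theorem exists_flattening_centre_sub {X S : Scheme.{u}} [CompactSpace S] [QuasiSeparatedSpace S]
    (f : X ⟶ S) [LocallyOfFiniteType f] [QuasiCompact f] [QuasiSeparated f] (U : S.Opens) (hU : IsCompact (U : Set S))
    [Flat (f ∣_ U)] [LocallyOfFinitePresentation (f ∣_ U)] :
    ∃ J : S.IdealSheafData, BlowUp.IsAdmissibleFor U J ∧
      ∀ (K : S.IdealSheafData) (S' : Scheme.{u}) (b : S' ⟶ S), BlowUp.IsBlowUp b (J * K) →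
      ∀ (X' : Scheme.{u}) (p₁ : X' ⟶ X) (p₂ : X' ⟶ S'), IsPullback p₁ p₂ f b →
      ∀ (𝒥 : X'.IdealSheafData),
        (∀ (V : X'.affineOpens) (a : Γ(X', V.1)), a ∈ 𝒥.ideal V ↔
          BlowUp.KilledByPowerNear (((J * K).comap f).comap p₁) (Coh.structureModule X') V a) →
        Flat (𝒥.subschemeι ≫ p₂) ∧ LocallyOfFinitePresentation (𝒥.subschemeι ≫ p₂) ∧
          QuasiCompact (𝒥.subschemeι ≫ p₂) ∧ QuasiSeparated (𝒥.subschemeι ≫ p₂) := by
  classical
  haveI : CompactSpace X := QuasiCompact.compactSpace_of_compactSpace f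
  have hchart : ∀ x : X, ∃ (V : S.Opens) (W : X.Opens), IsAffineOpen V ∧ IsAffineOpen W ∧ x ∈ W ∧ W ≤ f ⁻¹ᵁ V := by
    intro x
    obtain ⟨_, ⟨V, hV, rfl⟩, hxV, -⟩ :=
      S.isBasis_affineOpens.exists_subset_of_mem_open (Set.mem_univ (f x)) isOpen_univ
    obtain ⟨_, ⟨W, hW, rfl⟩, hxW, hWV⟩ :=
      X.isBasis_affineOpens.exists_subset_of_mem_open hxV (f ⁻¹ᵁ V).isOpen
    exact ⟨V, W, hV, hW, hxW, hWV⟩
  choose V W hV hW hxW hWV using hchart
  obtain ⟨T, hT⟩ := isCompact_univ.elim_finite_subcover (fun x => (W x : Set X)) (fun x => (W x).2)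
    fun x _ => Set.mem_iUnion.mpr ⟨x, hxW x⟩
  choose J hJadm hJfl using fun x : X => exists_chart_centre_sub f U hU (hV x) (hW x) (hWV x)
  refine ⟨∏ x ∈ T, J x, ⟨H11Strict.isFiniteTypeIdeal_prod _ _ fun x => (hJadm x).1,
    H11Strict.disjoint_support_prod _ _ _ fun x => (hJadm x).2⟩, fun K S' b hb => ?_⟩
  intro X' p₁ p₂ hc 𝒥 h𝒥
  let 𝓘 := (∏ x ∈ T, J x) * K
  have hgood : ∀ x : X', ∃ (A : S'.affineOpens) (Z : X'.affineOpens)
      (e : 𝒥.subschemeι ⁻¹ᵁ Z.1 ≤ (𝒥.subschemeι ≫ p₂) ⁻¹ᵁ A.1),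
      x ∈ Z.1 ∧ ((𝒥.subschemeι ≫ p₂).appLE A.1 (𝒥.subschemeι ⁻¹ᵁ Z.1) e).hom.Flat ∧
        ((𝒥.subschemeι ≫ p₂).appLE A.1 (𝒥.subschemeι ⁻¹ᵁ Z.1) e).hom.FinitePresentation := by
    intro x
    obtain ⟨i, hi, hxi⟩ := Set.mem_iUnion₂.mp (hT (Set.mem_univ (p₁ x)))
    have h𝓘 : 𝓘 = J i * ((∏ j ∈ T.erase i, J j) * K) := by
      rw [← mul_assoc, Finset.mul_prod_erase _ _ hi]
    refine exists_good_nhd_sub f (hV i) (hW i) (hWV i) 𝓘 ?_ b hb p₁ p₂ hc 𝒥 h𝒥 x hxi
    rw [h𝓘]
    exact hJfl i _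
  choose A Z e hxZ hfl hfp using hgood
  haveI : QuasiCompact p₂ := MorphismProperty.of_isPullback hc.flip.flip ‹QuasiCompact f›
  haveI : QuasiSeparated p₂ := MorphismProperty.of_isPullback hc.flip.flip ‹QuasiSeparated f›
  refine ⟨?_, ?_, inferInstance, inferInstance⟩
  · rw [HasRingHomProperty.iff_exists_appLE (P := @Flat)
      (RingHom.Flat.stableUnderComposition.stableUnderCompositionWithLocalizationAway
        RingHom.Flat.holdsForLocalizationAway).1]
    exact fun x => ⟨A _, ⟨_, (Z _).2.preimage _⟩, hxZ (𝒥.subschemeι x), e _, hfl _⟩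
  · rw [HasRingHomProperty.iff_exists_appLE (P := @LocallyOfFinitePresentation)
      (RingHom.finitePresentation_stableUnderComposition.stableUnderCompositionWithLocalizationAway
        RingHom.finitePresentation_holdsForLocalizationAway).1]
    exact fun x => ⟨A _, ⟨_, (Z _).2.preimage _⟩, hxZ (𝒥.subschemeι x), e _, hfp _⟩

/-- Flattening of schemes by admissible blow-ups. -/
theorem exists_flattening_blowup_sub {X S : Scheme.{u}} [CompactSpace S] [QuasiSeparatedSpace S]
    (f : X ⟶ S) [LocallyOfFiniteType f] [QuasiCompact f] [QuasiSeparated f] (U : S.Opens) (hU : IsCompact (U : Set S))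
    [Flat (f ∣_ U)] [LocallyOfFinitePresentation (f ∣_ U)] :
    ∃ (𝓘 : S.IdealSheafData) (S' : Scheme.{u}) (b : S' ⟶ S), BlowUp.IsBlowUp b 𝓘 ∧ BlowUp.IsAdmissibleFor U 𝓘 ∧
      ∀ (X' : Scheme.{u}) (p₁ : X' ⟶ X) (p₂ : X' ⟶ S'), IsPullback p₁ p₂ f b →
      ∀ (𝒥 : X'.IdealSheafData),
        (∀ (V : X'.affineOpens) (a : Γ(X', V.1)), a ∈ 𝒥.ideal V ↔
          BlowUp.KilledByPowerNear ((𝓘.comap f).comap p₁) (Coh.structureModule X') V a) →
        Flat (𝒥.subschemeι ≫ p₂) ∧ LocallyOfFinitePresentation (𝒥.subschemeι ≫ p₂) ∧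
          QuasiCompact (𝒥.subschemeι ≫ p₂) ∧ QuasiSeparated (𝒥.subschemeι ≫ p₂) := by
  obtain ⟨J, hJ, h⟩ := exists_flattening_centre_sub f U hU
  obtain ⟨S', b, hb⟩ := H26Blow.exists_isBlowUp (J * 1)
  refine ⟨J * 1, S', b, hb, by rwa [mul_one], h 1 S' b hb⟩

end Groth.Agent.H7Flat.Flatten
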