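import Groth.Agent.H7Flat.Flatten.NagataC
import Mathlib

/-!
# Making two compactifications agree away from closed subsets
-/

set_option autoImplicit false
set_option linter.style.haveILetI false
set_option backward.isDefEq.respectTransparency false
set_option maxHeartbeats 1000000

universe u

open AlgebraicGeometry CategoryTheory Limits TopologicalSpace Opposite HTop

namespace Groth.Agent.H7Flat.Flatten

/-- The complement of an effective Cartier divisor is schematically dense. -/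
theorem schDominant_awayFrom {X : Scheme.{u}} {E : X.IdealSheafData} (hE : BlowUp.IsEffCartierIdeal E) :
    IsSchemeTheoreticallyDominant (awayFrom E).ι :=
  ⟨H18HTop.supportedOn_eq_bot hE⟩

/-- Lifts to a blow-up avoiding the centre are unique. -/
theorem eq_of_disjoint {X X' Y : Scheme.{u}} {b : X' ⟶ X} {I : X.IdealSheafData} (hb : BlowUp.IsBlowUp b I)
    (m m' : Y ⟶ X') (h : m ≫ b = m' ≫ b) (hd : Disjoint (Set.range (m ≫ b)) (I.support : Set X)) : m = m' :=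
  (hb.2 Y (m ≫ b) (by
    rw [H29Blow.comap_eq_top_of_range_disjoint (m ≫ b) I fun z hz => Set.disjoint_left.mp hd ⟨z, rfl⟩ hz]
    exact H29Blow.isEffCartierIdeal_top)).unique rfl h.symm

/-- An open immersion avoiding the centre lifts to an open immersion. -/
theorem exists_lift_openImmersion {X X' Y : Scheme.{u}} {b : X' ⟶ X} {I : X.IdealSheafData}
    (hb : BlowUp.IsBlowUp b I) (j : Y ⟶ X) [IsOpenImmersion j] (hj : Disjoint (Set.range j) (I.support : Set X)) :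
    ∃ h : Y ⟶ X', IsOpenImmersion h ∧ h ≫ b = j := by
  let O := awayFrom I
  haveI : IsIso (b ∣_ O) := H29Blow.isIso_morphismRestrict hb O fun x hx => hx
  have hle : Set.range j ⊆ Set.range O.ι := by
    rw [Scheme.Opens.range_ι]; exact fun x hx => Set.disjoint_left.mp hj hx
  let l := IsOpenImmersion.lift O.ι j hle
  haveI : IsOpenImmersion (l ≫ O.ι) := by rw [IsOpenImmersion.lift_fac]; infer_instance
  haveI : IsOpenImmersion l := IsOpenImmersion.of_comp l O.ι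
  refine ⟨l ≫ inv (b ∣_ O) ≫ (b ⁻¹ᵁ O).ι, inferInstance, ?_⟩
  rw [Category.assoc, Category.assoc, ← morphismRestrict_ι, IsIso.inv_hom_id_assoc, IsOpenImmersion.lift_fac]

/-- A blow-up dominating a modification is a blow-up of the modification. -/
theorem isBlowUp_dominating {X S S' : Scheme.{u}} (φ : X ⟶ S) [IsSeparated φ] {I : S.IdealSheafData}
    [Mono (φ ∣_ awayFrom I)] {b : S' ⟶ S} (hb : BlowUp.IsBlowUp b I) (h : S' ⟶ X) (hh : h ≫ φ = b) :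
    BlowUp.IsBlowUp h (I.comap φ) := by
  refine ⟨?_, fun Y f hf => ?_⟩
  · rw [← Scheme.IdealSheafData.comap_comp, hh]; exact hb.1
  rw [← Scheme.IdealSheafData.comap_comp] at hf
  obtain ⟨m, hm, hmu⟩ := hb.2 Y (f ≫ φ) hf
  refine ⟨m, ?_, fun m' hm' => hmu m' (by show m' ≫ b = _; rw [← hh, ← Category.assoc, hm'])⟩
  have hm₂ : m ≫ h ≫ φ = f ≫ φ := by rw [hh]; exact hm
  haveI := schDominant_awayFrom hf
  refine hom_ext_of_schDominant (awayFrom (I.comap (f ≫ φ))).ι φ _ _ (by rw [Category.assoc, hm₂]) ?_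
  refine eq_of_mono_restrict φ (awayFrom I) _ _ (by simp only [Category.assoc, hm₂]) ?_
  rintro _ ⟨z, rfl⟩
  simp only [Category.assoc, hm₂]
  exact (H18HTop.awayFrom_comap (f ≫ φ) I).le z.2

/-- On one side: an admissible blow-up of the compactification containing the model over an open. -/
theorem exists_side_centre {S U₀ U' Y X : Scheme.{u}} [CompactSpace S] [QuasiSeparatedSpace S]
    (j : U' ⟶ Y) [IsOpenImmersion j] [CompactSpace U'] (π : Y ⟶ S) [IsProper π]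
    (πX : X ⟶ S) [IsProper πX] (s : X ⟶ Y) (hs : s ≫ π = πX)
    (u : U₀ ⟶ X) [IsSchemeTheoreticallyDominant u] [QuasiCompact u] (k : U₀ ⟶ Y) [IsOpenImmersion k]
    [CompactSpace U₀] (hu : u ≫ s = k) (G : Y.Opens) (hG : IsCompact (G : Set Y))
    (hGj : G ⊓ j.opensRange = k.opensRange) :
    ∃ (K : Y.IdealSheafData) (Y' : Scheme.{u}) (β : Y' ⟶ Y)
      (r : ((β ⁻¹ᵁ G : Y'.Opens) : Scheme.{u}) ⟶ ((s ⁻¹ᵁ G : X.Opens) : Scheme.{u})),
      BlowUp.IsBlowUp β K ∧ BlowUp.IsAdmissibleFor j.opensRange K ∧ r ≫ (s ∣_ G) = β ∣_ G ∧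
      BlowUp.IsBlowUp r ((K.comap s).comap (s ⁻¹ᵁ G).ι) ∧
      ((s ⁻¹ᵁ k.opensRange : X.Opens) : Set X) = Set.range u := by
  haveI : CompactSpace Y := QuasiCompact.compactSpace_of_compactSpace π
  haveI : QuasiSeparatedSpace Y := quasiSeparatedSpace_of_quasiSeparated π
  haveI : IsProper (s ≫ π) := by rw [hs]; infer_instance
  haveI : IsProper s := IsProper.of_comp s π
  haveI := isIso_restrict_of_dominant u s k hu (O := k.opensRange) rfl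
  have hpre := preimage_opensRange_eq u s k hu
  haveI : CompactSpace (G : Scheme.{u}) := isCompact_iff_compactSpace.mp hG
  haveI : QuasiSeparatedSpace (G : Scheme.{u}) :=
    (isQuasiSeparated_iff_quasiSeparatedSpace _ G.2).mp (.of_quasiSeparatedSpace _)
  let O' : (G : Scheme.{u}).Opens := G.ι ⁻¹ᵁ k.opensRange
  haveI : IsIso ((s ∣_ G) ∣_ O') :=
    property_of_range_subset (P := MorphismProperty.isomorphisms Scheme)
      ((isPullback_morphismRestrict (s ∣_ G) O').flip.paste_horiz (isPullback_morphismRestrict s G).flip)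
      (U := k.opensRange) (by rintro _ ⟨z, rfl⟩; exact z.2) (show IsIso (s ∣_ k.opensRange) from inferInstance)
  haveI : IsProper (s ∣_ G) := IsZariskiLocalAtTarget.restrict (P := @IsProper) ‹_› G
  have hkG : k.opensRange ≤ G := hGj.ge.trans inf_le_left
  have hO' : IsCompact (O' : Set (G : Scheme.{u})) := by
    refine G.ι.isOpenEmbedding.isInducing.isCompact_iff.mpr ?_
    have : G.ι '' (O' : Set (G : Scheme.{u})) = (k.opensRange : Set Y) := by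
      show G.ι '' (G.ι ⁻¹' (k.opensRange : Set Y)) = _
      rw [Set.image_preimage_eq_inter_range, Scheme.Opens.range_ι]
      exact Set.inter_eq_left.mpr hkG
    rw [this]
    exact isCompact_range k.continuous
  obtain ⟨I, W, bW, hbW, hI, hIO, h, hh⟩ := exists_iso_blowup (s ∣_ G) O' hO'
  have hV : IsCompact (j.opensRange : Set Y) := isCompact_range j.continuous
  obtain ⟨K, hK, hKG⟩ := H11Strict.exists_admissible_extension j.opensRange G hV hG I (by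
    have : G.ι ⁻¹ᵁ j.opensRange = O' := by
      ext y
      exact ⟨fun hy => hGj.le ⟨y.2, hy⟩, fun hy => (hGj.ge hy).2⟩
    rw [this]; exact hI)
  obtain ⟨Y', β, hβ⟩ := H26Blow.exists_isBlowUp K
  have hβG := H11Strict.isBlowUp_restrict_opens hβ G
  rw [hKG] at hβG
  obtain ⟨e, he, -⟩ := hbW.2 _ (β ∣_ G) hβG.1
  haveI : IsIso e := H18HTop.isIso_of_isBlowUp hβG hbW e he
  haveI : IsIso ((s ∣_ G) ∣_ awayFrom I) := by rw [hIO]; infer_instance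
  refine ⟨K, Y', β, e ≫ h, hβ, hK, by rw [Category.assoc, hh, he], ?_, hpre⟩
  have hb : BlowUp.IsBlowUp (e ≫ h) (I.comap (s ∣_ G)) :=
    H18HTop.isBlowUp_comp_iso (isBlowUp_dominating (s ∣_ G) hbW h hh) e
  rw [← hKG, ← Scheme.IdealSheafData.comap_comp, morphismRestrict_ι, Scheme.IdealSheafData.comap_comp] at hb
  exact hb

/-- On one side: the blown-up model embeds in a blow-up of the compactification. -/
theorem exists_side_embedding {S U₀ U' Y X X' Y' : Scheme.{u}} [CompactSpace S] [QuasiSeparatedSpace S]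
    (j : U' ⟶ Y) [IsOpenImmersion j] [CompactSpace U'] (π : Y ⟶ S) [IsProper π] (πX : X ⟶ S) [IsProper πX]
    (s : X ⟶ Y) (hs : s ≫ π = πX) (u : U₀ ⟶ X) (k : U₀ ⟶ Y) [IsOpenImmersion k] (hu : u ≫ s = k)
    (G : Y.Opens) (hG : IsCompact (G : Set Y)) (hGj : G ⊓ j.opensRange = k.opensRange)
    (hpre : ((s ⁻¹ᵁ k.opensRange : X.Opens) : Set X) = Set.range u)
    {K : Y.IdealSheafData} (β : Y' ⟶ Y) (hβ : BlowUp.IsBlowUp β K) (hK : BlowUp.IsAdmissibleFor j.opensRange K)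
    (r : ((β ⁻¹ᵁ G : Y'.Opens) : Scheme.{u}) ⟶ ((s ⁻¹ᵁ G : X.Opens) : Scheme.{u}))
    (hrβ : r ≫ (s ∣_ G) = β ∣_ G) (hr : BlowUp.IsBlowUp r ((K.comap s).comap (s ⁻¹ᵁ G).ι))
    (M : X.IdealSheafData) (hM : BlowUp.IsFiniteTypeIdeal M) (hMu : Disjoint (Set.range u) (M.support : Set X))
    (p : X' ⟶ X) (hp : BlowUp.IsBlowUp p (K.comap s * M)) :
    ∃ (Y'' : Scheme.{u}) (π'' : Y'' ⟶ S) (j'' : U' ⟶ Y'')
      (o : ((p ⁻¹ᵁ (s ⁻¹ᵁ G) : X'.Opens) : Scheme.{u}) ⟶ Y''),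
      IsProper π'' ∧ IsOpenImmersion j'' ∧ j'' ≫ π'' = j ≫ π ∧ IsOpenImmersion o ∧
      o ≫ π'' = (p ⁻¹ᵁ (s ⁻¹ᵁ G)).ι ≫ p ≫ πX ∧
      (∀ w, j'' w ∈ Set.range o → j w ∈ G) ∧
      ∀ (l : U₀ ⟶ ((p ⁻¹ᵁ (s ⁻¹ᵁ G) : X'.Opens) : Scheme.{u})) (a : U₀ ⟶ U'),
        a ≫ j = k → l ≫ (p ⁻¹ᵁ (s ⁻¹ᵁ G)).ι ≫ p = u → l ≫ o = a ≫ j'' := by
  haveI : CompactSpace Y := QuasiCompact.compactSpace_of_compactSpace π
  haveI : QuasiSeparatedSpace Y := quasiSeparatedSpace_of_quasiSeparated π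
  haveI := isProper_blowUp hK.1 hβ
  haveI : CompactSpace Y' := QuasiCompact.compactSpace_of_compactSpace β
  haveI : QuasiSeparatedSpace Y' := quasiSeparatedSpace_of_quasiSeparated β
  have hp' := H11Strict.isBlowUp_restrict_opens hp (s ⁻¹ᵁ G)
  rw [H29Blow.comap_mul] at hp'
  obtain ⟨t, htr, ht⟩ := H11Strict.isBlowUp_of_factor hr hp'
  haveI : CompactSpace ((β ⁻¹ᵁ G : Y'.Opens) : Scheme.{u}) :=
    isCompact_iff_compactSpace.mp (β.isCompact_preimage hG)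
  have hV : IsCompact (j.opensRange : Set Y) := isCompact_range j.continuous
  have hadm : BlowUp.IsAdmissibleFor ((β ⁻¹ᵁ G).ι ⁻¹ᵁ (β ⁻¹ᵁ j.opensRange))
      (((K.comap s).comap (s ⁻¹ᵁ G).ι * M.comap (s ⁻¹ᵁ G).ι).comap r) := by
    refine ⟨H11Strict.isFiniteTypeIdeal_comap _ (H11Strict.isFiniteTypeIdeal_mul
      (H11Strict.isFiniteTypeIdeal_comap _ (H11Strict.isFiniteTypeIdeal_comap _ hK.1))
      (H11Strict.isFiniteTypeIdeal_comap _ hM)), ?_⟩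
    rw [Scheme.IdealSheafData.support_comap]
    refine Set.disjoint_left.mpr fun z hz hzV => ?_
    have e : s ((s ⁻¹ᵁ G).ι (r z)) = β ((β ⁻¹ᵁ G).ι z) := by
      rw [← Scheme.Hom.comp_apply, ← Scheme.Hom.comp_apply, ← Scheme.Hom.comp_apply, ← morphismRestrict_ι,
        ← morphismRestrict_ι, ← hrβ, Category.assoc]
    have hmem : (s ⁻¹ᵁ G).ι (r z) ∈ Set.range u := hpre.le (hGj.le
      ⟨show s ((s ⁻¹ᵁ G).ι (r z)) ∈ G from (r z).2, show s ((s ⁻¹ᵁ G).ι (r z)) ∈ j.opensRange by rw [e]; exact hzV⟩)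
    change r z ∈ (((K.comap s).comap (s ⁻¹ᵁ G).ι * M.comap (s ⁻¹ᵁ G).ι).support : Set _) at hz
    rw [← H29Blow.comap_mul, Scheme.IdealSheafData.support_comap, Scheme.IdealSheafData.support_mul] at hz
    rcases hz with hz | hz
    · rw [Scheme.IdealSheafData.support_comap] at hz
      exact Set.disjoint_left.mp hK.2 hz (by rw [e]; exact hzV)
    · exact Set.disjoint_left.mp hMu hmem hz
  obtain ⟨J, Y'', c, o, hc, hJ, ho, hpb⟩ := exists_blowup_extension (β ⁻¹ᵁ G).ι (β ⁻¹ᵁ j.opensRange)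
    (β.isCompact_preimage hV) _ hadm t ht
  haveI := isProper_blowUp hJ.1 hc
  haveI := ho
  have hKd : Disjoint (Set.range j) (K.support : Set Y) := hK.2.symm
  obtain ⟨j', hj'o, hj'⟩ := exists_lift_openImmersion hβ j hKd
  haveI := hj'o
  have hj'd : Disjoint (Set.range j') (J.support : Set Y') := by
    refine Set.disjoint_left.mpr ?_
    rintro _ ⟨w, rfl⟩ hw
    refine Set.disjoint_left.mp hJ.2 hw ?_
    show β (j' w) ∈ j.opensRange
    rw [← Scheme.Hom.comp_apply, hj']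
    exact ⟨w, rfl⟩
  obtain ⟨j'', hj''o, hj''⟩ := exists_lift_openImmersion hc j' hj'd
  have hoc : o ≫ c ≫ β = (p ∣_ (s ⁻¹ᵁ G)) ≫ (s ⁻¹ᵁ G).ι ≫ s := by
    rw [← Category.assoc, hpb.w, Category.assoc, ← morphismRestrict_ι, ← hrβ, Category.assoc, morphismRestrict_ι,
      ← Category.assoc t r, htr]
  refine ⟨Y'', c ≫ β ≫ π, j'', o, inferInstance, hj''o, by rw [reassoc_of% hj'', reassoc_of% hj'], ho, ?_, ?_, ?_⟩
  · simp only [← Category.assoc] at hoc ⊢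
    rw [hoc]
    simp only [Category.assoc, hs, morphismRestrict_ι_assoc]
  · rintro w ⟨z, hz⟩
    rw [← hj', ← hj'', Category.assoc, Scheme.Hom.comp_apply, ← hz, ← Scheme.Hom.comp_apply, hoc]
    rw [← morphismRestrict_ι, ← Category.assoc, Scheme.Hom.comp_apply]
    exact (((p ∣_ (s ⁻¹ᵁ G)) ≫ (s ∣_ G)) z).2
  · intro l a ha hl
    have h1 : (l ≫ o) ≫ c ≫ β = (a ≫ j'') ≫ c ≫ β := by
      rw [Category.assoc, hoc, Category.assoc, reassoc_of% hj'', hj', ha, morphismRestrict_ι_assoc, ← hu, ← hl]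
      simp only [Category.assoc]
    have hkr : Set.range k ⊆ Set.range j := by
      rintro _ ⟨z, rfl⟩
      exact ⟨a z, by rw [← Scheme.Hom.comp_apply, ha]⟩
    have h2 : (l ≫ o) ≫ c = (a ≫ j'') ≫ c := by
      refine eq_of_disjoint hβ _ _ (by simpa only [Category.assoc] using h1) ?_
      rw [show ((l ≫ o) ≫ c) ≫ β = k by
        rw [Category.assoc, h1]; simp only [Category.assoc, reassoc_of% hj'', hj', ha]]
      exact Set.disjoint_of_subset_left hkr hKd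
    refine eq_of_disjoint hc _ _ h2 ?_
    rw [h2, Category.assoc, hj'']
    exact Set.disjoint_of_subset_left (by rintro _ ⟨z, rfl⟩; exact ⟨a z, rfl⟩) hj'd

/-- Two compactifications with a separated model glue to a compactification. -/
theorem exists_compactification_of_model {U S Y₁ Y₂ X : Scheme.{u}} [QuasiSeparatedSpace S] [CompactSpace S]
    (g : U ⟶ S) [IsSeparated g] [QuasiCompact g] (U₁ U₂ : U.Opens) (hU₁ : IsCompact (U₁ : Set U))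
    (hU₂ : IsCompact (U₂ : Set U)) (hcov : U₁ ⊔ U₂ = ⊤)
    (j₁ : (U₁ : Scheme.{u}) ⟶ Y₁) [IsOpenImmersion j₁] (π₁ : Y₁ ⟶ S) [IsProper π₁] (hj₁ : j₁ ≫ π₁ = U₁.ι ≫ g)
    (j₂ : (U₂ : Scheme.{u}) ⟶ Y₂) [IsOpenImmersion j₂] (π₂ : Y₂ ⟶ S) [IsProper π₂] (hj₂ : j₂ ≫ π₂ = U₂.ι ≫ g)
    (πX : X ⟶ S) [IsProper πX] (u : ((U₁ ⊓ U₂ : U.Opens) : Scheme.{u}) ⟶ X)
    [IsSchemeTheoreticallyDominant u] [QuasiCompact u]
    (s₁ : X ⟶ Y₁) (hs₁ : s₁ ≫ π₁ = πX) (hu₁ : u ≫ s₁ = U.homOfLE (inf_le_left : U₁ ⊓ U₂ ≤ U₁) ≫ j₁)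
    (s₂ : X ⟶ Y₂) (hs₂ : s₂ ≫ π₂ = πX) (hu₂ : u ≫ s₂ = U.homOfLE (inf_le_right : U₁ ⊓ U₂ ≤ U₂) ≫ j₂)
    (G₁ : Y₁.Opens) (hG₁c : IsCompact (G₁ : Set Y₁))
    (hG₁ : G₁ ⊓ j₁.opensRange = (U.homOfLE (inf_le_left : U₁ ⊓ U₂ ≤ U₁) ≫ j₁).opensRange)
    (G₂ : Y₂.Opens) (hG₂c : IsCompact (G₂ : Set Y₂))
    (hG₂ : G₂ ⊓ j₂.opensRange = (U.homOfLE (inf_le_right : U₁ ⊓ U₂ ≤ U₂) ≫ j₂).opensRange)
    (hG : s₁ ⁻¹ᵁ G₁ ⊔ s₂ ⁻¹ᵁ G₂ = ⊤) :
    ∃ (Y : Scheme.{u}) (j : U ⟶ Y) (p : Y ⟶ S), IsOpenImmersion j ∧ QuasiCompact j ∧ IsProper p ∧ j ≫ p = g := by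
  haveI : QuasiSeparatedSpace U := quasiSeparatedSpace_of_quasiSeparated g
  haveI : CompactSpace (U₁ : Scheme.{u}) := isCompact_iff_compactSpace.mp hU₁
  haveI : CompactSpace (U₂ : Scheme.{u}) := isCompact_iff_compactSpace.mp hU₂
  haveI : CompactSpace ((U₁ ⊓ U₂ : U.Opens) : Scheme.{u}) :=
    isCompact_iff_compactSpace.mp (QuasiSeparatedSpace.inter_isCompact _ _ U₁.2 hU₁ U₂.2 hU₂)
  haveI : CompactSpace X := QuasiCompact.compactSpace_of_compactSpace πX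
  haveI : QuasiSeparatedSpace X := quasiSeparatedSpace_of_quasiSeparated πX
  obtain ⟨K₁, Y₁', β₁, r₁, hβ₁, hK₁, hr₁, hrb₁, hpre₁⟩ :=
    exists_side_centre j₁ π₁ πX s₁ hs₁ u _ hu₁ G₁ hG₁c hG₁
  obtain ⟨K₂, Y₂', β₂, r₂, hβ₂, hK₂, hr₂, hrb₂, hpre₂⟩ :=
    exists_side_centre j₂ π₂ πX s₂ hs₂ u _ hu₂ G₂ hG₂c hG₂
  have hM : ∀ {Y U' : Scheme.{u}} (s : X ⟶ Y) (j : U' ⟶ Y) [IsOpenImmersion j] (a : _ ⟶ U'), u ≫ s = a ≫ j →
      ∀ {K : Y.IdealSheafData}, BlowUp.IsAdmissibleFor j.opensRange K →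
      BlowUp.IsFiniteTypeIdeal (K.comap s) ∧ Disjoint (Set.range u) ((K.comap s).support : Set X) := by
    intro Y U' s j _ a ha K hK
    refine ⟨H11Strict.isFiniteTypeIdeal_comap _ hK.1, ?_⟩
    rw [Scheme.IdealSheafData.support_comap]
    refine Set.disjoint_left.mpr ?_
    rintro _ ⟨z, rfl⟩ hz
    refine Set.disjoint_left.mp hK.2 hz ⟨a z, ?_⟩
    rw [← Scheme.Hom.comp_apply, ← ha]; rfl
  obtain ⟨hM₁, hMu₁⟩ := hM s₁ j₁ _ hu₁ hK₁
  obtain ⟨hM₂, hMu₂⟩ := hM s₂ j₂ _ hu₂ hK₂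
  obtain ⟨X', p, hp⟩ := H26Blow.exists_isBlowUp (K₁.comap s₁ * K₂.comap s₂)
  haveI := isProper_blowUp (H11Strict.isFiniteTypeIdeal_mul hM₁ hM₂) hp
  obtain ⟨Z₁, q₁, i₁, o₁, hq₁, hi₁, hiq₁, ho₁, hoq₁, hw₁, hl₁⟩ :=
    exists_side_embedding j₁ π₁ πX s₁ hs₁ u _ hu₁ G₁ hG₁c hG₁ hpre₁ β₁ hβ₁ hK₁ r₁ hr₁ hrb₁ _ hM₂ hMu₂ p hp
  obtain ⟨Z₂, q₂, i₂, o₂, hq₂, hi₂, hiq₂, ho₂, hoq₂, hw₂, hl₂⟩ :=
    exists_side_embedding j₂ π₂ πX s₂ hs₂ u _ hu₂ G₂ hG₂c hG₂ hpre₂ β₂ hβ₂ hK₂ r₂ hr₂ hrb₂ _ hM₁ hMu₁ p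
      (by rw [mul_comm]; exact hp)
  have hud : Disjoint (Set.range u) ((K₁.comap s₁ * K₂.comap s₂).support : Set X) := by
    rw [Scheme.IdealSheafData.support_mul, Closeds.coe_sup, Set.disjoint_union_right]; exact ⟨hMu₁, hMu₂⟩
  obtain ⟨σ, hσ⟩ := exists_lift_of_disjoint hp u hud
  let V₁ := p ⁻¹ᵁ (s₁ ⁻¹ᵁ G₁)
  let V₂ := p ⁻¹ᵁ (s₂ ⁻¹ᵁ G₂)
  have hmem : ∀ z, σ z ∈ V₁ ⊓ V₂ := by
    intro z
    have h1 : s₁ (p (σ z)) ∈ G₁ := by
      rw [← Scheme.Hom.comp_apply, ← Scheme.Hom.comp_apply, reassoc_of% hσ, hu₁]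
      exact (hG₁.ge ⟨z, rfl⟩).1
    have h2 : s₂ (p (σ z)) ∈ G₂ := by
      rw [← Scheme.Hom.comp_apply, ← Scheme.Hom.comp_apply, reassoc_of% hσ, hu₂]
      exact (hG₂.ge ⟨z, rfl⟩).1
    exact ⟨h1, h2⟩
  let l := IsOpenImmersion.lift (V₁ ⊓ V₂).ι σ (by rw [Scheme.Opens.range_ι]; rintro _ ⟨z, rfl⟩; exact hmem z)
  have hlf : l ≫ (V₁ ⊓ V₂).ι = σ := IsOpenImmersion.lift_fac _ _ _
  haveI : QuasiSeparatedSpace Y₁ := quasiSeparatedSpace_of_quasiSeparated π₁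
  haveI : QuasiSeparatedSpace Y₂ := quasiSeparatedSpace_of_quasiSeparated π₂
  haveI : IsProper s₁ := by
    haveI : IsProper (s₁ ≫ π₁) := by rw [hs₁]; infer_instance
    exact IsProper.of_comp s₁ π₁
  haveI : IsProper s₂ := by
    haveI : IsProper (s₂ ≫ π₂) := by rw [hs₂]; infer_instance
    exact IsProper.of_comp s₂ π₂
  haveI := hq₁
  haveI := hq₂
  haveI := hi₁
  haveI := hi₂
  haveI := ho₁
  haveI := ho₂
  refine exists_compactification_of_data g U₁ U₂ hcov i₁ q₁ (hiq₁.trans hj₁) i₂ q₂ (hiq₂.trans hj₂) (p ≫ πX)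
    V₁ V₂ (p.isCompact_preimage (s₁.isCompact_preimage hG₁c)) (p.isCompact_preimage (s₂.isCompact_preimage hG₂c))
    ?_ o₁ hoq₁ o₂ hoq₂ l ?_ ?_ ?_ ?_
  · show p ⁻¹ᵁ (s₁ ⁻¹ᵁ G₁) ⊔ p ⁻¹ᵁ (s₂ ⁻¹ᵁ G₂) = ⊤
    rw [← Scheme.Hom.preimage_sup, hG]; rfl
  · rw [← Category.assoc]
    exact hl₁ _ _ rfl (by rw [Category.assoc, Scheme.homOfLE_ι_assoc, reassoc_of% hlf, hσ])
  · rw [← Category.assoc]
    exact hl₂ _ _ rfl (by rw [Category.assoc, Scheme.homOfLE_ι_assoc, reassoc_of% hlf, hσ])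
  · intro w hw
    obtain ⟨z, hz⟩ := hG₁.le ⟨hw₁ w hw, ⟨w, rfl⟩⟩
    obtain rfl : U.homOfLE (inf_le_left : U₁ ⊓ U₂ ≤ U₁) z = w :=
      j₁.isOpenEmbedding.injective (by rw [← Scheme.Hom.comp_apply]; exact hz)
    rw [← Scheme.Hom.comp_apply, Scheme.homOfLE_ι]
    exact z.2.2
  · intro w hw
    obtain ⟨z, hz⟩ := hG₂.le ⟨hw₂ w hw, ⟨w, rfl⟩⟩
    obtain rfl : U.homOfLE (inf_le_right : U₁ ⊓ U₂ ≤ U₂) z = w :=
      j₂.isOpenEmbedding.injective (by rw [← Scheme.Hom.comp_apply]; exact hz)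
    rw [← Scheme.Hom.comp_apply, Scheme.homOfLE_ι]
    exact z.2.1

end Groth.Agent.H7Flat.Flatten
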