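import Mathlib

/-!
# Quasi-finiteness of flat algebras spreads from the generic points
-/

set_option autoImplicit false
set_option linter.style.haveILetI false
set_option backward.isDefEq.respectTransparency false

universe u

open TensorProduct

namespace Groth.Agent.H7Flat.Flatten

/-- Over a valuation ring a flat module has special fibre no bigger than the generic one. -/
theorem finite_residue_of_flat (V K M : Type u) [CommRing V] [IsDomain V] [ValuationRing V] [Field K] [Algebra V K]
    [IsFractionRing V K] [AddCommGroup M] [Module V M] [Module.Flat V M] [Module.Finite K (K ⊗[V] M)] :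
    Module.Finite (IsLocalRing.ResidueField V) (IsLocalRing.ResidueField V ⊗[V] M) := by
  classical
  let k := IsLocalRing.ResidueField V
  let n := Module.finrank K (K ⊗[V] M)
  have hrank : Module.rank k (k ⊗[V] M) ≤ n := by
    refine rank_le fun s hs => ?_
    have hlift : ∀ x : k ⊗[V] M, ∃ m : M, (1 : k) ⊗ₜ[V] m = x :=
      TensorProduct.mk_surjective V M k Ideal.Quotient.mk_surjective
    choose m hm using hlift
    have hli : LinearIndependent V fun i : s => m i := by
      rw [Fintype.linearIndependent_iff]
      intro g hg
      by_contra! hne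
      obtain ⟨i, hi⟩ := hne
      obtain ⟨i₀, hi₀, hdvd⟩ : ∃ i₀, g i₀ ≠ 0 ∧ ∀ j, g i₀ ∣ g j := by
        have key : ∀ t : Finset s, t.Nonempty → ∃ c ∈ t, ∀ j ∈ t, g c ∣ g j := by
          intro t ht
          induction ht using Finset.Nonempty.cons_induction with
          | singleton a => exact ⟨a, Finset.mem_singleton_self a, fun j hj => by rw [Finset.mem_singleton.mp hj]⟩
          | cons a t hat _ ih =>
            obtain ⟨c, hc, hcd⟩ := ih
            rcases ValuationRing.dvd_total (g a) (g c) with h | h
            · exact ⟨a, Finset.mem_cons_self _ _, fun j hj =>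
                (Finset.mem_cons.mp hj).elim (fun e => e ▸ dvd_rfl) fun hj => h.trans (hcd j hj)⟩
            · exact ⟨c, Finset.mem_cons.mpr (.inr hc), fun j hj =>
                (Finset.mem_cons.mp hj).elim (fun e => e ▸ h) (hcd j)⟩
        obtain ⟨c, -, hc⟩ := key Finset.univ ⟨i, Finset.mem_univ i⟩
        exact ⟨c, fun h0 => hi (zero_dvd_iff.mp (h0 ▸ hc i (Finset.mem_univ i))), fun j => hc j (Finset.mem_univ j)⟩
      choose u hu using hdvd
      have hu0 : u i₀ = 1 := mul_left_cancel₀ hi₀ (by rw [mul_one, ← hu i₀])
      have hsum : ∑ j, u j • m j.1 = 0 := by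
        have h1 : g i₀ • ∑ j, u j • m j.1 = 0 := by
          rw [Finset.smul_sum, ← hg]
          exact Finset.sum_congr rfl fun j _ => by rw [smul_smul, ← hu j]
        exact (smul_eq_zero.mp h1).resolve_left hi₀
      have hk : ∑ j, algebraMap V k (u j) • j.1 = 0 := by
        have h2 := congrArg (fun x : M => (1 : k) ⊗ₜ[V] x) hsum
        simp only [TensorProduct.tmul_sum, TensorProduct.tmul_smul, TensorProduct.tmul_zero, hm] at h2
        simpa only [algebraMap_smul] using h2
      have := Fintype.linearIndependent_iff.mp hs _ hk i₀
      rw [hu0, map_one] at this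
      exact one_ne_zero this
    have hli' : LinearIndependent K fun i : s => (1 : K) ⊗ₜ[V] m i.1 := by
      rw [← LinearIndependent.iff_fractionRing (R := V)]
      refine hli.map' (TensorProduct.mk V K M 1) (LinearMap.ker_eq_bot.mpr ?_)
      intro x y hxy
      have h1 : Function.Injective ((Algebra.linearMap V K).rTensor M) :=
        Module.Flat.rTensor_preserves_injective_linearMap _ (IsFractionRing.injective V K)
      apply (TensorProduct.lid V M).symm.injective
      apply h1
      simpa using hxy
    simpa using hli'.fintype_card_le_finrank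
  exact Module.rank_lt_aleph0_iff.mp (hrank.trans_lt (Cardinal.natCast_lt_aleph0))

theorem finite_of_field_extension (k₀ k : Type u) [Field k₀] [Field k] [Algebra k₀ k] (M : Type u) [AddCommGroup M]
    [Module k₀ M] [Module.Finite k (k ⊗[k₀] M)] : Module.Finite k₀ M :=
  Module.Finite.of_finite_tensorProduct_of_faithfullyFlat k

/-- For a flat algebra finiteness of fibres is inherited by specializations. -/
theorem finite_fiber_of_le {A C : Type u} [CommRing A] [CommRing C] [Algebra A C] [Module.Flat A C]
    (q p : Ideal A) [q.IsPrime] [p.IsPrime] (hqp : q ≤ p) [Module.Finite q.ResidueField (q.Fiber C)] :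
    Module.Finite p.ResidueField (p.Fiber C) := by
  let K := q.ResidueField
  let f : Localization.AtPrime p →+* K := IsLocalization.lift (M := p.primeCompl) (g := algebraMap A K) fun y => by
    rw [isUnit_iff_ne_zero, Ne, Ideal.algebraMap_residueField_eq_zero]
    exact fun h => y.2 (hqp h)
  obtain ⟨V, hV, hloc⟩ := IsLocalRing.exists_factor_valuationRing f
  let f' : Localization.AtPrime p →+* V := f.codRestrict V.toSubring hV
  haveI : IsLocalHom f' := hloc
  letI : Algebra A V := (f'.comp (algebraMap A _)).toAlgebra
  haveI : IsScalarTower A V K := .of_algebraMap_eq fun a =>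
    (IsLocalization.lift_eq (M := p.primeCompl) _ a).symm
  let k := IsLocalRing.ResidueField V
  let r : p.ResidueField →+* k := IsLocalRing.ResidueField.map f'
  letI : Algebra p.ResidueField k := r.toAlgebra
  haveI : IsScalarTower A p.ResidueField k := .of_algebraMap_eq fun a => by
    show _ = r (algebraMap A p.ResidueField a)
    rw [IsScalarTower.algebraMap_apply A V k, IsScalarTower.algebraMap_apply A (Localization.AtPrime p) p.ResidueField]
    rfl
  let M := V ⊗[A] C
  haveI : Module.Finite K (K ⊗[V] M) :=
    Module.Finite.equiv (TensorProduct.AlgebraTensorModule.cancelBaseChange A V K K C).symm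
  haveI : Module.Finite k (k ⊗[V] M) := finite_residue_of_flat V K M
  haveI : Module.Finite k (k ⊗[A] C) :=
    Module.Finite.equiv (TensorProduct.AlgebraTensorModule.cancelBaseChange A V k k C)
  haveI : Module.Finite k (k ⊗[p.ResidueField] p.Fiber C) :=
    Module.Finite.equiv (TensorProduct.AlgebraTensorModule.cancelBaseChange A p.ResidueField k k C).symm
  exact finite_of_field_extension p.ResidueField k (p.Fiber C)

/-- A flat algebra quasi-finite away from a nonzerodivisor of the base is quasi-finite. -/
theorem quasiFinite_of_flat_of_away {A C L : Type u} [CommRing A] [CommRing C] [CommRing L] [Algebra A C]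
    [Algebra A L] [Algebra C L] [IsScalarTower A C L] [Module.Flat A C] (t : A) (ht : t ∈ nonZeroDivisors A)
    [IsLocalization.Away (algebraMap A C t) L] [Algebra.QuasiFinite A L] : Algebra.QuasiFinite A C := by
  refine ⟨fun p hp => ?_⟩
  obtain ⟨q, hq, hqp⟩ := Ideal.exists_minimalPrimes_le (I := (⊥ : Ideal A)) (J := p) bot_le
  haveI : q.IsPrime := hq.1.1
  have htq : t ∉ q := fun h => Set.disjoint_left.mp (Ideal.disjoint_nonZeroDivisors_of_mem_minimalPrimes hq) h ht
  haveI : Module.Finite q.ResidueField (q.Fiber C) := by
    let φ : C →ₗ[A] L := (IsScalarTower.toAlgHom A C L).toLinearMap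
    haveI : IsLocalization (Algebra.algebraMapSubmonoid C (Submonoid.powers t)) L := by
      rw [Algebra.algebraMapSubmonoid_powers]; infer_instance
    haveI : IsLocalizedModule (Submonoid.powers t) φ := isLocalizedModule_iff_isLocalization.mpr inferInstance
    let κ := q.ResidueField
    have hu : ∀ x : Submonoid.powers t, IsUnit (algebraMap A (Module.End A (κ ⊗[A] C)) x) := by
      rintro ⟨_, n, rfl⟩
      have hne : algebraMap A κ (t ^ n) ≠ 0 := by
        rw [Ne, Ideal.algebraMap_residueField_eq_zero]
        exact fun h => htq (hq.1.1.mem_of_pow_mem n h)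
      rw [Module.End.isUnit_iff]
      constructor
      · intro x y hxy
        simp only [Module.algebraMap_end_apply, ← algebraMap_smul κ (t ^ n)] at hxy
        exact smul_right_injective _ hne hxy
      · intro y
        refine ⟨(algebraMap A κ (t ^ n))⁻¹ • y, ?_⟩
        simp only [Module.algebraMap_end_apply, ← algebraMap_smul κ (t ^ n), smul_smul, mul_inv_cancel₀ hne, one_smul]
    let g : L →ₗ[A] κ ⊗[A] C := IsLocalizedModule.lift (Submonoid.powers t) φ (TensorProduct.mk A κ C 1) hu
    let Φ : κ ⊗[A] L →ₗ[κ] κ ⊗[A] C := LinearMap.liftBaseChange κ g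
    have hΦ : Function.Surjective Φ := fun z => by
      refine ⟨φ.lTensor κ z, ?_⟩
      induction z with
      | zero => rw [map_zero, map_zero]
      | add a b ha hb => rw [map_add, map_add, ha, hb]
      | tmul a c =>
        rw [LinearMap.lTensor_tmul, LinearMap.liftBaseChange_tmul]
        show a • (g.comp φ) c = _
        rw [IsLocalizedModule.lift_comp, TensorProduct.mk_apply, TensorProduct.smul_tmul', smul_eq_mul, mul_one]
    exact Module.Finite.of_surjective Φ hΦ
  exact finite_fiber_of_le q p hqp

end Groth.Agent.H7Flat.Flatten
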