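import Groth.Agent.H7Flat.Flatten.Strict
import Groth.Agent.H7Flat.Flatten.FibreDim
import Groth.Prelude.Def_Mor2
import Mathlib

/-!
# Consequences of flattening for modifications
-/

set_option autoImplicit false
set_option linter.style.haveILetI false
set_option backward.isDefEq.respectTransparency false
set_option maxHeartbeats 1000000

universe u

open AlgebraicGeometry CategoryTheory Limits TopologicalSpace Opposite HTop

namespace Groth.Agent.H7Flat.Flatten

/-- The complement of an effective Cartier divisor is dense. -/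
theorem isDominant_awayFrom {X : Scheme.{u}} {E : X.IdealSheafData} (hE : BlowUp.IsEffCartierIdeal E) :
    IsDominant (awayFrom E).ι := by
  haveI := H18HTop.quasiCompact_awayFrom_ι (H18HTop.isLocPrincipal_of_isEffCartierIdeal hE)
  haveI : IsSchemeTheoreticallyDominant (awayFrom E).ι := ⟨H18HTop.supportedOn_eq_bot hE⟩
  infer_instance

/-- A flat separated morphism which is a monomorphism away from a divisor of the base is a monomorphism. -/
theorem mono_of_mono_restrict {Y T : Scheme.{u}} (g : Y ⟶ T) [Flat g] [IsSeparated g] {E : T.IdealSheafData}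
    (hE : BlowUp.IsEffCartierIdeal E) [Mono (g ∣_ awayFrom E)] : Mono g := by
  rw [← pullback.isIso_diagonal_iff]
  let π := pullback.fst g g ≫ g
  haveI : Flat π := inferInstance
  haveI : IsClosedImmersion (pullback.diagonal g) := inferInstance
  let O := awayFrom (E.comap π)
  have hOO : O = π ⁻¹ᵁ awayFrom E := H18HTop.awayFrom_comap _ _
  have hfst : Set.range (O.ι ≫ pullback.fst g g) ⊆ Set.range (g ⁻¹ᵁ awayFrom E).ι := by
    rintro _ ⟨z, rfl⟩
    rw [Scheme.Opens.range_ι]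
    exact hOO.le z.2
  have hsnd : Set.range (O.ι ≫ pullback.snd g g) ⊆ Set.range (g ⁻¹ᵁ awayFrom E).ι := by
    rintro _ ⟨z, rfl⟩
    rw [Scheme.Opens.range_ι]
    show g ((pullback.snd g g) z.1) ∈ awayFrom E
    rw [← Scheme.Hom.comp_apply, ← pullback.condition]
    exact hOO.le z.2
  let a := IsOpenImmersion.lift (g ⁻¹ᵁ awayFrom E).ι _ hfst
  let b := IsOpenImmersion.lift (g ⁻¹ᵁ awayFrom E).ι _ hsnd
  have hab : a = b := by
    rw [← cancel_mono (g ∣_ awayFrom E), ← cancel_mono (awayFrom E).ι, Category.assoc, Category.assoc,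
      morphismRestrict_ι, IsOpenImmersion.lift_fac_assoc, IsOpenImmersion.lift_fac_assoc, Category.assoc,
      Category.assoc, pullback.condition]
  have heq : O.ι ≫ pullback.fst g g = O.ι ≫ pullback.snd g g := by
    rw [← IsOpenImmersion.lift_fac (g ⁻¹ᵁ awayFrom E).ι _ hfst, ← IsOpenImmersion.lift_fac (g ⁻¹ᵁ awayFrom E).ι _ hsnd]
    exact congrArg (· ≫ _) hab
  have hfac : (O.ι ≫ pullback.fst g g) ≫ pullback.diagonal g = O.ι :=
    pullback.hom_ext (by simp) (by simpa using heq)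
  rw [IsClosedImmersion.isIso_iff_ker_eq_bot, eq_bot_iff,
    ← H18HTop.supportedOn_eq_bot (H29Blow.isEffCartierIdeal_comap_of_flat hE π)]
  show _ ≤ O.ι.ker
  conv_rhs => rw [← hfac]
  exact Scheme.Hom.le_ker_comp _ _

/-- A flat morphism quasi-finite away from a divisor of the base is quasi-finite. -/
theorem locallyQuasiFinite_of_restrict {Y T : Scheme.{u}} (g : Y ⟶ T) [Flat g] {E : T.IdealSheafData}
    (hE : BlowUp.IsEffCartierIdeal E) [LocallyQuasiFinite (g ∣_ awayFrom E)] : LocallyQuasiFinite g := by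
  rw [HasRingHomProperty.iff_exists_appLE (P := @LocallyQuasiFinite)
    (RingHom.QuasiFinite.stableUnderComposition.stableUnderCompositionWithLocalizationAway
      RingHom.QuasiFinite.holdsForLocalizationAway).1]
  intro y
  obtain ⟨A, hyA, t, ht, hA⟩ := hE (g y)
  obtain ⟨_, ⟨V, hV, rfl⟩, hyV, hVA⟩ :=
    Y.isBasis_affineOpens.exists_subset_of_mem_open hyA (g ⁻¹ᵁ A.1).isOpen
  refine ⟨A, ⟨V, hV⟩, hyV, hVA, ?_⟩
  letI := (g.appLE A.1 V hVA).hom.toAlgebra
  haveI : Module.Flat Γ(T, A.1) Γ(Y, V) := H29Blow.flat_appLE' g A ⟨V, hV⟩ hVA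
  let t' : Γ(Y, V) := algebraMap Γ(T, A.1) Γ(Y, V) t
  let O := g ⁻¹ᵁ awayFrom E
  have hle : Y.basicOpen t' ≤ O := (Scheme.basicOpen_appLE g V A.1 hVA t).le.trans
    (inf_le_right.trans (g.preimage_mono fun z hz =>
      H29Blow.basicOpen_disjoint_support (by rw [hA]; exact Ideal.mem_span_singleton_self t) hz))
  have hleA : Y.basicOpen t' ≤ g ⁻¹ᵁ A.1 := (Y.basicOpen_le t').trans hVA
  have hr : Y.basicOpen t' ≤ O.ι.opensRange := hle.trans_eq O.opensRange_ι.symm
  have hO : IsAffineOpen (O.ι ⁻¹ᵁ Y.basicOpen t') := (hV.basicOpen t').preimage_of_isOpenImmersion O.ι hr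
  haveI := O.ι.isIso_app (Y.basicOpen t') hr
  haveI : IsIso (O.ι.appLE (Y.basicOpen t') (O.ι ⁻¹ᵁ Y.basicOpen t') le_rfl) := by
    rw [← Scheme.Hom.app_eq_appLE]; infer_instance
  haveI : LocallyQuasiFinite (O.ι ≫ g) := by rw [← morphismRestrict_ι]; infer_instance
  have h : O.ι ⁻¹ᵁ Y.basicOpen t' ≤ (O.ι ≫ g) ⁻¹ᵁ A.1 := O.ι.preimage_mono hleA
  have h1 : (O.ι ≫ g).appLE A.1 _ h = g.appLE A.1 (Y.basicOpen t') hleA ≫ O.ι.appLE _ _ le_rfl :=
    (Scheme.Hom.appLE_comp_appLE O.ι g _ _ _ _ _).symm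
  letI := (g.appLE A.1 (Y.basicOpen t') hleA).hom.toAlgebra
  haveI : Algebra.QuasiFinite Γ(T, A.1) Γ(Y, Y.basicOpen t') := by
    have h2 := HasRingHomProperty.appLE @LocallyQuasiFinite (O.ι ≫ g) inferInstance A ⟨_, hO⟩ h
    rw [h1, CommRingCat.hom_comp, RingHom.QuasiFinite.respectsIso.cancel_right_isIso] at h2
    exact RingHom.quasiFinite_algebraMap.mp h2
  haveI : IsScalarTower Γ(T, A.1) Γ(Y, V) Γ(Y, Y.basicOpen t') := .of_algebraMap_eq fun r =>
    (DFunLike.congr_fun (congrArg CommRingCat.Hom.hom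
      (g.appLE_map hVA (homOfLE (Y.basicOpen_le t')).op)) r).symm
  haveI := hV.isLocalization_basicOpen t'
  exact RingHom.quasiFinite_algebraMap.mpr (quasiFinite_of_flat_of_away (L := Γ(Y, Y.basicOpen t')) t ht)

/-- The exceptional ideal is effective Cartier on the strict transform. -/
theorem isEffCartier_strict {X S X' S' : Scheme.{u}} {f : X ⟶ S} {b : S' ⟶ S} {p₁ : X' ⟶ X} {p₂ : X' ⟶ S'}
    (hc : IsPullback p₁ p₂ f b) {𝓘 : S.IdealSheafData} (hb : BlowUp.IsBlowUp b 𝓘) :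
    HTop.IsLocPrincipal ((𝓘.comap f).comap p₁) := by
  rw [← Scheme.IdealSheafData.comap_comp, hc.w, Scheme.IdealSheafData.comap_comp]
  exact H18HTop.isLocPrincipal_comap (H18HTop.isLocPrincipal_of_isEffCartierIdeal hb.1) p₂

/-- The strict transform of a separated morphism which is an isomorphism over `U` is an open immersion
after an admissible blow-up. -/
theorem exists_openImmersion_blowup {X S : Scheme.{u}} [CompactSpace S] [QuasiSeparatedSpace S]
    (φ : X ⟶ S) [IsSeparated φ] [LocallyOfFiniteType φ] [QuasiCompact φ] (U : S.Opens) (hU : IsCompact (U : Set S))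
    [IsIso (φ ∣_ U)] :
    ∃ (𝓘 : S.IdealSheafData) (S' : Scheme.{u}) (b : S' ⟶ S), BlowUp.IsBlowUp b 𝓘 ∧ BlowUp.IsAdmissibleFor U 𝓘 ∧
      awayFrom 𝓘 = U ∧
      ∀ (X' : Scheme.{u}) (p₁ : X' ⟶ X) (p₂ : X' ⟶ S'), IsPullback p₁ p₂ φ b →
        IsOpenImmersion ((supportedOn ((𝓘.comap φ).comap p₁)).subschemeι ≫ p₂) := by
  obtain ⟨𝓘, S', b, hb, hadm, hU', hflat⟩ := exists_strict_flattening φ U hU
  refine ⟨𝓘, S', b, hb, hadm, hU', fun X' p₁ p₂ hc => ?_⟩
  obtain ⟨hfl, hfp, -, -⟩ := hflat X' p₁ p₂ hc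
  haveI := hfl
  haveI := hfp
  haveI : IsSeparated p₂ := MorphismProperty.of_isPullback hc ‹IsSeparated φ›
  have hiso : IsIso (φ ∣_ awayFrom 𝓘) := by rw [hU']; infer_instance
  haveI : IsIso (((supportedOn ((𝓘.comap φ).comap p₁)).subschemeι ≫ p₂) ∣_ awayFrom (𝓘.comap b)) := by
    rw [H18HTop.awayFrom_comap]
    exact property_strict_restrict (P := MorphismProperty.isomorphisms Scheme) hc 𝓘 hiso
  haveI := mono_of_mono_restrict ((supportedOn ((𝓘.comap φ).comap p₁)).subschemeι ≫ p₂) hb.1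
  exact IsOpenImmersion.of_flat_of_mono _

/-- The strict transform of a modification is an isomorphism after an admissible blow-up. -/
theorem exists_iso_blowup {X S : Scheme.{u}} [CompactSpace S] [QuasiSeparatedSpace S]
    (φ : X ⟶ S) [IsProper φ] (U : S.Opens) (hU : IsCompact (U : Set S)) [IsIso (φ ∣_ U)] :
    ∃ (𝓘 : S.IdealSheafData) (S' : Scheme.{u}) (b : S' ⟶ S), BlowUp.IsBlowUp b 𝓘 ∧ BlowUp.IsAdmissibleFor U 𝓘 ∧
      awayFrom 𝓘 = U ∧ ∃ h : S' ⟶ X, h ≫ φ = b := by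
  obtain ⟨𝓘, S', b, hb, hadm, hU', hopen⟩ := exists_openImmersion_blowup φ U hU
  refine ⟨𝓘, S', b, hb, hadm, hU', ?_⟩
  have hc := IsPullback.of_hasPullback φ b
  let s := (supportedOn ((𝓘.comap φ).comap (pullback.fst φ b))).subschemeι
  let g := s ≫ pullback.snd φ b
  haveI : IsOpenImmersion g := hopen _ _ _ hc
  have hclosed : IsClosed (Set.range g) := g.isClosedMap.isClosed_range
  haveI : IsIso (g ∣_ awayFrom (𝓘.comap b)) := by
    rw [H18HTop.awayFrom_comap]
    exact property_strict_restrict (P := MorphismProperty.isomorphisms Scheme) hc 𝓘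
      (show IsIso (φ ∣_ awayFrom 𝓘) by rw [hU']; infer_instance)
  have hsub : Set.range (awayFrom (𝓘.comap b)).ι ⊆ Set.range g := by
    rintro _ ⟨z, rfl⟩
    obtain ⟨w, hw⟩ := (g ∣_ awayFrom (𝓘.comap b)).surjective z
    refine ⟨(g ⁻¹ᵁ awayFrom (𝓘.comap b)).ι w, ?_⟩
    rw [← Scheme.Hom.comp_apply, ← morphismRestrict_ι, Scheme.Hom.comp_apply, hw]
  haveI := isDominant_awayFrom hb.1
  haveI : Surjective g := ⟨Set.range_eq_univ.mp (Set.univ_subset_iff.mp
    (((awayFrom (𝓘.comap b)).ι.denseRange.closure_range).ge.trans (hclosed.closure_subset_iff.mpr hsub)))⟩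
  haveI : IsIso g := (isIso_iff_isOpenImmersion_and_surjective g).mpr ⟨inferInstance, inferInstance⟩
  exact ⟨inv g ≫ s ≫ pullback.fst φ b, by
    rw [Category.assoc, Category.assoc, pullback.condition, ← Category.assoc s,
      show s ≫ pullback.snd φ b = g from rfl, IsIso.inv_hom_id_assoc]⟩

/-- The strict transform of a proper morphism finite locally free over `U` is finite locally free after
an admissible blow-up. -/
theorem exists_finLocFree_blowup {X S : Scheme.{u}} [CompactSpace S] [QuasiSeparatedSpace S]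
    (φ : X ⟶ S) [IsProper φ] (U : S.Opens) (hU : IsCompact (U : Set S)) (hfl : Mor2.IsFinLocFree (φ ∣_ U)) :
    ∃ (𝓘 : S.IdealSheafData) (S' : Scheme.{u}) (b : S' ⟶ S), BlowUp.IsBlowUp b 𝓘 ∧ BlowUp.IsAdmissibleFor U 𝓘 ∧
      ∀ (X' : Scheme.{u}) (p₁ : X' ⟶ X) (p₂ : X' ⟶ S'), IsPullback p₁ p₂ φ b →
        Mor2.IsFinLocFree ((supportedOn ((𝓘.comap φ).comap p₁)).subschemeι ≫ p₂) := by
  obtain ⟨hfin, hflat, hfp⟩ := hfl
  obtain ⟨𝓘, S', b, hb, hadm, hU', hflat'⟩ := exists_strict_flattening φ U hU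
  refine ⟨𝓘, S', b, hb, hadm, fun X' p₁ p₂ hc => ?_⟩
  obtain ⟨hg₁, hg₂, -, -⟩ := hflat' X' p₁ p₂ hc
  haveI := hg₁
  haveI : IsProper p₂ := MorphismProperty.of_isPullback hc ‹IsProper φ›
  have hq : IsFinite (φ ∣_ awayFrom 𝓘) := by rw [hU']; exact hfin
  haveI : IsFinite (((supportedOn ((𝓘.comap φ).comap p₁)).subschemeι ≫ p₂) ∣_ awayFrom (𝓘.comap b)) := by
    rw [H18HTop.awayFrom_comap]
    exact property_strict_restrict (P := @IsFinite) hc 𝓘 hq
  haveI := locallyQuasiFinite_of_restrict ((supportedOn ((𝓘.comap φ).comap p₁)).subschemeι ≫ p₂) hb.1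
  exact ⟨IsFinite.of_isProper_of_locallyQuasiFinite _, hg₁, hg₂⟩

end Groth.Agent.H7Flat.Flatten
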