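import Groth.Agent.H7Flat.Flatten.Common
import Groth.Agent.H8Props.PushoutQF.Affine
import Groth.Agent.H17.TwoGlue
import Mathlib

/-!
# Gluing compactifications of two opens
-/

set_option autoImplicit false
set_option linter.style.haveILetI false
set_option backward.isDefEq.respectTransparency false
set_option maxHeartbeats 1000000

universe u

open AlgebraicGeometry CategoryTheory Limits TopologicalSpace Opposite

namespace Groth.Agent.H7Flat.Flatten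

/-- A morphism covered by two morphisms with universally closed composites is universally closed. -/
theorem universallyClosed_of_cover {A B Y Z : Scheme.{u}} (a : A ⟶ Y) (b : B ⟶ Y) (q : Y ⟶ Z)
    [UniversallyClosed (a ≫ q)] [UniversallyClosed (b ≫ q)] (h : Set.range a ∪ Set.range b = Set.univ) :
    UniversallyClosed q := by
  constructor
  intro X' Y' i₁ i₂ f' H C hC
  have hA := UniversallyClosed.universally_isClosedMap _ _ _ ((IsPullback.of_hasPullback i₁ a).paste_horiz H)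
  have hB := UniversallyClosed.universally_isClosedMap _ _ _ ((IsPullback.of_hasPullback i₁ b).paste_horiz H)
  have himg : f' '' C = (pullback.fst i₁ a ≫ f') '' (pullback.fst i₁ a ⁻¹' C) ∪
      (pullback.fst i₁ b ≫ f') '' (pullback.fst i₁ b ⁻¹' C) := by
    ext y
    constructor
    · rintro ⟨x, hx, rfl⟩
      rcases (h.ge (Set.mem_univ (i₁ x)) : i₁ x ∈ Set.range a ∪ Set.range b) with ⟨w, hw⟩ | ⟨w, hw⟩
      · obtain ⟨z, hz, -⟩ := Scheme.Pullback.exists_preimage_pullback (f := i₁) (g := a) x w hw.symm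
        exact .inl ⟨z, by simpa [hz] using hx, by simp [hz]⟩
      · obtain ⟨z, hz, -⟩ := Scheme.Pullback.exists_preimage_pullback (f := i₁) (g := b) x w hw.symm
        exact .inr ⟨z, by simpa [hz] using hx, by simp [hz]⟩
    · rintro (⟨z, hz, rfl⟩ | ⟨z, hz, rfl⟩) <;> exact ⟨_, hz, by simp⟩
  rw [himg]
  exact (hA _ (hC.preimage (pullback.fst i₁ a).continuous)).union (hB _ (hC.preimage (pullback.fst i₁ b).continuous))

/-- Morphisms to a separated scheme agreeing on a schematically dense part agree. -/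
theorem hom_ext_of_schDominant {W X Z S : Scheme.{u}} (j : W ⟶ X) [IsSchemeTheoreticallyDominant j]
    (g : Z ⟶ S) [IsSeparated g] (f f' : X ⟶ Z) (hg : f ≫ g = f' ≫ g) (hj : j ≫ f = j ≫ f') : f = f' := by
  let m : X ⟶ pullback g g := pullback.lift f f' hg
  let e := pullback.fst m (pullback.diagonal g)
  let s : W ⟶ pullback m (pullback.diagonal g) := pullback.lift j (j ≫ f)
    (pullback.hom_ext (by simp [m]) (by simp [m, hj]))
  haveI : IsClosedImmersion e := inferInstance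
  have hs : s ≫ e = j := pullback.lift_fst _ _ _
  haveI : IsIso e := by
    rw [IsClosedImmersion.isIso_iff_ker_eq_bot, eq_bot_iff, ← j.ker_eq_bot]
    conv_rhs => rw [← hs]
    exact Scheme.Hom.le_ker_comp _ _
  have he : m = inv e ≫ pullback.snd m (pullback.diagonal g) ≫ pullback.diagonal g := by
    rw [IsIso.eq_inv_comp]; exact pullback.condition
  have h1 := congrArg (· ≫ pullback.fst g g) he
  have h2 := congrArg (· ≫ pullback.snd g g) he
  simp only [m, pullback.lift_fst, pullback.lift_snd, Category.assoc, pullback.diagonal_fst,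
    pullback.diagonal_snd, Category.comp_id] at h1 h2
  exact h1.trans h2.symm

/-- Images of closed subsets of a proper scheme lying in an open are closed in separated schemes. -/
theorem isClosed_image_of_proper {W X Y S : Scheme.{u}} (ι : W ⟶ X) [IsOpenImmersion ι] (πX : X ⟶ S) [IsProper πX]
    (f : W ⟶ Y) (πY : Y ⟶ S) [IsSeparated πY] (hf : f ≫ πY = ι ≫ πX) (K : Closeds X)
    (hK : (K : Set X) ⊆ Set.range ι) : IsClosed (f '' (ι ⁻¹' (K : Set X))) := by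
  let s := (Scheme.IdealSheafData.vanishingIdeal K).subschemeι
  have hs : Set.range s = (K : Set X) := by
    simp [s, Scheme.IdealSheafData.range_subschemeι]
  let l : (Scheme.IdealSheafData.vanishingIdeal K).subscheme ⟶ W := IsOpenImmersion.lift ι s (hs.trans_subset hK)
  have hl : l ≫ ι = s := IsOpenImmersion.lift_fac _ _ _
  haveI : IsProper ((l ≫ f) ≫ πY) := by
    rw [Category.assoc, hf, ← Category.assoc, hl]; infer_instance
  haveI : IsProper (l ≫ f) := IsProper.of_comp _ πY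
  have : f '' (ι ⁻¹' (K : Set X)) = Set.range (l ≫ f) := by
    ext y
    constructor
    · rintro ⟨w, hw, rfl⟩
      obtain ⟨z, hz⟩ : ι w ∈ Set.range s := hs.ge hw
      refine ⟨z, ?_⟩
      have : l z = w := ι.isOpenEmbedding.injective (by rw [← Scheme.Hom.comp_apply, hl, hz])
      simp [this]
    · rintro ⟨z, rfl⟩
      exact ⟨l z, show ι (l z) ∈ (K : Set X) by rw [← Scheme.Hom.comp_apply, hl]; exact hs.le ⟨z, rfl⟩, rfl⟩
  rw [this]
  exact (l ≫ f).isClosedMap.isClosed_range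

theorem hom_congr_apply {X Y : Scheme.{u}} {f g : X ⟶ Y} (h : f = g) (x : X) : f x = g x := by rw [h]

/-- Morphisms agreeing on two opens covering the source agree. -/
theorem hom_ext_two {X Y : Scheme.{u}} (Q₁ Q₂ : X.Opens) (h : Q₁ ⊔ Q₂ = ⊤) (f g : X ⟶ Y)
    (h₁ : Q₁.ι ≫ f = Q₁.ι ≫ g) (h₂ : Q₂.ι ≫ f = Q₂.ι ≫ g) : f = g := by
  let W : ULift.{u} Bool → X.Opens := fun i => if i.down then Q₁ else Q₂
  refine Scheme.Cover.hom_ext (Scheme.openCoverOfIsOpenCover X W ?_) _ _ ?_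
  · rw [IsOpenCover, eq_top_iff, ← h]
    exact sup_le (le_iSup W ⟨true⟩) (le_iSup W ⟨false⟩)
  · rintro ⟨_ | _⟩
    · exact h₂
    · exact h₁

/-- The data of two compactifications agreeing away from closed subsets glue to a compactification. -/
theorem exists_compactification_of_data {U S Y₁ Y₂ X : Scheme.{u}} [QuasiSeparatedSpace S] [CompactSpace S]
    (g : U ⟶ S) [IsSeparated g] [QuasiCompact g] (U₁ U₂ : U.Opens) (hcov : U₁ ⊔ U₂ = ⊤)
    (j₁ : (U₁ : Scheme.{u}) ⟶ Y₁) [IsOpenImmersion j₁] (π₁ : Y₁ ⟶ S) [IsProper π₁] (hj₁ : j₁ ≫ π₁ = U₁.ι ≫ g)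
    (j₂ : (U₂ : Scheme.{u}) ⟶ Y₂) [IsOpenImmersion j₂] (π₂ : Y₂ ⟶ S) [IsProper π₂] (hj₂ : j₂ ≫ π₂ = U₂.ι ≫ g)
    (πX : X ⟶ S) [IsProper πX] (V₁ V₂ : X.Opens) (hV₁ : IsCompact (V₁ : Set X)) (hV₂ : IsCompact (V₂ : Set X))
    (hVcov : V₁ ⊔ V₂ = ⊤) (o₁ : (V₁ : Scheme.{u}) ⟶ Y₁) [IsOpenImmersion o₁] (ho₁ : o₁ ≫ π₁ = V₁.ι ≫ πX)
    (o₂ : (V₂ : Scheme.{u}) ⟶ Y₂) [IsOpenImmersion o₂] (ho₂ : o₂ ≫ π₂ = V₂.ι ≫ πX)
    (u : ((U₁ ⊓ U₂ : U.Opens) : Scheme.{u}) ⟶ ((V₁ ⊓ V₂ : X.Opens) : Scheme.{u}))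
    (hu₁ : u ≫ X.homOfLE (inf_le_left : V₁ ⊓ V₂ ≤ V₁) ≫ o₁ = U.homOfLE (inf_le_left : U₁ ⊓ U₂ ≤ U₁) ≫ j₁)
    (hu₂ : u ≫ X.homOfLE (inf_le_right : V₁ ⊓ V₂ ≤ V₂) ≫ o₂ = U.homOfLE (inf_le_right : U₁ ⊓ U₂ ≤ U₂) ≫ j₂)
    (hG₁ : ∀ w : (U₁ : Scheme.{u}), j₁ w ∈ Set.range o₁ → U₁.ι w ∈ U₂)
    (hG₂ : ∀ w : (U₂ : Scheme.{u}), j₂ w ∈ Set.range o₂ → U₂.ι w ∈ U₁) :
    ∃ (Y : Scheme.{u}) (j : U ⟶ Y) (p : Y ⟶ S), IsOpenImmersion j ∧ QuasiCompact j ∧ IsProper p ∧ j ≫ p = g := by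
  classical
  haveI : CompactSpace X := QuasiCompact.compactSpace_of_compactSpace πX
  haveI : QuasiSeparatedSpace X := quasiSeparatedSpace_of_quasiSeparated πX
  let T := V₁ ⊓ V₂
  let a : (T : Scheme.{u}) ⟶ Y₁ := X.homOfLE inf_le_left ≫ o₁
  let b : (T : Scheme.{u}) ⟶ Y₂ := X.homOfLE inf_le_right ≫ o₂
  have ha : a ≫ π₁ = T.ι ≫ πX := by simp only [a, Category.assoc, ho₁, Scheme.homOfLE_ι_assoc]
  have hb : b ≫ π₂ = T.ι ≫ πX := by simp only [b, Category.assoc, ho₂, Scheme.homOfLE_ι_assoc]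
  -- the bad subsets
  let K₁ : Closeds X := ⟨(V₂ : Set X)ᶜ, V₂.2.isClosed_compl⟩
  let K₂ : Closeds X := ⟨(V₁ : Set X)ᶜ, V₁.2.isClosed_compl⟩
  have hK₁ : (K₁ : Set X) ⊆ Set.range V₁.ι := by
    rw [Scheme.Opens.range_ι]
    intro x hx
    exact ((hVcov.ge (Opens.mem_top x) : x ∈ V₁ ⊔ V₂) : x ∈ V₁ ∨ x ∈ V₂).resolve_right hx
  have hK₂ : (K₂ : Set X) ⊆ Set.range V₂.ι := by
    rw [Scheme.Opens.range_ι]
    intro x hx
    exact ((hVcov.ge (Opens.mem_top x) : x ∈ V₁ ⊔ V₂) : x ∈ V₁ ∨ x ∈ V₂).resolve_left hx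
  let F₁ := o₁ '' (V₁.ι ⁻¹' (K₁ : Set X))
  let F₂ := o₂ '' (V₂.ι ⁻¹' (K₂ : Set X))
  let P₁ : Y₁.Opens := ⟨F₁ᶜ, (isClosed_image_of_proper V₁.ι πX o₁ π₁ ho₁ K₁ hK₁).isOpen_compl⟩
  let P₂ : Y₂.Opens := ⟨F₂ᶜ, (isClosed_image_of_proper V₂.ι πX o₂ π₂ ho₂ K₂ hK₂).isOpen_compl⟩
  have hPo₁ : ∀ x : (V₁ : Scheme.{u}), o₁ x ∈ P₁ ↔ V₁.ι x ∈ V₂ := fun x => by
    constructor
    · exact fun h => by_contra fun hn => h ⟨x, hn, rfl⟩
    · rintro h ⟨x', hx', he⟩
      exact hx' (o₁.isOpenEmbedding.injective he ▸ h)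
  have hPo₂ : ∀ x : (V₂ : Scheme.{u}), o₂ x ∈ P₂ ↔ V₂.ι x ∈ V₁ := fun x => by
    constructor
    · exact fun h => by_contra fun hn => h ⟨x, hn, rfl⟩
    · rintro h ⟨x', hx', he⟩
      exact hx' (o₂.isOpenEmbedding.injective he ▸ h)
  have hTι₁ : X.homOfLE (inf_le_left : T ≤ V₁) ≫ V₁.ι = T.ι := Scheme.homOfLE_ι _ _
  have hTι₂ : X.homOfLE (inf_le_right : T ≤ V₂) ≫ V₂.ι = T.ι := Scheme.homOfLE_ι _ _
  have haP : Set.range a ⊆ Set.range P₁.ι := by
    rw [Scheme.Opens.range_ι]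
    rintro _ ⟨t, rfl⟩
    refine (hPo₁ _).2 ?_
    show (X.homOfLE (inf_le_left : T ≤ V₁) t).1 ∈ V₂
    rw [Scheme.homOfLE_apply]
    exact t.2.2
  have hbP : Set.range b ⊆ Set.range P₂.ι := by
    rw [Scheme.Opens.range_ι]
    rintro _ ⟨t, rfl⟩
    refine (hPo₂ _).2 ?_
    show (X.homOfLE (inf_le_right : T ≤ V₂) t).1 ∈ V₁
    rw [Scheme.homOfLE_apply]
    exact t.2.1
  let a' := IsOpenImmersion.lift P₁.ι a haP
  let b' := IsOpenImmersion.lift P₂.ι b hbP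
  have ha' : a' ≫ P₁.ι = a := IsOpenImmersion.lift_fac _ _ _
  have hb' : b' ≫ P₂.ι = b := IsOpenImmersion.lift_fac _ _ _
  haveI : IsOpenImmersion a := inferInstance
  haveI : IsOpenImmersion b := inferInstance
  haveI : IsOpenImmersion (a' ≫ P₁.ι) := by rw [ha']; infer_instance
  haveI : IsOpenImmersion (b' ≫ P₂.ι) := by rw [hb']; infer_instance
  haveI : IsOpenImmersion a' := IsOpenImmersion.of_comp a' P₁.ι
  haveI : IsOpenImmersion b' := IsOpenImmersion.of_comp b' P₂.ι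
  haveI : CompactSpace Y₁ := QuasiCompact.compactSpace_of_compactSpace π₁
  haveI : CompactSpace Y₂ := QuasiCompact.compactSpace_of_compactSpace π₂
  haveI : QuasiSeparatedSpace Y₁ := quasiSeparatedSpace_of_quasiSeparated π₁
  haveI : QuasiSeparatedSpace Y₂ := quasiSeparatedSpace_of_quasiSeparated π₂
  -- the closure of the graph
  let c : (T : Scheme.{u}) ⟶ pullback πX (pullback.fst π₁ π₂ ≫ π₁) :=
    pullback.lift T.ι (pullback.lift a b (ha.trans hb.symm)) (by rw [pullback.lift_fst_assoc, ha])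
  haveI : CompactSpace (T : Scheme.{u}) :=
    isCompact_iff_compactSpace.mp (QuasiSeparatedSpace.inter_isCompact _ _ V₁.2 hV₁ V₂.2 hV₂)
  haveI : QuasiSeparatedSpace ↥(pullback πX (pullback.fst π₁ π₂ ≫ π₁)) :=
    quasiSeparatedSpace_of_quasiSeparated (pullback.fst πX (pullback.fst π₁ π₂ ≫ π₁) ≫ πX)
  haveI : QuasiCompact c := QuasiCompact.of_comp c (terminal.from _)
  haveI : IsSchemeTheoreticallyDominant c.toImage := ⟨H17.ker_toImage c⟩
  let x : c.image ⟶ X := c.imageι ≫ pullback.fst _ _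
  let y₁ : c.image ⟶ Y₁ := c.imageι ≫ pullback.snd _ _ ≫ pullback.fst π₁ π₂
  let y₂ : c.image ⟶ Y₂ := c.imageι ≫ pullback.snd _ _ ≫ pullback.snd π₁ π₂
  have hcx : c.toImage ≫ x = T.ι := by simp [x, c, Scheme.Hom.toImage_imageι_assoc]
  have hcy₁ : c.toImage ≫ y₁ = a := by simp [y₁, c, Scheme.Hom.toImage_imageι_assoc]
  have hcy₂ : c.toImage ≫ y₂ = b := by simp [y₂, c, Scheme.Hom.toImage_imageι_assoc]
  have hπy₁ : y₁ ≫ π₁ = x ≫ πX := by simp [x, y₁, pullback.condition]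
  have hπy₂ : y₂ ≫ π₂ = x ≫ πX := by simp [x, y₂, pullback.condition]
  have hx_def : c.imageι ≫ pullback.fst πX (pullback.fst π₁ π₂ ≫ π₁) = x := rfl
  have hy₁_def : c.imageι ≫ pullback.snd _ _ ≫ pullback.fst π₁ π₂ = y₁ := rfl
  have hy₂_def : c.imageι ≫ pullback.snd _ _ ≫ pullback.snd π₁ π₂ = y₂ := rfl
  have hxπ : (c.imageι ≫ pullback.snd πX (pullback.fst π₁ π₂ ≫ π₁)) ≫ pullback.fst π₁ π₂ ≫ π₁ = x ≫ πX := by
    simp [x, pullback.condition]
  haveI : IsProper x := inferInstance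
  clear_value x y₁ y₂
  -- the projections are compatible with the open immersions
  have compat : ∀ {Y : Scheme.{u}} (π : Y ⟶ S) [IsSeparated π] (V : X.Opens) (hTV : T ≤ V)
      (o : (V : Scheme.{u}) ⟶ Y) [IsOpenImmersion o] (y : c.image ⟶ Y),
      o ≫ π = V.ι ≫ πX → c.toImage ≫ y = X.homOfLE hTV ≫ o → y ≫ π = x ≫ πX →
      (x ∣_ V) ≫ o = (x ⁻¹ᵁ V).ι ≫ y ∧ y ⁻¹ᵁ o.opensRange = x ⁻¹ᵁ V := by
    intro Y π _ V hTV o _ y hoπ hcy hyπ
    have hdom : ∀ (W : c.image.Opens), ∃ (T' : Scheme.{u}) (i : T' ⟶ (T : Scheme.{u})) (j : T' ⟶ (W : Scheme.{u})),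
        IsSchemeTheoreticallyDominant j ∧ j ≫ W.ι = i ≫ c.toImage := fun W =>
      ⟨_, pullback.fst c.toImage W.ι, pullback.snd c.toImage W.ι, inferInstance, pullback.condition.symm⟩
    have h₁ : (x ∣_ V) ≫ o = (x ⁻¹ᵁ V).ι ≫ y := by
      obtain ⟨T', i, j, hj, hij⟩ := hdom (x ⁻¹ᵁ V)
      haveI := hj
      refine hom_ext_of_schDominant j π _ _ ?_ ?_
      · rw [Category.assoc, hoπ, morphismRestrict_ι_assoc, Category.assoc, hyπ]
      · have : j ≫ (x ∣_ V) = i ≫ X.homOfLE hTV := by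
          rw [← cancel_mono V.ι, Category.assoc, morphismRestrict_ι, ← Category.assoc, hij, Category.assoc, hcx,
            Category.assoc, Scheme.homOfLE_ι]
        rw [← Category.assoc, this, Category.assoc, ← hcy, ← Category.assoc, ← hij, Category.assoc]
    refine ⟨h₁, ?_⟩
    have h₂ : (y ∣_ o.opensRange) ≫ o.isoOpensRange.inv ≫ V.ι = (y ⁻¹ᵁ o.opensRange).ι ≫ x := by
      obtain ⟨T', i, j, hj, hij⟩ := hdom (y ⁻¹ᵁ o.opensRange)
      haveI := hj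
      refine hom_ext_of_schDominant j πX _ _ ?_ ?_
      · rw [Category.assoc, Category.assoc, ← hoπ, ← Category.assoc o.isoOpensRange.inv,
          Scheme.Hom.isoOpensRange_inv_comp, morphismRestrict_ι_assoc, Category.assoc, hyπ]
      · have : j ≫ (y ∣_ o.opensRange) ≫ o.isoOpensRange.inv = i ≫ X.homOfLE hTV := by
          rw [← cancel_mono o, Category.assoc, Category.assoc, Scheme.Hom.isoOpensRange_inv_comp,
            morphismRestrict_ι, ← Category.assoc, hij, Category.assoc, hcy, Category.assoc]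
        rw [← Category.assoc (y ∣_ o.opensRange), ← Category.assoc, this, Category.assoc, Scheme.homOfLE_ι, ← hcx,
          ← Category.assoc, ← hij, Category.assoc]
    ext m
    constructor
    · intro hm
      have := hom_congr_apply h₂ ⟨m, hm⟩
      simp only [Scheme.Hom.comp_apply] at this
      show x m ∈ V
      rw [show x m = _ from this.symm]
      exact (o.isoOpensRange.inv ((y ∣_ o.opensRange) ⟨m, hm⟩)).2
    · intro hm
      exact ⟨(x ∣_ V) ⟨m, hm⟩, by rw [← Scheme.Hom.comp_apply, h₁]; rfl⟩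
  obtain ⟨hxy₁, hpre₁⟩ := compat π₁ V₁ inf_le_left o₁ y₁ ho₁ hcy₁ hπy₁
  obtain ⟨hxy₂, hpre₂⟩ := compat π₂ V₂ inf_le_right o₂ y₂ ho₂ hcy₂ hπy₂
  have hval₁ : ∀ m (h : x m ∈ V₁), ∃ z : (V₁ : Scheme.{u}), V₁.ι z = x m ∧ o₁ z = y₁ m := fun m h =>
    ⟨(x ∣_ V₁) ⟨m, h⟩, by rw [← Scheme.Hom.comp_apply, morphismRestrict_ι]; rfl,
      by rw [← Scheme.Hom.comp_apply, hxy₁]; rfl⟩
  have hval₂ : ∀ m (h : x m ∈ V₂), ∃ z : (V₂ : Scheme.{u}), V₂.ι z = x m ∧ o₂ z = y₂ m := fun m h =>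
    ⟨(x ∣_ V₂) ⟨m, h⟩, by rw [← Scheme.Hom.comp_apply, morphismRestrict_ι]; rfl,
      by rw [← Scheme.Hom.comp_apply, hxy₂]; rfl⟩
  have hiff₁ : ∀ m, y₁ m ∈ P₁ ↔ (x m ∈ V₁ → x m ∈ V₂) := by
    intro m
    constructor
    · intro h hm
      obtain ⟨z, hz, hz'⟩ := hval₁ m hm
      rw [← hz]
      exact (hPo₁ z).1 (hz' ▸ h)
    · rintro h ⟨z, hz, he⟩
      have hm : x m ∈ V₁ := hpre₁.le (show m ∈ y₁ ⁻¹ᵁ o₁.opensRange from ⟨z, he⟩)
      obtain ⟨z', hz₁, hz₂⟩ := hval₁ m hm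
      obtain rfl : z = z' := o₁.isOpenEmbedding.injective (he.trans hz₂.symm)
      exact hz (by rw [hz₁]; exact h hm)
  have hiff₂ : ∀ m, y₂ m ∈ P₂ ↔ (x m ∈ V₂ → x m ∈ V₁) := by
    intro m
    constructor
    · intro h hm
      obtain ⟨z, hz, hz'⟩ := hval₂ m hm
      rw [← hz]
      exact (hPo₂ z).1 (hz' ▸ h)
    · rintro h ⟨z, hz, he⟩
      have hm : x m ∈ V₂ := hpre₂.le (show m ∈ y₂ ⁻¹ᵁ o₂.opensRange from ⟨z, he⟩)
      obtain ⟨z', hz₁, hz₂⟩ := hval₂ m hm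
      obtain rfl : z = z' := o₂.isOpenEmbedding.injective (he.trans hz₂.symm)
      exact hz (by rw [hz₁]; exact h hm)
  have hxcov : ∀ m, x m ∈ V₁ ∨ x m ∈ V₂ := fun m => (hVcov.ge (Opens.mem_top (x m)) : x m ∈ V₁ ⊔ V₂)
  have hboth : y₁ ⁻¹ᵁ P₁ ⊓ y₂ ⁻¹ᵁ P₂ = x ⁻¹ᵁ T := by
    ext m
    show y₁ m ∈ P₁ ∧ y₂ m ∈ P₂ ↔ x m ∈ V₁ ∧ x m ∈ V₂
    rw [hiff₁, hiff₂]
    rcases hxcov m with h | h <;> tauto
  let Q₁ := y₁ ⁻¹ᵁ P₁
  let Q₂ := y₂ ⁻¹ᵁ P₂
  have hQ : Q₁ ⊔ Q₂ = ⊤ := by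
    refine eq_top_iff.mpr fun m _ => ?_
    show y₁ m ∈ P₁ ∨ y₂ m ∈ P₂
    rw [hiff₁, hiff₂]
    rcases hxcov m with h | h <;> tauto
  have hr₁ : c.image.homOfLE (inf_le_left : Q₁ ⊓ Q₂ ≤ Q₁) ≫ (y₁ ∣_ P₁) =
      c.image.homOfLE hboth.le ≫ (x ∣_ T) ≫ a' := by
    rw [← cancel_mono P₁.ι]
    simp only [Category.assoc, morphismRestrict_ι, ha', a, Scheme.homOfLE_ι_assoc]
    have h : (x ∣_ T) ≫ X.homOfLE (inf_le_left : T ≤ V₁) =
        c.image.homOfLE (x.preimage_mono (inf_le_left : T ≤ V₁)) ≫ (x ∣_ V₁) := by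
      rw [← cancel_mono V₁.ι, Category.assoc, hTι₁, morphismRestrict_ι, Category.assoc, morphismRestrict_ι,
        Scheme.homOfLE_ι_assoc]
    rw [← Category.assoc (x ∣_ T), h, Category.assoc, hxy₁, Scheme.homOfLE_homOfLE_assoc, Scheme.homOfLE_ι_assoc]
    exact (Scheme.homOfLE_ι_assoc _ _ _).symm
  have hr₂ : c.image.homOfLE (inf_le_right : Q₁ ⊓ Q₂ ≤ Q₂) ≫ (y₂ ∣_ P₂) =
      c.image.homOfLE hboth.le ≫ (x ∣_ T) ≫ b' := by
    rw [← cancel_mono P₂.ι]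
    simp only [Category.assoc, morphismRestrict_ι, hb', b, Scheme.homOfLE_ι_assoc]
    have h : (x ∣_ T) ≫ X.homOfLE (inf_le_right : T ≤ V₂) =
        c.image.homOfLE (x.preimage_mono (inf_le_right : T ≤ V₂)) ≫ (x ∣_ V₂) := by
      rw [← cancel_mono V₂.ι, Category.assoc, hTι₂, morphismRestrict_ι, Category.assoc, morphismRestrict_ι,
        Scheme.homOfLE_ι_assoc]
    rw [← Category.assoc (x ∣_ T), h, Category.assoc, hxy₂, Scheme.homOfLE_homOfLE_assoc, Scheme.homOfLE_ι_assoc]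
    exact (Scheme.homOfLE_ι_assoc _ _ _).symm
  -- the glued scheme
  have hab : a' ≫ P₁.ι ≫ π₁ = b' ≫ P₂.ι ≫ π₂ := by
    rw [← Category.assoc, ha', ha, ← Category.assoc, hb', hb]
  haveI : QuasiCompact (pullback.lift a b (ha.trans hb.symm)) := by
    haveI : QuasiSeparatedSpace ↥(pullback π₁ π₂) := quasiSeparatedSpace_of_quasiSeparated (pullback.fst π₁ π₂ ≫ π₁)
    exact QuasiCompact.of_comp _ (terminal.from _)
  have hF₁c : IsCompact (P₁ : Set Y₁) ∧ IsCompact (P₂ : Set Y₂) := by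
    constructor
    · have : (P₁ : Set Y₁) = (Set.range o₁)ᶜ ∪ Set.range a := by
        ext y
        constructor
        · intro hy
          by_cases h : y ∈ Set.range o₁
          · obtain ⟨z, rfl⟩ := h
            exact .inr ⟨⟨V₁.ι z, z.2, (hPo₁ z).1 hy⟩, congrArg o₁ (Subtype.ext (Scheme.homOfLE_apply _ _))⟩
          · exact .inl h
        · rintro (h | ⟨t, rfl⟩)
          · rintro ⟨z, -, rfl⟩; exact h ⟨z, rfl⟩
          · exact (haP ⟨t, rfl⟩ : a t ∈ Set.range P₁.ι).casesOn fun w hw => hw ▸ w.2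
      rw [this]
      exact (o₁.isOpenEmbedding.isOpen_range.isClosed_compl.isCompact).union (isCompact_range a.continuous)
    · have : (P₂ : Set Y₂) = (Set.range o₂)ᶜ ∪ Set.range b := by
        ext y
        constructor
        · intro hy
          by_cases h : y ∈ Set.range o₂
          · obtain ⟨z, rfl⟩ := h
            exact .inr ⟨⟨V₂.ι z, (hPo₂ z).1 hy, z.2⟩, congrArg o₂ (Subtype.ext (Scheme.homOfLE_apply _ _))⟩
          · exact .inl h
        · rintro (h | ⟨t, rfl⟩)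
          · rintro ⟨z, -, rfl⟩; exact h ⟨z, rfl⟩
          · exact (hbP ⟨t, rfl⟩ : b t ∈ Set.range P₂.ι).casesOn fun w hw => hw ▸ w.2
      rw [this]
      exact (o₂.isOpenEmbedding.isOpen_range.isClosed_compl.isCompact).union (isCompact_range b.continuous)
  haveI : CompactSpace (P₁ : Scheme.{u}) := isCompact_iff_compactSpace.mp hF₁c.1
  haveI : CompactSpace (P₂ : Scheme.{u}) := isCompact_iff_compactSpace.mp hF₁c.2
  haveI : QuasiCompact P₁.ι := QuasiCompact.of_comp _ (terminal.from _)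
  haveI : QuasiCompact P₂.ι := QuasiCompact.of_comp _ (terminal.from _)
  have hcl : IsClosed (Set.range (pullback.lift a' b' hab)) := by
    let y : c.image ⟶ pullback π₁ π₂ := c.imageι ≫ pullback.snd _ _
    haveI : IsProper y := by
      haveI : IsProper (y ≫ pullback.fst π₁ π₂ ≫ π₁) := by
        rw [show y ≫ pullback.fst π₁ π₂ ≫ π₁ = x ≫ πX from hxπ]
        infer_instance
      exact IsProper.of_comp y (pullback.fst π₁ π₂ ≫ π₁)
    let m : pullback (P₁.ι ≫ π₁) (P₂.ι ≫ π₂) ⟶ pullback π₁ π₂ :=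
      pullback.map _ _ _ _ P₁.ι P₂.ι (𝟙 S) (by simp) (by simp)
    have hm : pullback.lift a' b' hab ≫ m = c.toImage ≫ y :=
      pullback.hom_ext (by simp [m, y, c, ha', Scheme.Hom.toImage_imageι_assoc])
        (by simp [m, y, c, hb', Scheme.Hom.toImage_imageι_assoc])
    have hrange : Set.range (pullback.lift a' b' hab) = m ⁻¹' Set.range y := by
      ext z
      constructor
      · rintro ⟨t, rfl⟩
        exact ⟨c.toImage t, by rw [← Scheme.Hom.comp_apply, ← hm]; rfl⟩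
      · rintro ⟨m₀, hm₀⟩
        have h1 : y₁ m₀ ∈ P₁ := by
          have := congrArg (pullback.fst π₁ π₂) hm₀
          simp only [← Scheme.Hom.comp_apply, m, pullback.lift_fst] at this
          simp only [y, Category.assoc] at this
          rw [← hy₁_def, this]
          exact (pullback.fst (P₁.ι ≫ π₁) (P₂.ι ≫ π₂) z).2
        have h2 : y₂ m₀ ∈ P₂ := by
          have := congrArg (pullback.snd π₁ π₂) hm₀
          simp only [← Scheme.Hom.comp_apply, m, pullback.lift_snd] at this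
          simp only [y, Category.assoc] at this
          rw [← hy₂_def, this]
          exact (pullback.snd (P₁.ι ≫ π₁) (P₂.ι ≫ π₂) z).2
        refine ⟨(x ∣_ T) ⟨m₀, hboth.le ⟨h1, h2⟩⟩, m.isOpenEmbedding.injective ?_⟩
        rw [← hm₀, ← Scheme.Hom.comp_apply, hm]
        have h3 : (x ∣_ T) ≫ c.toImage ≫ y = (x ⁻¹ᵁ T).ι ≫ y := by
          have e := hboth.ge
          refine pullback.hom_ext ?_ ?_
          · have := congrArg (fun k => c.image.homOfLE e ≫ k ≫ P₁.ι) hr₁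
            simp only [Category.assoc, morphismRestrict_ι, ha', Scheme.homOfLE_ι_assoc,
              Scheme.homOfLE_homOfLE_assoc, Scheme.homOfLE_rfl, Category.id_comp] at this
            simp only [Category.assoc, y]
            rw [hy₁_def, hcy₁]
            exact this.symm.trans (Scheme.homOfLE_ι_assoc _ _ _)
          · have := congrArg (fun k => c.image.homOfLE e ≫ k ≫ P₂.ι) hr₂
            simp only [Category.assoc, morphismRestrict_ι, hb', Scheme.homOfLE_ι_assoc,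
              Scheme.homOfLE_homOfLE_assoc, Scheme.homOfLE_rfl, Category.id_comp] at this
            simp only [Category.assoc, y]
            rw [hy₂_def, hcy₂]
            exact this.symm.trans (Scheme.homOfLE_ι_assoc _ _ _)
        rw [← Scheme.Hom.comp_apply, h3]
        rfl
    rw [hrange]
    exact y.isClosedMap.isClosed_range.preimage m.continuous
  obtain ⟨Y, q, oA, oB, hq₁, hq₂, hq₃, hoA, hoB, hqA, hqB, hglue, hYcov, hYint⟩ :=
    exists_glue_pair a' b' (P₁.ι ≫ π₁) (P₂.ι ≫ π₂) hab hcl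
  -- universal closedness
  haveI : UniversallyClosed q := by
    obtain ⟨k, hk₁, hk₂⟩ := H17.exists_glue_two Q₁ Q₂ ((y₁ ∣_ P₁) ≫ oA) ((y₂ ∣_ P₂) ≫ oB) (by
      rw [← Category.assoc, hr₁]
      conv_rhs => rw [← Category.assoc, hr₂]
      simp only [Category.assoc, hglue])
    let e : c.image ⟶ Y := c.image.topIso.inv ≫ c.image.homOfLE hQ.ge ≫ k
    have he₁ : Q₁.ι ≫ e = (y₁ ∣_ P₁) ≫ oA := by
      rw [← hk₁, show Q₁.ι ≫ e = (Q₁.ι ≫ c.image.topIso.inv) ≫ c.image.homOfLE hQ.ge ≫ k from (Category.assoc _ _ _).symm]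
      rw [show Q₁.ι ≫ c.image.topIso.inv = c.image.homOfLE (le_top : Q₁ ≤ ⊤) from by
        rw [Iso.comp_inv_eq, Scheme.topIso_hom, Scheme.homOfLE_ι], Scheme.homOfLE_homOfLE_assoc]
    have he₂ : Q₂.ι ≫ e = (y₂ ∣_ P₂) ≫ oB := by
      rw [← hk₂, show Q₂.ι ≫ e = (Q₂.ι ≫ c.image.topIso.inv) ≫ c.image.homOfLE hQ.ge ≫ k from (Category.assoc _ _ _).symm]
      rw [show Q₂.ι ≫ c.image.topIso.inv = c.image.homOfLE (le_top : Q₂ ≤ ⊤) from by
        rw [Iso.comp_inv_eq, Scheme.topIso_hom, Scheme.homOfLE_ι], Scheme.homOfLE_homOfLE_assoc]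
    have heq : e ≫ q = x ≫ πX := by
      refine hom_ext_two Q₁ Q₂ hQ _ _ ?_ ?_
      · show Q₁.ι ≫ e ≫ q = Q₁.ι ≫ x ≫ πX
        rw [← Category.assoc, he₁, Category.assoc, hqA, morphismRestrict_ι_assoc, hπy₁]
      · show Q₂.ι ≫ e ≫ q = Q₂.ι ≫ x ≫ πX
        rw [← Category.assoc, he₂, Category.assoc, hqB, morphismRestrict_ι_assoc, hπy₂]
    -- closed subschemes outside the charts
    let D₁ := Scheme.IdealSheafData.vanishingIdeal (⟨(Set.range o₁)ᶜ, o₁.isOpenEmbedding.isOpen_range.isClosed_compl⟩ : Closeds Y₁)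
    let D₂ := Scheme.IdealSheafData.vanishingIdeal (⟨(Set.range o₂)ᶜ, o₂.isOpenEmbedding.isOpen_range.isClosed_compl⟩ : Closeds Y₂)
    have hD₁ : Set.range D₁.subschemeι = (Set.range o₁)ᶜ := by simp [D₁, Scheme.IdealSheafData.range_subschemeι]
    have hD₂ : Set.range D₂.subschemeι = (Set.range o₂)ᶜ := by simp [D₂, Scheme.IdealSheafData.range_subschemeι]
    let l₁ := IsOpenImmersion.lift P₁.ι D₁.subschemeι (by
      rw [Scheme.Opens.range_ι, hD₁]; rintro y hy ⟨z, -, rfl⟩; exact hy ⟨z, rfl⟩)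
    let l₂ := IsOpenImmersion.lift P₂.ι D₂.subschemeι (by
      rw [Scheme.Opens.range_ι, hD₂]; rintro y hy ⟨z, -, rfl⟩; exact hy ⟨z, rfl⟩)
    let d : D₁.subscheme ⨿ D₂.subscheme ⟶ Y := coprod.desc (l₁ ≫ oA) (l₂ ≫ oB)
    haveI hd₁ : UniversallyClosed ((l₁ ≫ oA) ≫ q) := by
      rw [Category.assoc, hqA, ← Category.assoc, IsOpenImmersion.lift_fac]; infer_instance
    haveI hd₂ : UniversallyClosed ((l₂ ≫ oB) ≫ q) := by
      rw [Category.assoc, hqB, ← Category.assoc, IsOpenImmersion.lift_fac]; infer_instance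
    haveI : UniversallyClosed (d ≫ q) := by
      haveI : UniversallyClosed (coprod.inl ≫ d ≫ q) := by rw [← Category.assoc, coprod.inl_desc]; exact hd₁
      haveI : UniversallyClosed (coprod.inr ≫ d ≫ q) := by rw [← Category.assoc, coprod.inr_desc]; exact hd₂
      refine universallyClosed_of_cover coprod.inl coprod.inr (d ≫ q) ?_
      simpa using (isCompl_range_inl_inr D₁.subscheme D₂.subscheme).codisjoint.eq_top
    haveI : UniversallyClosed (e ≫ q) := by rw [heq]; infer_instance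
    refine universallyClosed_of_cover e d q (Set.eq_univ_of_forall fun y => ?_)
    rcases (hYcov.ge (Set.mem_univ y) : y ∈ Set.range oA ∪ Set.range oB) with ⟨p, rfl⟩ | ⟨p, rfl⟩
    · by_cases hp : P₁.ι p ∈ Set.range o₁
      · obtain ⟨z, hz⟩ := hp
        let t : (T : Scheme.{u}) := ⟨V₁.ι z, z.2, (hPo₁ z).1 (hz ▸ p.2)⟩
        have ht : y₁ (c.toImage t) ∈ P₁ := by
          rw [← Scheme.Hom.comp_apply, hcy₁]
          exact (haP ⟨t, rfl⟩ : a t ∈ Set.range P₁.ι).casesOn fun w hw => hw ▸ w.2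
        refine .inl ⟨c.toImage t, ?_⟩
        have e1 := hom_congr_apply he₁ ⟨c.toImage t, ht⟩
        refine (show e (c.toImage t) = _ from e1).trans ?_
        rw [Scheme.Hom.comp_apply]
        refine congrArg oA (P₁.ι.isOpenEmbedding.injective ?_)
        rw [← Scheme.Hom.comp_apply, morphismRestrict_ι, ← hz]
        show y₁ (c.toImage t) = o₁ z
        rw [← Scheme.Hom.comp_apply, hcy₁]
        exact congrArg o₁ (Subtype.ext (Scheme.homOfLE_apply _ _))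
      · obtain ⟨w, hw⟩ : P₁.ι p ∈ Set.range D₁.subschemeι := hD₁.ge hp
        refine .inr ⟨(coprod.inl : _ ⟶ D₁.subscheme ⨿ D₂.subscheme) w, ?_⟩
        rw [← Scheme.Hom.comp_apply, coprod.inl_desc, Scheme.Hom.comp_apply]
        refine congrArg oA (P₁.ι.isOpenEmbedding.injective ?_)
        rw [← Scheme.Hom.comp_apply, IsOpenImmersion.lift_fac, hw]
    · by_cases hp : P₂.ι p ∈ Set.range o₂
      · obtain ⟨z, hz⟩ := hp
        let t : (T : Scheme.{u}) := ⟨V₂.ι z, (hPo₂ z).1 (hz ▸ p.2), z.2⟩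
        have ht : y₂ (c.toImage t) ∈ P₂ := by
          rw [← Scheme.Hom.comp_apply, hcy₂]
          exact (hbP ⟨t, rfl⟩ : b t ∈ Set.range P₂.ι).casesOn fun w hw => hw ▸ w.2
        refine .inl ⟨c.toImage t, ?_⟩
        have e1 := hom_congr_apply he₂ ⟨c.toImage t, ht⟩
        refine (show e (c.toImage t) = _ from e1).trans ?_
        rw [Scheme.Hom.comp_apply]
        refine congrArg oB (P₂.ι.isOpenEmbedding.injective ?_)
        rw [← Scheme.Hom.comp_apply, morphismRestrict_ι, ← hz]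
        show y₂ (c.toImage t) = o₂ z
        rw [← Scheme.Hom.comp_apply, hcy₂]
        exact congrArg o₂ (Subtype.ext (Scheme.homOfLE_apply _ _))
      · obtain ⟨w, hw⟩ : P₂.ι p ∈ Set.range D₂.subschemeι := hD₂.ge hp
        refine .inr ⟨(coprod.inr : _ ⟶ D₁.subscheme ⨿ D₂.subscheme) w, ?_⟩
        rw [← Scheme.Hom.comp_apply, coprod.inr_desc, Scheme.Hom.comp_apply]
        refine congrArg oB (P₂.ι.isOpenEmbedding.injective ?_)
        rw [← Scheme.Hom.comp_apply, IsOpenImmersion.lift_fac, hw]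
  haveI : IsProper q := { }
  -- the embedding of `U`
  have hjP₁ : Set.range j₁ ⊆ Set.range P₁.ι := by
    rw [Scheme.Opens.range_ι]
    rintro _ ⟨w, rfl⟩ ⟨z, hz, he⟩
    have hw := hG₁ w ⟨z, he⟩
    refine hz ?_
    let w' : ((U₁ ⊓ U₂ : U.Opens) : Scheme.{u}) := ⟨U₁.ι w, w.2, hw⟩
    have h1 := hom_congr_apply hu₁ w'
    have h2 : U.homOfLE (inf_le_left : U₁ ⊓ U₂ ≤ U₁) w' = w :=
      U₁.ι.isOpenEmbedding.injective (by rw [← Scheme.Hom.comp_apply, Scheme.homOfLE_ι]; rfl)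
    simp only [Scheme.Hom.comp_apply, h2] at h1
    obtain rfl := o₁.isOpenEmbedding.injective (h1.trans he.symm)
    rw [← Scheme.Hom.comp_apply, Scheme.homOfLE_ι]
    exact (u w').2.2
  have hjP₂ : Set.range j₂ ⊆ Set.range P₂.ι := by
    rw [Scheme.Opens.range_ι]
    rintro _ ⟨w, rfl⟩ ⟨z, hz, he⟩
    have hw := hG₂ w ⟨z, he⟩
    refine hz ?_
    let w' : ((U₁ ⊓ U₂ : U.Opens) : Scheme.{u}) := ⟨U₂.ι w, hw, w.2⟩
    have h1 := hom_congr_apply hu₂ w'
    have h2 : U.homOfLE (inf_le_right : U₁ ⊓ U₂ ≤ U₂) w' = w :=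
      U₂.ι.isOpenEmbedding.injective (by rw [← Scheme.Hom.comp_apply, Scheme.homOfLE_ι]; rfl)
    simp only [Scheme.Hom.comp_apply, h2] at h1
    obtain rfl := o₂.isOpenEmbedding.injective (h1.trans he.symm)
    rw [← Scheme.Hom.comp_apply, Scheme.homOfLE_ι]
    exact (u w').2.1
  let i₁ := IsOpenImmersion.lift P₁.ι j₁ hjP₁
  let i₂ := IsOpenImmersion.lift P₂.ι j₂ hjP₂
  have hi₁ : i₁ ≫ P₁.ι = j₁ := IsOpenImmersion.lift_fac _ _ _
  have hi₂ : i₂ ≫ P₂.ι = j₂ := IsOpenImmersion.lift_fac _ _ _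
  have hov₁ : U.homOfLE (inf_le_left : U₁ ⊓ U₂ ≤ U₁) ≫ i₁ = u ≫ a' := by
    rw [← cancel_mono P₁.ι, Category.assoc, hi₁, Category.assoc, ha', ← hu₁]
  have hov₂ : U.homOfLE (inf_le_right : U₁ ⊓ U₂ ≤ U₂) ≫ i₂ = u ≫ b' := by
    rw [← cancel_mono P₂.ι, Category.assoc, hi₂, Category.assoc, hb', ← hu₂]
  obtain ⟨k, hk₁, hk₂⟩ := H17.exists_glue_two U₁ U₂ (i₁ ≫ oA) (i₂ ≫ oB) (by
    rw [← Category.assoc, hov₁, ← Category.assoc, hov₂, Category.assoc, Category.assoc, hglue])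
  let j : U ⟶ Y := U.topIso.inv ≫ U.homOfLE hcov.ge ≫ k
  have hjι₁ : U₁.ι ≫ j = i₁ ≫ oA := by
    rw [← hk₁, show U₁.ι ≫ j = (U₁.ι ≫ U.topIso.inv) ≫ U.homOfLE hcov.ge ≫ k from (Category.assoc _ _ _).symm,
      show U₁.ι ≫ U.topIso.inv = U.homOfLE (le_top : U₁ ≤ ⊤) from by
        rw [Iso.comp_inv_eq, Scheme.topIso_hom, Scheme.homOfLE_ι], Scheme.homOfLE_homOfLE_assoc]
  have hjι₂ : U₂.ι ≫ j = i₂ ≫ oB := by
    rw [← hk₂, show U₂.ι ≫ j = (U₂.ι ≫ U.topIso.inv) ≫ U.homOfLE hcov.ge ≫ k from (Category.assoc _ _ _).symm,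
      show U₂.ι ≫ U.topIso.inv = U.homOfLE (le_top : U₂ ≤ ⊤) from by
        rw [Iso.comp_inv_eq, Scheme.topIso_hom, Scheme.homOfLE_ι], Scheme.homOfLE_homOfLE_assoc]
  haveI : IsOpenImmersion (i₁ ≫ P₁.ι) := by rw [hi₁]; infer_instance
  haveI : IsOpenImmersion (i₂ ≫ P₂.ι) := by rw [hi₂]; infer_instance
  haveI : IsOpenImmersion i₁ := IsOpenImmersion.of_comp i₁ P₁.ι
  haveI : IsOpenImmersion i₂ := IsOpenImmersion.of_comp i₂ P₂.ι
  haveI := hoA
  haveI := hoB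
  have hUcov : ∀ w : U, w ∈ U₁ ∨ w ∈ U₂ := fun w => (hcov.ge (Opens.mem_top w) : w ∈ U₁ ⊔ U₂)
  have hcross : ∀ (w₁ : (U₁ : Scheme.{u})) (w₂ : (U₂ : Scheme.{u})),
      j (U₁.ι w₁) = j (U₂.ι w₂) → U₁.ι w₁ = U₂.ι w₂ := by
    intro w₁ w₂ h
    rw [← Scheme.Hom.comp_apply, ← Scheme.Hom.comp_apply, hjι₁, hjι₂, Scheme.Hom.comp_apply,
      Scheme.Hom.comp_apply] at h
    obtain ⟨t, ht₁, ht₂⟩ := hYint _ _ h
    have e1 : j₁ w₁ = a t := by rw [← hi₁, ← ha', Scheme.Hom.comp_apply, Scheme.Hom.comp_apply, ← ht₁]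
    have hmem : U₁.ι w₁ ∈ U₂ := hG₁ w₁ ⟨X.homOfLE inf_le_left t, by rw [e1]; rfl⟩
    let w' : ((U₁ ⊓ U₂ : U.Opens) : Scheme.{u}) := ⟨U₁.ι w₁, w₁.2, hmem⟩
    have h2 : U.homOfLE (inf_le_left : U₁ ⊓ U₂ ≤ U₁) w' = w₁ :=
      U₁.ι.isOpenEmbedding.injective (by rw [← Scheme.Hom.comp_apply, Scheme.homOfLE_ι]; rfl)
    have htu : t = u w' := by
      refine a'.isOpenEmbedding.injective ?_
      rw [ht₁, ← Scheme.Hom.comp_apply, ← hov₁, Scheme.Hom.comp_apply, h2]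
    rw [htu, ← Scheme.Hom.comp_apply, ← hov₂, Scheme.Hom.comp_apply] at ht₂
    have := congrArg U₂.ι (i₂.isOpenEmbedding.injective ht₂)
    rw [← Scheme.Hom.comp_apply, Scheme.homOfLE_ι] at this
    exact this
  have hinj : Function.Injective j := by
    intro w w' h
    rcases hUcov w with hw | hw <;> rcases hUcov w' with hw' | hw'
    · have h' : (i₁ ≫ oA) ⟨w, hw⟩ = (i₁ ≫ oA) ⟨w', hw'⟩ := by rw [← hjι₁]; exact h
      exact congrArg Subtype.val ((i₁ ≫ oA).isOpenEmbedding.injective h')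
    · exact hcross ⟨w, hw⟩ ⟨w', hw'⟩ h
    · exact (hcross ⟨w', hw'⟩ ⟨w, hw⟩ h.symm).symm
    · have h' : (i₂ ≫ oB) ⟨w, hw⟩ = (i₂ ≫ oB) ⟨w', hw'⟩ := by rw [← hjι₂]; exact h
      exact congrArg Subtype.val ((i₂ ≫ oB).isOpenEmbedding.injective h')
  haveI hjoi : IsOpenImmersion j := by
    have hloc : ∀ w : U, ∃ W : U.Opens, w ∈ W ∧ IsOpenImmersion (W.ι ≫ j) := fun w => by
      rcases hUcov w with hw | hw
      · exact ⟨U₁, hw, by rw [hjι₁]; infer_instance⟩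
      · exact ⟨U₂, hw, by rw [hjι₂]; infer_instance⟩
    haveI : ∀ w, IsIso (j.stalkMap w) := fun w => by
      obtain ⟨W, hw, hW⟩ := hloc w
      haveI := hW
      have := Scheme.Hom.stalkMap_comp W.ι j ⟨w, hw⟩
      haveI : IsIso (j.stalkMap (W.ι ⟨w, hw⟩) ≫ W.ι.stalkMap ⟨w, hw⟩) := this ▸ inferInstance
      exact IsIso.of_isIso_comp_right (j.stalkMap (W.ι ⟨w, hw⟩)) (W.ι.stalkMap ⟨w, hw⟩)
    refine IsOpenImmersion.of_isIso_stalkMap j (.of_continuous_injective_isOpenMap j.continuous hinj fun O hO => ?_)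
    have : j '' O = (i₁ ≫ oA) '' (U₁.ι ⁻¹' O) ∪ (i₂ ≫ oB) '' (U₂.ι ⁻¹' O) := by
      ext y
      constructor
      · rintro ⟨w, hw, rfl⟩
        rcases hUcov w with h | h
        · exact .inl ⟨⟨w, h⟩, hw, by rw [← hjι₁]; rfl⟩
        · exact .inr ⟨⟨w, h⟩, hw, by rw [← hjι₂]; rfl⟩
      · rintro (⟨w, hw, rfl⟩ | ⟨w, hw, rfl⟩)
        · exact ⟨U₁.ι w, hw, by rw [← hjι₁]; rfl⟩
        · exact ⟨U₂.ι w, hw, by rw [← hjι₂]; rfl⟩
    rw [this]
    exact ((i₁ ≫ oA).isOpenEmbedding.isOpenMap _ (hO.preimage U₁.ι.continuous)).union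
      ((i₂ ≫ oB).isOpenEmbedding.isOpenMap _ (hO.preimage U₂.ι.continuous))
  have hjq : j ≫ q = g := by
    refine hom_ext_two U₁ U₂ hcov _ _ ?_ ?_
    · show U₁.ι ≫ j ≫ q = U₁.ι ≫ g
      rw [← Category.assoc, hjι₁, Category.assoc, hqA, ← Category.assoc, hi₁, hj₁]
    · show U₂.ι ≫ j ≫ q = U₂.ι ≫ g
      rw [← Category.assoc, hjι₂, Category.assoc, hqB, ← Category.assoc, hi₂, hj₂]
  haveI : QuasiCompact j := by
    haveI : QuasiCompact (j ≫ q) := by rw [hjq]; infer_instance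
    exact QuasiCompact.of_comp j q
  exact ⟨Y, j, q, hjoi, inferInstance, inferInstance, hjq⟩

end Groth.Agent.H7Flat.Flatten
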