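import Groth.Agent.H3CAlg.FittBlowup
import Groth.Agent.H8Props.Devissage.Pieces
import Groth.Prelude.Def_FlatCA
import Mathlib

/-!
# Strict transforms of modules which are flat and finitely presented

For an element `t` of the base `A` the strict transform of a `B`-module `M` is the quotient of `M`
by its `t`-power torsion.
-/

set_option autoImplicit false
set_option linter.style.haveILetI false
set_option backward.isDefEq.respectTransparency false

universe u

open TensorProduct

namespace Groth.Agent.H7Flat.Flatten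

open H3CAlg.FittBlowup (mem_powTorsion_iff)

section TF

variable {A : Type u} [CommRing A] (B : Type u) [CommRing B] [Algebra A B] (t : A)
  (M : Type u) [AddCommGroup M] [Module B M]

/-- The torsion killed by powers of an element of the base. -/
abbrev tors : Submodule B M := FlatCA.powTorsion B (algebraMap A B t) M

variable [Module A M] [IsScalarTower A B M]

/-- The quotient by the torsion is flat over the base and finitely presented. -/
def TFGood : Prop := Module.Flat A (M ⧸ tors B t M) ∧ Module.FinitePresentation B (M ⧸ tors B t M)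

variable {B t M}

theorem mem_tors_iff {m : M} : m ∈ tors B t M ↔ ∃ n : ℕ, t ^ n • m = 0 := by
  rw [tors, mem_powTorsion_iff]
  simp only [← map_pow, algebraMap_smul]

theorem smul_eq_zero_tors (n : ℕ) (x : M ⧸ tors B t M) (h : t ^ n • x = 0) : x = 0 := by
  obtain ⟨m, rfl⟩ := Submodule.Quotient.mk_surjective _ x
  rw [← Submodule.Quotient.mk_smul, Submodule.Quotient.mk_eq_zero, mem_tors_iff] at h
  obtain ⟨k, hk⟩ := h
  rw [Submodule.Quotient.mk_eq_zero, mem_tors_iff]
  exact ⟨k + n, by rw [pow_add, mul_smul, hk]⟩

/-- A nonzerodivisor acts injectively on a flat module. -/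
theorem smul_eq_zero_of_flat {Q : Type u} [AddCommGroup Q] [Module A Q] [Module.Flat A Q] {a : A}
    (ha : a ∈ nonZeroDivisors A) {x : Q} (h : a • x = 0) : x = 0 :=
  Module.Flat.isSMulRegular_of_isRegular (M := Q) (isRegular_iff_mem_nonZeroDivisors.mpr ha)
    (h.trans (smul_zero a).symm)

/-- The kernel of a surjection onto a flat module, all killed by powers of a nonzerodivisor, is the
torsion. -/
theorem tors_eq_ker (ht : t ∈ nonZeroDivisors A) {Q : Type u} [AddCommGroup Q] [Module A Q] [Module B Q]
    [IsScalarTower A B Q] [Module.Flat A Q] (π : M →ₗ[B] Q) (hker : LinearMap.ker π ≤ tors B t M) :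
    tors B t M = LinearMap.ker π := by
  refine le_antisymm (fun m hm => ?_) hker
  obtain ⟨n, hn⟩ := mem_tors_iff.mp hm
  refine LinearMap.mem_ker.mpr (smul_eq_zero_of_flat (pow_mem ht n) ?_)
  rw [← LinearMap.map_smul_of_tower, hn, map_zero]

theorem tfGood_of_surjective (ht : t ∈ nonZeroDivisors A) {Q : Type u} [AddCommGroup Q] [Module A Q]
    [Module B Q] [IsScalarTower A B Q] [Module.Flat A Q] [Module.FinitePresentation B Q] (π : M →ₗ[B] Q)
    (hπ : Function.Surjective π) (hker : LinearMap.ker π ≤ tors B t M) : TFGood B t M := by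
  let e : (M ⧸ tors B t M) ≃ₗ[B] Q :=
    Submodule.quotEquivOfEq _ _ (tors_eq_ker ht π hker) ≪≫ₗ π.quotKerEquivOfSurjective hπ
  exact ⟨Module.Flat.of_linearEquiv (e.restrictScalars A), Module.FinitePresentation.of_equiv e.symm⟩

theorem tfGood_congr {M' : Type u} [AddCommGroup M'] [Module B M'] [Module A M'] [IsScalarTower A B M']
    (e : M ≃ₗ[B] M') (h : TFGood B t M) : TFGood B t M' := by
  have hmap : (tors B t M).map (e : M →ₗ[B] M') = tors B t M' := by
    ext m
    rw [Submodule.mem_map_equiv, mem_tors_iff, mem_tors_iff]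
    refine exists_congr fun n => ?_
    rw [show t ^ n • e.symm m = e.symm (t ^ n • m) from ((e.symm.restrictScalars A).map_smul _ _).symm,
      LinearEquiv.map_eq_zero_iff]
  let e' := Submodule.Quotient.equiv _ _ e hmap
  haveI := h.2
  haveI := h.1
  exact ⟨Module.Flat.of_linearEquiv (e'.restrictScalars A).symm, Module.FinitePresentation.of_equiv e'⟩

end TF

/-- Base change of a good strict transform along `A → A'`. -/
theorem tfGood_baseChange {A A' B B' M M' : Type u} [CommRing A] [CommRing A'] [CommRing B] [CommRing B']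
    [Algebra A A'] [Algebra A B] [Algebra A' B'] [Algebra B B'] [Algebra A B'] [IsScalarTower A A' B']
    [IsScalarTower A B B'] [Algebra.IsPushout A A' B B']
    [AddCommGroup M] [Module B M] [Module A M] [IsScalarTower A B M]
    [AddCommGroup M'] [Module B' M'] [Module B M'] [IsScalarTower B B' M'] [Module A' M']
    [IsScalarTower A' B' M'] (φ : M →ₗ[B] M') (hφ : IsBaseChange B' φ) (c : A) (h : TFGood B c M)
    (t : A') (ht : t ∈ nonZeroDivisors A') (hct : algebraMap A A' c ∣ t) : TFGood B' t M' := by
  obtain ⟨hflat, hfp⟩ := h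
  haveI := hflat
  haveI := hfp
  let T := tors B c M
  let Q := B' ⊗[B] (M ⧸ T)
  haveI : IsScalarTower A' B' Q := inferInstance
  haveI : IsScalarTower A A' Q := IsScalarTower.of_algebraMap_smul fun a x => by
    rw [← algebraMap_smul B' (algebraMap A A' a) x, ← IsScalarTower.algebraMap_apply,
      algebraMap_smul]
  have hQ : IsBaseChange A' ((TensorProduct.mk B B' (M ⧸ T) 1).restrictScalars A) :=
    H8Props.Devissage.isBaseChange_restrict (B := A) (A := B) (B' := A') (A' := B')
      (M := M ⧸ T) (M' := Q) (TensorProduct.isBaseChange B (M ⧸ T) B')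
  haveI : Module.Flat A' Q := Module.Flat.isBaseChange A A' (M ⧸ T) Q hQ
  let π : M' →ₗ[B'] Q := (T.mkQ.baseChange B') ∘ₗ hφ.equiv.symm.toLinearMap
  refine tfGood_of_surjective ht π
    ((LinearMap.lTensor_surjective B' T.mkQ_surjective).comp hφ.equiv.symm.surjective) ?_
  intro m hm
  obtain ⟨w, hw⟩ := (lTensor_exact B' (LinearMap.exact_subtype_mkQ T) T.mkQ_surjective
    (hφ.equiv.symm m)).mp (LinearMap.mem_ker.mp hm)
  rw [← hφ.equiv.apply_symm_apply m, ← hw]
  clear hw hm
  induction w using TensorProduct.induction_on with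
  | zero => simp
  | add a b ha hb => rw [map_add, map_add]; exact add_mem ha hb
  | tmul s x =>
    rw [LinearMap.lTensor_tmul, Submodule.subtype_apply, hφ.equiv_tmul]
    refine Submodule.smul_mem _ _ (mem_tors_iff.mpr ?_)
    obtain ⟨n, hn⟩ := mem_tors_iff.mp x.2
    obtain ⟨d, rfl⟩ := hct
    refine ⟨n, ?_⟩
    rw [← algebraMap_smul B', mul_pow, ← map_pow, map_mul, mul_comm, mul_smul,
      ← IsScalarTower.algebraMap_apply A A' B', IsScalarTower.algebraMap_apply A B B', algebraMap_smul B',
      algebraMap_smul B' (algebraMap A B (c ^ n)), ← map_smul, algebraMap_smul B, hn, map_zero, smul_zero]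

/-- An element of a module which dies in a jointly surjective family of flat algebras is zero. -/
theorem eq_zero_of_cover {B W : Type u} [CommRing B] [AddCommGroup W] [Module B W] {ι : Type*}
    (Bi : ι → Type u) [∀ i, CommRing (Bi i)] [∀ i, Algebra B (Bi i)] [∀ i, Module.Flat B (Bi i)]
    (hcov : ∀ P : PrimeSpectrum B, ∃ (i : ι) (P' : PrimeSpectrum (Bi i)),
      PrimeSpectrum.comap (algebraMap B (Bi i)) P' = P)
    (w : W) (hw : ∀ i, (1 : Bi i) ⊗ₜ[B] w = 0) : w = 0 := by
  by_contra hne
  let J : Ideal B := LinearMap.ker (LinearMap.toSpanSingleton B W w)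
  have hJ : J ≠ ⊤ := fun h => hne (by
    have h1 : (1 : B) ∈ J := h ▸ trivial
    simpa [J, LinearMap.mem_ker] using h1)
  obtain ⟨P, hP, hJP⟩ := Ideal.exists_le_maximal J hJ
  obtain ⟨i, P', hP'⟩ := hcov ⟨P, hP.isPrime⟩
  let f : (B ⧸ J) →ₗ[B] W := J.liftQ (LinearMap.toSpanSingleton B W w) le_rfl
  have hf : Function.Injective f := LinearMap.ker_eq_bot.mp (Submodule.ker_liftQ_eq_bot _ _ _ le_rfl)
  have h1 : (1 : Bi i) ⊗ₜ[B] (Submodule.Quotient.mk 1 : B ⧸ J) = 0 := by
    refine Module.Flat.lTensor_preserves_injective_linearMap (M := Bi i) f hf ?_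
    rw [map_zero, LinearMap.lTensor_tmul, show f (Submodule.Quotient.mk 1) = (1 : B) • w from rfl, one_smul,
      hw i]
  have h2 := congrArg (TensorProduct.tensorQuotEquivQuotSMul (Bi i) J) h1
  rw [map_zero] at h2
  change Submodule.Quotient.mk ((1 : B) • (1 : Bi i)) = 0 at h2
  rw [one_smul, Submodule.Quotient.mk_eq_zero, Ideal.smul_top_eq_map] at h2
  have h3 : (1 : Bi i) ∈ P'.asIdeal := by
    refine (Ideal.map_le_iff_le_comap.mpr (hJP.trans ?_)) h2
    exact (congrArg PrimeSpectrum.asIdeal hP').ge
  exact P'.isPrime.ne_top ((Ideal.eq_top_iff_one _).mpr h3)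

section Descent

variable {A B M : Type u} [CommRing A] [CommRing B] [Algebra A B] [AddCommGroup M] [Module B M] [Module A M]
  [IsScalarTower A B M] [Module.Finite B M] {ι : Type} [Finite ι]
  (Bi : ι → Type u) [∀ i, CommRing (Bi i)] [∀ i, Algebra B (Bi i)] [∀ i, Module.Flat B (Bi i)]
  [∀ i, Algebra A (Bi i)] [∀ i, IsScalarTower A B (Bi i)]
  (Mi : ι → Type u) [∀ i, AddCommGroup (Mi i)] [∀ i, Module (Bi i) (Mi i)] [∀ i, Module B (Mi i)]
  [∀ i, IsScalarTower B (Bi i) (Mi i)] [∀ i, Module A (Mi i)] [∀ i, IsScalarTower A (Bi i) (Mi i)]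

/-- Being a good strict transform is local for flat jointly surjective families. -/
theorem tfGood_of_cover
    (hcov : ∀ P : PrimeSpectrum B, ∃ (i : ι) (P' : PrimeSpectrum (Bi i)),
      PrimeSpectrum.comap (algebraMap B (Bi i)) P' = P)
    (φ : ∀ i, M →ₗ[B] Mi i) (hφ : ∀ i, IsBaseChange (Bi i) (φ i)) (t : A)
    (h : ∀ i, TFGood (Bi i) t (Mi i)) : TFGood B t M := by
  classical
  cases nonempty_fintype ι
  let T := tors B t M
  let Q := M ⧸ T
  have key : ∀ i, Nonempty ((Bi i ⊗[B] Q) ≃ₗ[Bi i] (Mi i ⧸ tors (Bi i) t (Mi i))) := by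
    intro i
    let π : Mi i →ₗ[Bi i] Bi i ⊗[B] Q := (T.mkQ.baseChange (Bi i)) ∘ₗ (hφ i).equiv.symm.toLinearMap
    have hπ : Function.Surjective π :=
      (LinearMap.lTensor_surjective (Bi i) T.mkQ_surjective).comp (hφ i).equiv.symm.surjective
    have hker : LinearMap.ker π = tors (Bi i) t (Mi i) := by
      refine le_antisymm (fun m hm => ?_) fun m hm => ?_
      · obtain ⟨w, hw⟩ := (lTensor_exact (Bi i) (LinearMap.exact_subtype_mkQ T) T.mkQ_surjective
          ((hφ i).equiv.symm m)).mp (LinearMap.mem_ker.mp hm)
        rw [← (hφ i).equiv.apply_symm_apply m, ← hw]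
        clear hw hm
        induction w using TensorProduct.induction_on with
        | zero => simp
        | add a b ha hb => rw [map_add, map_add]; exact add_mem ha hb
        | tmul s x =>
          rw [LinearMap.lTensor_tmul, Submodule.subtype_apply, (hφ i).equiv_tmul]
          refine Submodule.smul_mem _ _ (mem_tors_iff.mpr ?_)
          obtain ⟨n, hn⟩ := mem_tors_iff.mp x.2
          refine ⟨n, ?_⟩
          rw [← algebraMap_smul (Bi i) (t ^ n), IsScalarTower.algebraMap_apply A B (Bi i), algebraMap_smul,
            ← map_smul, algebraMap_smul, hn, map_zero]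
      · obtain ⟨n, hn⟩ := mem_tors_iff.mp hm
        have hinj : Function.Injective ((algebraMap A B (t ^ n) • (LinearMap.id : Q →ₗ[B] Q)).lTensor (Bi i)) :=
          Module.Flat.lTensor_preserves_injective_linearMap _
            ((injective_iff_map_eq_zero _).mpr fun x hx => smul_eq_zero_tors n x (by rw [← algebraMap_smul B (t ^ n) x]; exact hx))
        rw [LinearMap.mem_ker]
        refine hinj ?_
        rw [LinearMap.lTensor_smul, LinearMap.smul_apply, LinearMap.lTensor_id, LinearMap.id_apply, map_zero,
          ← algebraMap_smul (Bi i) (algebraMap A B (t ^ n)), ← IsScalarTower.algebraMap_apply, ← map_smul,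
          algebraMap_smul, hn, map_zero]
    exact ⟨(π.quotKerEquivOfSurjective hπ).symm ≪≫ₗ Submodule.quotEquivOfEq _ _ hker⟩
  have hflat : ∀ i, Module.Flat A (Bi i ⊗[B] Q) := fun i => by
    obtain ⟨e⟩ := key i
    haveI := (h i).1
    exact Module.Flat.of_linearEquiv (e.restrictScalars A)
  have hfp : ∀ i, Module.FinitePresentation (Bi i) (Bi i ⊗[B] Q) := fun i => by
    obtain ⟨e⟩ := key i
    haveI := (h i).2
    exact Module.FinitePresentation.of_equiv e.symm
  refine ⟨?_, ?_⟩
  · rw [Module.Flat.iff_rTensor_preserves_injective_linearMap]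
    intro X Y _ _ _ _ u hu
    haveI : Module.Flat A Q → True := fun _ => trivial
    let v : (Q ⊗[A] X) →ₗ[B] Q ⊗[A] Y := AlgebraTensorModule.lTensor B Q u
    suffices hv : Function.Injective v by
      intro x y hxy
      refine (TensorProduct.comm A X Q).injective (hv ?_)
      have hc : ∀ z : X ⊗[A] Q, v (TensorProduct.comm A X Q z) = TensorProduct.comm A Y Q (u.rTensor Q z) := by
        intro z
        induction z using TensorProduct.induction_on with
        | zero => simp
        | add a b ha hb => simp only [map_add, ha, hb]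
        | tmul a b => simp [v]
      rw [hc, hc, hxy]
    rw [injective_iff_map_eq_zero]
    intro z hz
    refine eq_zero_of_cover Bi hcov z fun i => ?_
    haveI := hflat i
    let aX := AlgebraTensorModule.assoc A B (Bi i) (Bi i) Q X
    let aY := AlgebraTensorModule.assoc A B (Bi i) (Bi i) Q Y
    have hc : ∀ z, aY ((AlgebraTensorModule.lTensor (Bi i) (Bi i ⊗[B] Q) u) z) =
        (v.baseChange (Bi i)) (aX z) := by
      intro z
      induction z using TensorProduct.induction_on with
      | zero => simp
      | add a b ha hb => simp only [map_add, ha, hb]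
      | tmul w x =>
        induction w using TensorProduct.induction_on with
        | zero => simp
        | add a b ha hb => simp only [add_tmul, map_add, ha, hb]
        | tmul s q => simp [aX, aY, v]
    apply aX.symm.injective
    rw [map_zero]
    refine Module.Flat.lTensor_preserves_injective_linearMap (M := Bi i ⊗[B] Q) u hu ?_
    rw [map_zero]
    refine aY.injective ((hc _).trans ?_)
    rw [LinearEquiv.apply_symm_apply, LinearMap.baseChange_tmul, hz, tmul_zero, map_zero]
  · obtain ⟨n, π, hπ⟩ := Module.Finite.exists_fin' B Q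
    let K := LinearMap.ker π
    have hK : ∀ i, ∃ s : Finset K, ∀ k : K, (1 : Bi i) ⊗ₜ[B] k ∈
        Submodule.span (Bi i) ((fun x : K => (1 : Bi i) ⊗ₜ[B] x) '' (s : Set K)) := by
      intro i
      haveI := hfp i
      let πi := π.baseChange (Bi i)
      have hfg : (LinearMap.ker πi).FG :=
        Module.FinitePresentation.fg_ker πi (LinearMap.lTensor_surjective (Bi i) hπ)
      let j : Bi i ⊗[B] K →ₗ[Bi i] Bi i ⊗[B] (Fin n → B) := K.subtype.baseChange (Bi i)
      have hj : Function.Injective j :=
        Module.Flat.lTensor_preserves_injective_linearMap K.subtype K.injective_subtype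
      have hjr : LinearMap.range j = LinearMap.ker πi := by
        ext z
        exact (lTensor_exact (Bi i) (LinearMap.exact_subtype_ker_map π) hπ z).symm
      haveI : Module.Finite (Bi i) (Bi i ⊗[B] K) :=
        haveI : Module.Finite (Bi i) (LinearMap.range j) := Module.Finite.iff_fg.mpr (hjr ▸ hfg)
        Module.Finite.equiv (LinearEquiv.ofInjective j hj).symm
      obtain ⟨s, hs⟩ := Module.Finite.exists_fin (R := Bi i) (M := Bi i ⊗[B] K)
      obtain ⟨g, hg⟩ := hs
      have hgen : ∀ z : Bi i ⊗[B] K, ∃ f : Finset K,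
          z ∈ Submodule.span (Bi i) ((fun x : K => (1 : Bi i) ⊗ₜ[B] x) '' (f : Set K)) := by
        intro z
        induction z using TensorProduct.induction_on with
        | zero => exact ⟨∅, zero_mem _⟩
        | tmul b x =>
          refine ⟨{x}, ?_⟩
          rw [show b ⊗ₜ[B] x = b • ((1 : Bi i) ⊗ₜ[B] x) by rw [TensorProduct.smul_tmul', smul_eq_mul, mul_one]]
          exact Submodule.smul_mem _ _ (Submodule.subset_span ⟨x, by simp, rfl⟩)
        | add a b ha hb =>
          obtain ⟨f₁, h₁⟩ := ha
          obtain ⟨f₂, h₂⟩ := hb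
          exact ⟨f₁ ∪ f₂, add_mem (Submodule.span_mono (Set.image_mono (by simp)) h₁)
            (Submodule.span_mono (Set.image_mono (by simp)) h₂)⟩
      choose f hf using fun a => hgen (g a)
      refine ⟨Finset.univ.biUnion f, fun k => ?_⟩
      have htop : (⊤ : Submodule (Bi i) (Bi i ⊗[B] K)) ≤
          Submodule.span (Bi i) ((fun x : K => (1 : Bi i) ⊗ₜ[B] x) '' ((Finset.univ.biUnion f : Finset K) : Set K)) := by
        rw [← hg, Submodule.span_le]
        rintro _ ⟨a, rfl⟩
        exact Submodule.span_mono (Set.image_mono (by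
          intro x hx
          simp only [Finset.coe_biUnion, Finset.coe_univ, Set.mem_iUnion]
          exact ⟨a, trivial, hx⟩)) (hf a)
      exact htop trivial
    choose s hs using hK
    haveI : Module.Finite B K := by
      refine ⟨⟨Finset.univ.biUnion s, eq_top_iff.mpr fun k _ => ?_⟩⟩
      let L : Submodule B K := Submodule.span B ((Finset.univ.biUnion s : Finset K) : Set K)
      show k ∈ L
      rw [← Submodule.Quotient.mk_eq_zero L]
      refine eq_zero_of_cover Bi hcov _ fun i => ?_
      have h0 : ∀ z ∈ Submodule.span (Bi i) ((fun x : K => (1 : Bi i) ⊗ₜ[B] x) '' (s i : Set K)),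
          L.mkQ.baseChange (Bi i) z = 0 := by
        intro z hz
        induction hz using Submodule.span_induction with
        | mem x hx =>
          obtain ⟨x, hx, rfl⟩ := hx
          rw [LinearMap.baseChange_tmul, Submodule.mkQ_apply,
            (Submodule.Quotient.mk_eq_zero L).mpr (Submodule.subset_span (by
              simp only [Finset.coe_biUnion, Finset.coe_univ, Set.mem_iUnion]
              exact ⟨i, trivial, hx⟩)), tmul_zero]
        | zero => exact map_zero _
        | add x y _ _ hx hy => rw [map_add, hx, hy, add_zero]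
        | smul b x _ hx => rw [map_smul, hx, smul_zero]
      exact h0 _ (hs i k)
    exact Module.finitePresentation_of_surjective π hπ (Module.Finite.iff_fg.mp ‹_›)

end Descent

end Groth.Agent.H7Flat.Flatten
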