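import Groth.Agent.H7Flat.Flatten.Main
import Groth.Agent.H8Props.FlatLocus.Sections
import Groth.Agent.H8Props.FinLocFree.Sheaf
import Groth.Agent.H16Derived.KFlat.PerfAmp
import Groth.Agent.H11Strict.Admissible
import Groth.Prelude.Def_BlowUp2
import Mathlib

/-!
# Flattening centres on affine charts
-/

set_option autoImplicit false
set_option linter.style.haveILetI false
set_option backward.isDefEq.respectTransparency false
set_option maxHeartbeats 1000000

universe u

open AlgebraicGeometry CategoryTheory Limits TopologicalSpace Opposite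

namespace Groth.Agent.H7Flat.Flatten

/-- Sections over affine opens of an open on which a module is finitely presented. -/
theorem fp_sections_of_isFP_pullback {X : Scheme.{u}} (F : X.Modules) (O : X.Opens)
    (h : CohB1.IsFP ((Scheme.Modules.pullback O.ι).obj F)) {W : X.Opens} (hW : IsAffineOpen W) (hWO : W ≤ O) :
    Module.FinitePresentation Γ(X, W) Γ(F, W) := by
  have h' : CohB1.IsFP (F.restrict O.ι) :=
    H16Derived.KFlat.Stalk.isFP_of_iso ((Scheme.Modules.restrictFunctorIsoPullback O.ι).symm.app F) h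
  have hpre : O.ι ''ᵁ (O.ι ⁻¹ᵁ W) = W := by
    rw [Scheme.Hom.image_preimage_eq_opensRange_inf, Scheme.Opens.opensRange_ι]
    exact inf_eq_right.2 hWO
  have haff : IsAffineOpen (O.ι ⁻¹ᵁ W) := by
    rw [← Scheme.Hom.isAffineOpen_iff_of_isOpenImmersion O.ι, hpre]
    exact hW
  haveI := H8Props.FinLocFree.finitePresentation_sections (F.restrict O.ι) h' haff
  rw [← hpre]
  exact H29Fitt.finitePresentation_of_semilinear (O.ι.appIso _).inv.hom
    (ConcreteCategory.bijective_of_isIso (O.ι.appIso _).inv)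
    (F.restrictAppIso O.ι _).hom.hom (fun a m => rfl)
    (ConcreteCategory.bijective_of_isIso (F.restrictAppIso O.ι _).hom)

/-- A quasi-compact open of an affine open is cut out by finitely many functions. -/
theorem exists_finset_eq_inter {S : Scheme.{u}} [QuasiSeparatedSpace S] (U : S.Opens)
    (hU : IsCompact (U : Set S)) {V : S.Opens} (hV : IsAffineOpen V) :
    ∃ s : Finset Γ(S, V), (∀ j ∈ s, S.basicOpen j ≤ U) ∧ ∀ x ∈ V, x ∈ U → ∃ j ∈ s, x ∈ S.basicOpen j := by
  classical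
  have hc : IsCompact ((U : Set S) ∩ V) :=
    QuasiSeparatedSpace.inter_isCompact _ _ U.2 hU V.2 hV.isCompact
  have hx : ∀ x : ↥((U : Set S) ∩ V), ∃ j : Γ(S, V), S.basicOpen j ≤ U ∧ x.1 ∈ S.basicOpen j := fun x =>
    hV.exists_basicOpen_le (V := U) ⟨x.1, x.2.1⟩ x.2.2
  choose j hjU hxj using hx
  obtain ⟨t, ht⟩ := hc.elim_finite_subcover (fun x => (S.basicOpen (j x) : Set S)) (fun x => (S.basicOpen (j x)).2)
    fun x hx => Set.mem_iUnion.mpr ⟨⟨x, hx⟩, hxj ⟨x, hx⟩⟩
  refine ⟨t.image j, fun a ha => ?_, fun x hxV hxU => ?_⟩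
  · obtain ⟨y, -, rfl⟩ := Finset.mem_image.mp ha
    exact hjU y
  · obtain ⟨y, hy, hxy⟩ := Set.mem_iUnion₂.mp (ht ⟨hxU, hxV⟩)
    exact ⟨j y, Finset.mem_image_of_mem _ hy, hxy⟩

/-- An ideal on an affine open containing powers of the functions cutting out `U` extends to an
admissible ideal sheaf. -/
theorem exists_admissible_of_ideal {S : Scheme.{u}} [CompactSpace S] [QuasiSeparatedSpace S] (U : S.Opens)
    (hU : IsCompact (U : Set S)) {V : S.Opens} (hV : IsAffineOpen V) (s : Set Γ(S, V))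
    (hs : ∀ x ∈ V, x ∈ U → ∃ j ∈ s, x ∈ S.basicOpen j) (I : Ideal Γ(S, V)) (hI : Adm (Ideal.span s) I) :
    ∃ J : S.IdealSheafData, BlowUp.IsAdmissibleFor U J ∧ J.ideal ⟨V, hV⟩ = I := by
  classical
  haveI : IsAffine (V : Scheme.{u}) := hV
  let e := V.topIso
  let J₀ : (V : Scheme.{u}).IdealSheafData := Scheme.IdealSheafData.ofIdealTop (I.map e.inv.hom)
  have hJ₀ft : BlowUp.IsFiniteTypeIdeal J₀ := fun A => by
    show ((I.map e.inv.hom).map _).FG
    exact (hI.1.map _).map _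
  have hJ₀d : Disjoint (J₀.support : Set (V : Scheme.{u})) (V.ι ⁻¹ᵁ U : Set (V : Scheme.{u})) := by
    refine Set.disjoint_left.mpr fun y hy hyU => ?_
    obtain ⟨j, hj, hyj⟩ := hs (V.ι y) y.2 hyU
    obtain ⟨k, hk⟩ := hI.2 (Ideal.subset_span hj)
    rw [Scheme.IdealSheafData.coe_support_ofIdealTop] at hy
    have h0 := (Scheme.mem_zeroLocus_iff _ _ _).mp hy _ (Ideal.mem_map_of_mem e.inv.hom hk)
    rw [map_pow] at h0
    refine h0 ?_
    have hy' : y ∈ (V : Scheme.{u}).basicOpen (e.inv j) := by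
      rw [← Scheme.Opens.ι_image_basicOpen_topIso_inv] at hyj
      obtain ⟨y', hy', he⟩ := hyj
      rwa [V.ι.isOpenEmbedding.injective he] at hy'
    rcases Nat.eq_zero_or_pos k with rfl | hk0
    · rw [pow_zero, Scheme.basicOpen_of_isUnit _ isUnit_one]
      trivial
    · rw [(V : Scheme.{u}).basicOpen_pow _ hk0]
      exact hy'
  obtain ⟨J, hJ, hJV⟩ := H11Strict.exists_admissible_extension U V hU hV.isCompact J₀ ⟨hJ₀ft, hJ₀d⟩
  refine ⟨J, hJ, ?_⟩
  have h1 := H29Blow.ideal_comap_ι J ⟨V, hV⟩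
  rw [hJV] at h1
  have h2 : J₀.ideal ⟨⊤, isAffineOpen_top _⟩ = I.map e.inv.hom := by
    show ((I.map e.inv.hom).map _) = _
    rw [Subsingleton.elim (homOfLE _).op (𝟙 _), CategoryTheory.Functor.map_id]
    exact Ideal.map_id _
  have hb : Function.Bijective e.inv.hom := ConcreteCategory.bijective_of_isIso e.inv
  rw [h2] at h1
  have h3 := congrArg (Ideal.comap e.inv.hom) h1
  rwa [Ideal.comap_map_of_bijective _ hb, Ideal.comap_map_of_bijective _ hb, eq_comm] at h3

/-- Over the basic open of `j` inside `U` the sections are good. -/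
theorem goodAway_sections {X S : Scheme.{u}} (f : X ⟶ S) (U : S.Opens) (F : X.Modules) (hqc : Coh.IsQCoh F)
    (hfpU : CohB1.IsFP ((Scheme.Modules.pullback (f ⁻¹ᵁ U).ι).obj F))
    (hflU : ∀ x : X, f.base x ∈ U → FlatMod.IsFlatOverAt f F x)
    {V : S.Opens} (hV : IsAffineOpen V) {W : X.Opens} (hW : IsAffineOpen W) (hWV : W ≤ f ⁻¹ᵁ V)
    (j : Γ(S, V)) (hj : S.basicOpen j ≤ U) :
    letI := (f.appLE V W hWV).hom.toAlgebra
    letI := Module.compHom Γ(F, W) (f.appLE V W hWV).hom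
    haveI : IsScalarTower Γ(S, V) Γ(X, W) Γ(F, W) := .of_algebraMap_smul fun _ _ => rfl
    GoodAway Γ(S, V) Γ(X, W) Γ(F, W) j := by
  letI := (f.appLE V W hWV).hom.toAlgebra
  letI := Module.compHom Γ(F, W) (f.appLE V W hWV).hom
  haveI : IsScalarTower Γ(S, V) Γ(X, W) Γ(F, W) := .of_algebraMap_smul fun _ _ => rfl
  let j' : Γ(X, W) := algebraMap Γ(S, V) Γ(X, W) j
  have hpre : X.basicOpen j' = W ⊓ f ⁻¹ᵁ S.basicOpen j := Scheme.basicOpen_appLE f W V hWV j
  have hle : X.basicOpen j' ≤ f ⁻¹ᵁ U := hpre.le.trans (inf_le_right.trans (f.preimage_mono hj))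
  refine ⟨?_, ?_⟩
  · haveI := fp_sections_of_isFP_pullback F _ hfpU (hW.basicOpen j') hle
    letI := Module.compHom Γ(F, X.basicOpen j') (algebraMap Γ(X, W) Γ(X, X.basicOpen j'))
    haveI : IsScalarTower Γ(X, W) Γ(X, X.basicOpen j') Γ(F, X.basicOpen j') := .of_algebraMap_smul fun _ _ => rfl
    haveI := hW.isLocalization_basicOpen j'
    haveI := H29Fitt.isLocalizedModule_resLin F hqc hW j'
    let T := Submonoid.powers j'
    let e := IsLocalization.algEquiv T Γ(X, X.basicOpen j') (Localization.Away j')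
    refine H29Fitt.finitePresentation_of_semilinear (A := Γ(X, X.basicOpen j')) (M := Γ(F, X.basicOpen j'))
      e.toAlgHom.toRingHom e.bijective
      (IsLocalizedModule.iso T (H29Fitt.resLin F j')).symm.toLinearMap.toAddMonoidHom (fun a m => ?_)
      (IsLocalizedModule.iso T (H29Fitt.resLin F j')).symm.bijective
    obtain ⟨⟨a₀, t⟩, rfl⟩ := IsLocalization.mk'_surjective T a
    let φ := (IsLocalizedModule.iso T (H29Fitt.resLin F j')).symm
    have hu : IsUnit (algebraMap Γ(X, W) (Localization.Away j') (t : Γ(X, W))) := IsLocalization.map_units _ t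
    show φ (IsLocalization.mk' Γ(X, X.basicOpen j') a₀ t • m) = e (IsLocalization.mk' _ a₀ t) • φ m
    refine hu.smul_left_cancel.mp ?_
    rw [algebraMap_smul, ← map_smul, ← algebraMap_smul Γ(X, X.basicOpen j') (t : Γ(X, W)), smul_smul,
      mul_comm, IsLocalization.mk'_spec, algebraMap_smul, map_smul]
    rw [smul_smul,
      ← e.commutes (t : Γ(X, W)), ← map_mul, mul_comm, IsLocalization.mk'_spec, e.commutes, algebraMap_smul]
  · rw [DevissageLoc.flat_away_iff]
    intro q _ hq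
    obtain ⟨x, hx⟩ := H29Blow.exists_primeIdealOf_eq hW (⟨q, inferInstance⟩ : PrimeSpectrum Γ(X, W))
    have hxq : (hW.primeIdealOf x).asIdeal = q := congrArg PrimeSpectrum.asIdeal hx
    have hxj : x.1 ∈ X.basicOpen j' := by
      rw [← hW.fromSpec_primeIdealOf x]
      show hW.primeIdealOf x ∈ hW.fromSpec ⁻¹ᵁ X.basicOpen j'
      rw [hW.fromSpec_preimage_basicOpen]
      show j' ∉ (hW.primeIdealOf x).asIdeal
      rw [hxq]
      exact hq
    subst hxq
    exact (H8Props.FlatLocus.isFlatOverAt_iff_localizedModule f F hqc hV hW hWV x).1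
      (hflU x.1 (hle hxj))

/-- The flattening centre of an affine chart. -/
theorem exists_chart_centre {X S : Scheme.{u}} [CompactSpace S] [QuasiSeparatedSpace S] (f : X ⟶ S)
    [LocallyOfFinitePresentation f] (U : S.Opens) (hU : IsCompact (U : Set S))
    (F : X.Modules) (hqc : Coh.IsQCoh F) (hft : CohB1.IsFT F)
    (hfpU : CohB1.IsFP ((Scheme.Modules.pullback (f ⁻¹ᵁ U).ι).obj F))
    (hflU : ∀ x : X, f.base x ∈ U → FlatMod.IsFlatOverAt f F x)
    {V : S.Opens} (hV : IsAffineOpen V) {W : X.Opens} (hW : IsAffineOpen W) (hWV : W ≤ f ⁻¹ᵁ V) :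
    ∃ J : S.IdealSheafData, BlowUp.IsAdmissibleFor U J ∧
      letI := (f.appLE V W hWV).hom.toAlgebra
      Flattening Γ(S, V) Γ(X, W) Γ(F, W) (J.ideal ⟨V, hV⟩) := by
  letI := (f.appLE V W hWV).hom.toAlgebra
  letI := Module.compHom Γ(F, W) (f.appLE V W hWV).hom
  haveI : IsScalarTower Γ(S, V) Γ(X, W) Γ(F, W) := .of_algebraMap_smul fun _ _ => rfl
  haveI : Algebra.FinitePresentation Γ(S, V) Γ(X, W) := f.finitePresentation_appLE hV hW hWV
  haveI : F.IsQuasicoherent := hqc
  haveI := H10Coh.finite_sections F hft hW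
  obtain ⟨s, hsU, hs⟩ := exists_finset_eq_inter U hU hV
  obtain ⟨I, hI, hfl⟩ := exists_flattening (N := Γ(F, W)) s fun j hj =>
    goodAway_sections f U F hqc hfpU hflU hV hW hWV j (hsU j hj)
  obtain ⟨J, hJ, hJV⟩ := exists_admissible_of_ideal U hU hV (s : Set Γ(S, V)) hs I hI
  exact ⟨J, hJ, hJV ▸ hfl⟩

end Groth.Agent.H7Flat.Flatten
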