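import Groth.Agent.H7Flat.Flatten.Ext
import Groth.Agent.H7Flat.FibreSuppDim
import Groth.Agent.H7Flat.AffineBlowupRank
import Mathlib

/-!
# The cokernel of a map which is bijective near the generic points of the fibres
-/

set_option autoImplicit false
set_option linter.style.haveILetI false
set_option backward.isDefEq.respectTransparency false
set_option maxHeartbeats 1000000

universe u

open TensorProduct

namespace Groth.Agent.H7Flat.Flatten

theorem GoodAway.coker {R D G : Type u} [CommRing R] [CommRing D] [Algebra R D] [Module.Flat R D]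
    [AddCommGroup G] [Module D G] [Module R G] [IsScalarTower R D G] {j : R} (h : GoodAway R D G j)
    {r : ℕ} (α : (Fin r → D) →ₗ[D] G) (hα : FiberBasis.Kills R (⊥ : Submonoid D) α) :
    GoodAway R D (G ⧸ LinearMap.range α) j := by
  let T := Submonoid.powers (algebraMap R D j)
  refine ⟨?_, (DevissageLoc.flat_away_iff _ _).mpr fun q _ hq => ?_⟩
  · haveI := h.1
    let a := LocalizedModule.map T α
    let b := LocalizedModule.map T (LinearMap.range α).mkQ
    have hab : Function.Exact a b := LocalizedModule.map_exact T α _ (LinearMap.exact_map_mkQ_range α)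
    haveI : Module.Finite (Localization T) (LocalizedModule T (Fin r → D)) :=
      Module.Finite.of_isLocalizedModule T (LocalizedModule.mkLinearMap T (Fin r → D))
    refine Module.finitePresentation_of_surjective b
      (LocalizedModule.map_surjective T _ (LinearMap.range α).mkQ_surjective) ?_
    rw [hab.linearMap_ker_eq]
    exact Module.Finite.iff_fg.mp (Module.Finite.range a)
  · haveI : Module.Flat R (Fin r → D) := Module.Flat.trans R D (Fin r → D)
    refine FiberBasis.flatAt_coker q α (h.flatAt q hq) fun Q _ _ w hw => ?_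
    obtain ⟨s, hs, hsw⟩ := hα Q w hw
    exact ⟨s, Submonoid.mem_bot.mp hs ▸ one_mem _, hsw⟩

/-- The support of the cokernel meets each fibre in smaller dimension. -/
theorem supportDim_coker_lt {R D G : Type u} [CommRing R] [CommRing D] [Algebra R D] [Module.Flat R D]
    (hgi : FlatCA.GeomIntegralFibres R D) (m : ℕ) (hsm : FlatCA.SmoothRelDim m R D)
    [AddCommGroup G] [Module D G] [Module.Finite D G] [Module R G] [IsScalarTower R D G] {r : ℕ}
    (α : (Fin r → D) →ₗ[D] G) (g : D) (hg : ∀ (p : Ideal R) [p.IsPrime], g ∉ p.map (algebraMap R D))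
    (hα : Function.Surjective (LocalizedModule.map (Submonoid.powers g) α)) (p : Ideal R) [p.IsPrime] :
    Module.supportDim (p.Fiber D) (FlatCA.fiberMod p D (G ⧸ LinearMap.range α)) < (m : WithBot ℕ∞) := by
  haveI : IsDomain (p.Fiber D) := Groth.Agent.S1223.isDomain_fiber hgi R D p
  obtain ⟨hP, hPc⟩ := AffineBlowupRank.isPrime_map (S := D) p
  haveI := hP
  haveI : (p.map (algebraMap R D)).LiesOver p := ⟨hPc.symm⟩
  refine FibreSuppDim.supportDim_fiber_lt m hsm p _ rfl (Module.notMem_support_iff'.mpr fun x => ?_)
  obtain ⟨x, rfl⟩ := Submodule.Quotient.mk_surjective _ x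
  obtain ⟨z, hz⟩ := hα (LocalizedModule.mk x 1)
  induction z using LocalizedModule.induction_on with
  | _ y s =>
    rw [LocalizedModule.map_mk, LocalizedModule.mk_eq] at hz
    obtain ⟨c, hc⟩ := hz
    refine ⟨(c : D) * s, fun hm => ?_, ?_⟩
    · obtain ⟨i, hi⟩ := c.2
      obtain ⟨l, hl⟩ := s.2
      have e1 : g ^ i = (c : D) := hi
      have e2 : g ^ l = (s : D) := hl
      rw [← e1, ← e2, ← pow_add] at hm
      exact hg p (hP.mem_of_pow_mem _ hm)
    · rw [← Submodule.Quotient.mk_smul, Submodule.Quotient.mk_eq_zero]
      simp only [one_smul, Submonoid.smul_def, smul_smul] at hc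
      exact ⟨(c : D) • y, by rw [map_smul, ← hc]⟩

end Groth.Agent.H7Flat.Flatten
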