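import Mathlib

/-!
# Gluing two separated schemes along an open
-/

set_option autoImplicit false
set_option linter.style.haveILetI false
set_option backward.isDefEq.respectTransparency false

universe u

open AlgebraicGeometry CategoryTheory Limits TopologicalSpace Topology

namespace Groth.Agent.H7Flat.Flatten

/-- Two separated schemes of finite type glue along an open closed in their product. -/
theorem exists_glue_pair {T A B S : Scheme.{u}} (a : T ⟶ A) (b : T ⟶ B) [IsOpenImmersion a] [IsOpenImmersion b]
    (gA : A ⟶ S) (gB : B ⟶ S) (hab : a ≫ gA = b ≫ gB)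
    [IsSeparated gA] [LocallyOfFiniteType gA] [QuasiCompact gA]
    [IsSeparated gB] [LocallyOfFiniteType gB] [QuasiCompact gB]
    (hcl : IsClosed (Set.range (pullback.lift a b hab))) :
    ∃ (X : Scheme.{u}) (q : X ⟶ S) (oA : A ⟶ X) (oB : B ⟶ X), IsSeparated q ∧ LocallyOfFiniteType q ∧
      QuasiCompact q ∧ IsOpenImmersion oA ∧ IsOpenImmersion oB ∧ oA ≫ q = gA ∧ oB ≫ q = gB ∧
      a ≫ oA = b ≫ oB ∧ Set.range oA ∪ Set.range oB = Set.univ ∧
      ∀ x y, oA x = oB y → ∃ t, a t = x ∧ b t = y := by
  let X := pushout a b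
  let oA : A ⟶ X := pushout.inl a b
  let oB : B ⟶ X := pushout.inr a b
  let q : X ⟶ S := pushout.desc gA gB hab
  have hA : oA ≫ q = gA := pushout.inl_desc _ _ _
  have hB : oB ≫ q = gB := pushout.inr_desc _ _ _
  haveI : IsOpenImmersion oA := inferInstanceAs (IsOpenImmersion (colimit.ι (span a b) WalkingSpan.left))
  haveI : IsOpenImmersion oB := inferInstanceAs (IsOpenImmersion (colimit.ι (span a b) WalkingSpan.right))
  have hcov : Set.range oA ∪ Set.range oB = Set.univ := by
    refine Set.eq_univ_of_forall fun x => ?_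
    obtain ⟨i, xi, hxi⟩ := Scheme.IsLocallyDirected.ι_jointly_surjective (span a b) x
    obtain (_ | (_ | _)) := i
    · refine .inl ⟨a xi, ?_⟩
      rw [← Scheme.Hom.comp_apply, ← hxi]
      exact congrArg (fun m : T ⟶ X => m xi) (colimit.w (span a b) WalkingSpan.Hom.fst)
    · exact .inl ⟨xi, hxi⟩
    · exact .inr ⟨xi, hxi⟩
  have hinter : ∀ x y, oA x = oB y → ∃ t, a t = x ∧ b t = y := by
    intro x y hxy
    obtain ⟨k, fi, fj, t, hti, htj⟩ :=
      (Scheme.IsLocallyDirected.ι_eq_ι_iff (span a b) (i := WalkingSpan.left) (j := WalkingSpan.right)).mp hxy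
    obtain (_ | (_ | _)) := k
    · obtain rfl : fi = WalkingSpan.Hom.fst := Subsingleton.elim _ _
      obtain rfl : fj = WalkingSpan.Hom.snd := Subsingleton.elim _ _
      exact ⟨t, hti, htj⟩
    · exact nomatch (show WalkingSpan.left ⟶ WalkingSpan.right from fj)
    · exact nomatch (show WalkingSpan.right ⟶ WalkingSpan.left from fi)
  have hw : a ≫ oA = b ≫ oB := pushout.condition
  haveI : LocallyOfFiniteType q := by
    rw [IsZariskiLocalAtSource.iff_of_openCover (P := @LocallyOfFiniteType) (Scheme.IsLocallyDirected.openCover (span a b))]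
    rintro (_ | (_ | _))
    · show LocallyOfFiniteType (colimit.ι (span a b) WalkingSpan.zero ≫ q)
      rw [← colimit.w (span a b) WalkingSpan.Hom.fst]
      show LocallyOfFiniteType ((a ≫ oA) ≫ q)
      rw [Category.assoc, hA]
      infer_instance
    · show LocallyOfFiniteType (oA ≫ q)
      rw [hA]; infer_instance
    · show LocallyOfFiniteType (oB ≫ q)
      rw [hB]; infer_instance
  haveI : QuasiCompact q := by
    refine (quasiCompact_iff _).mpr fun O hO hOc => ?_
    have h : q ⁻¹' O = oA '' (gA ⁻¹' O) ∪ oB '' (gB ⁻¹' O) := by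
      rw [← hA, ← hB]
      ext x
      refine ⟨fun hx => ?_, ?_⟩
      · rcases (hcov.ge (Set.mem_univ x) : x ∈ Set.range oA ∪ Set.range oB) with ⟨y, rfl⟩ | ⟨y, rfl⟩
        · exact .inl ⟨y, hx, rfl⟩
        · exact .inr ⟨y, hx, rfl⟩
      · rintro (⟨y, hy, rfl⟩ | ⟨y, hy, rfl⟩) <;> exact hy
    rw [h]
    exact ((gA.isCompact_preimage (U := ⟨O, hO⟩) hOc).image oA.continuous).union
      ((gB.isCompact_preimage (U := ⟨O, hO⟩) hOc).image oB.continuous)
  haveI : IsSeparated q := by
    refine ⟨IsClosedImmersion.of_isPreimmersion _ ?_⟩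
    refine isClosed_of_closure_subset fun z hz => ?_
    let Δ := pullback.diagonal q
    -- each product of two charts meets the diagonal in a closed subset
    have key : ∀ {P Q : Scheme.{u}} (oP : P ⟶ X) (oQ : Q ⟶ X) [IsOpenImmersion oP] [IsOpenImmersion oQ]
        (gP : P ⟶ S) (gQ : Q ⟶ S) (hP : oP ≫ q = gP) (hQ : oQ ≫ q = gQ) {R : Scheme.{u}} (r : R ⟶ pullback gP gQ),
        IsClosed (Set.range r) →
        (r ≫ pullback.fst gP gQ) ≫ oP = (r ≫ pullback.snd gP gQ) ≫ oQ →
        (∀ x y, oP x = oQ y → ∃ t, (r ≫ pullback.fst gP gQ) t = x ∧ (r ≫ pullback.snd gP gQ) t = y) →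
        pullback.fst q q z ∈ Set.range oP → pullback.snd q q z ∈ Set.range oQ → z ∈ Set.range Δ := by
      intro P Q oP oQ _ _ gP gQ hP hQ R r hr hrw hPQ hzP hzQ
      let m : pullback gP gQ ⟶ pullback q q := pullback.map gP gQ q q oP oQ (𝟙 S)
        (by rw [Category.comp_id, hP]) (by rw [Category.comp_id, hQ])
      haveI : IsOpenImmersion m := inferInstance
      have hrange : z ∈ Set.range m := by
        rw [Scheme.Pullback.range_map]
        exact ⟨hzP, hzQ⟩
      have hpre : m ⁻¹' Set.range Δ = Set.range r := by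
        ext w
        constructor
        · rintro ⟨x, hx⟩
          have h1 : oP (pullback.fst gP gQ w) = oQ (pullback.snd gP gQ w) := by
            have e1 := congrArg (pullback.fst q q) hx
            have e2 := congrArg (pullback.snd q q) hx
            simp only [← Scheme.Hom.comp_apply, Δ, m, pullback.diagonal_fst, pullback.diagonal_snd,
              pullback.lift_fst, pullback.lift_snd] at e1 e2
            exact e1.symm.trans e2
          obtain ⟨t, ht, -⟩ := hPQ _ _ h1
          refine ⟨t, m.isOpenEmbedding.injective ?_⟩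
          rw [← hx]
          have hmt : r ≫ m = (r ≫ pullback.fst gP gQ ≫ oP) ≫ Δ :=
            pullback.hom_ext (by simp [m, Δ]) (by simpa [m, Δ] using hrw.symm)
          rw [← Scheme.Hom.comp_apply, hmt, Scheme.Hom.comp_apply]
          congr 1
          have e1 := congrArg (pullback.fst q q) hx
          simp only [← Scheme.Hom.comp_apply, Δ, m, pullback.diagonal_fst, pullback.lift_fst] at e1
          rw [← Category.assoc, Scheme.Hom.comp_apply, ht]
          simpa using e1.symm
        · rintro ⟨t, rfl⟩
          refine ⟨(r ≫ pullback.fst gP gQ ≫ oP) t, ?_⟩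
          have hmt : r ≫ m = (r ≫ pullback.fst gP gQ ≫ oP) ≫ Δ :=
            pullback.hom_ext (by simp [m, Δ]) (by simpa [m, Δ] using hrw.symm)
          rw [← Scheme.Hom.comp_apply, ← hmt, Scheme.Hom.comp_apply]
      obtain ⟨w, rfl⟩ := hrange
      have hw' : w ∈ closure (m ⁻¹' Set.range Δ) := by
        rw [← m.isOpenEmbedding.isOpenMap.preimage_closure_eq_closure_preimage m.continuous]
        exact hz
      rw [hpre, hr.closure_eq, ← hpre] at hw'
      exact hw'
    rcases (hcov.ge (Set.mem_univ (pullback.fst q q z)) : pullback.fst q q z ∈ Set.range oA ∪ Set.range oB) with h1 | h1 <;>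
      rcases (hcov.ge (Set.mem_univ (pullback.snd q q z)) : pullback.snd q q z ∈ Set.range oA ∪ Set.range oB) with h2 | h2
    · refine key oA oA gA gA hA hA (pullback.diagonal gA) (pullback.diagonal gA).isClosedEmbedding.isClosed_range ?_ ?_ h1 h2
      · simp
      · intro x y h; exact ⟨x, by simp, by simpa using oA.isOpenEmbedding.injective h⟩
    · refine key oA oB gA gB hA hB (pullback.lift a b hab) hcl ?_ ?_ h1 h2
      · simpa using hw
      · intro x y h; simpa using hinter x y h
    · have hcl' : IsClosed (Set.range (pullback.lift b a hab.symm)) := by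
        have e : pullback.lift b a hab.symm = pullback.lift a b hab ≫ (pullbackSymmetry gA gB).hom :=
          pullback.hom_ext (by simp) (by simp)
        rw [e, Scheme.Hom.comp_base, TopCat.coe_comp, Set.range_comp]
        exact (pullbackSymmetry gA gB).hom.homeomorph.isClosedMap _ hcl
      refine key oB oA gB gA hB hA (pullback.lift b a hab.symm) hcl' ?_ ?_ h1 h2
      · simpa using hw.symm
      · intro x y h
        obtain ⟨t, ht1, ht2⟩ := hinter y x h.symm
        exact ⟨t, by simpa using ht2, by simpa using ht1⟩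
    · refine key oB oB gB gB hB hB (pullback.diagonal gB) (pullback.diagonal gB).isClosedEmbedding.isClosed_range ?_ ?_ h1 h2
      · simp
      · intro x y h; exact ⟨x, by simp, by simpa using oB.isOpenEmbedding.injective h⟩
  exact ⟨X, q, oA, oB, inferInstance, inferInstance, inferInstance, inferInstance, inferInstance, hA, hB, hw, hcov, hinter⟩

end Groth.Agent.H7Flat.Flatten
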