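import Groth.Agent.H7Flat.Flatten.Birat
import Groth.Agent.H7Flat.Flatten.Glue2
import Groth.Agent.H11Strict.BlowComp
import Mathlib

/-!
# Common targets of blow-ups
-/

set_option autoImplicit false
set_option linter.style.haveILetI false
set_option backward.isDefEq.respectTransparency false
set_option maxHeartbeats 1000000

universe u

open AlgebraicGeometry CategoryTheory Limits TopologicalSpace Opposite HTop

namespace Groth.Agent.H7Flat.Flatten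

/-- The strict transform along a blow-up is the blow-up in the inverse image ideal. -/
theorem isBlowUp_strict {X S X' S' : Scheme.{u}} {φ : X ⟶ S} {b : S' ⟶ S} {p₁ : X' ⟶ X} {p₂ : X' ⟶ S'}
    (hc : IsPullback p₁ p₂ φ b) {I : S.IdealSheafData} (hb : BlowUp.IsBlowUp b I) :
    BlowUp.IsBlowUp ((supportedOn ((I.comap φ).comap p₁)).subschemeι ≫ p₁) (I.comap φ) := by
  refine ⟨?_, fun Y h hh => ?_⟩
  · rw [Scheme.IdealSheafData.comap_comp]
    exact H18HTop.isEffCartierIdeal_comap_supportedOn (isEffCartier_strict hc hb)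
  · have hh' : BlowUp.IsEffCartierIdeal (I.comap (h ≫ φ)) := by rwa [Scheme.IdealSheafData.comap_comp]
    obtain ⟨m, hm, hmu⟩ := hb.2 Y (h ≫ φ) hh'
    let l := hc.lift h m hm.symm
    have hl₁ : l ≫ p₁ = h := hc.lift_fst _ _ _
    have hl₂ : l ≫ p₂ = m := hc.lift_snd _ _ _
    have hle : (supportedOn ((I.comap φ).comap p₁)).subschemeι.ker ≤ l.ker := by
      rw [Scheme.IdealSheafData.ker_subschemeι]
      refine H18HTop.supportedOn_le_ker l _ ?_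
      rwa [← Scheme.IdealSheafData.comap_comp, hl₁]
    refine ⟨IsClosedImmersion.lift _ l hle, ?_, fun n hn => ?_⟩
    · show _ ≫ _ ≫ _ = _
      rw [IsClosedImmersion.lift_fac_assoc, hl₁]
    · rw [← cancel_mono (supportedOn ((I.comap φ).comap p₁)).subschemeι, IsClosedImmersion.lift_fac]
      refine hc.hom_ext ?_ ?_
      · rw [hl₁, Category.assoc]; exact hn
      · rw [hl₂]
        refine hmu _ ?_
        show _ = _
        rw [Category.assoc, ← hc.w, Category.assoc, ← hn]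
        simp

/-- A blow-up of an open in an admissible centre extends to an admissible blow-up of the whole. -/
theorem exists_blowup_extension {X W T : Scheme.{u}} [CompactSpace X] [QuasiSeparatedSpace X] (g : W ⟶ X)
    [IsOpenImmersion g] [CompactSpace W] (U : X.Opens) (hU : IsCompact (U : Set X))
    (L : W.IdealSheafData) (hL : BlowUp.IsAdmissibleFor (g ⁻¹ᵁ U) L) (t : T ⟶ W) (ht : BlowUp.IsBlowUp t L) :
    ∃ (J : X.IdealSheafData) (X' : Scheme.{u}) (c : X' ⟶ X) (o : T ⟶ X'), BlowUp.IsBlowUp c J ∧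
      BlowUp.IsAdmissibleFor U J ∧ IsOpenImmersion o ∧ IsPullback o t c g := by
  let O := g.opensRange
  have hO : IsCompact (O : Set X) := isCompact_range g.continuous
  let e := g.isoOpensRange
  let L' := L.comap e.inv
  have hL' : BlowUp.IsAdmissibleFor (O.ι ⁻¹ᵁ U) L' := by
    refine ⟨H11Strict.isFiniteTypeIdeal_comap _ hL.1, ?_⟩
    rw [Scheme.IdealSheafData.support_comap]
    refine Set.disjoint_left.mpr fun y hy hyU => Set.disjoint_left.mp hL.2 hy ?_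
    show g (e.inv y) ∈ U
    rw [← Scheme.Hom.comp_apply, Scheme.Hom.isoOpensRange_inv_comp]
    exact hyU
  obtain ⟨J, hJ, hJO⟩ := H11Strict.exists_admissible_extension U O hU hO L' hL'
  obtain ⟨X', c, hc⟩ := H26Blow.exists_isBlowUp J
  have hJg : J.comap g = L := by
    rw [← Scheme.Hom.isoOpensRange_hom_ι g, Scheme.IdealSheafData.comap_comp, hJO]
    show (L.comap e.inv).comap e.hom = L
    rw [← Scheme.IdealSheafData.comap_comp, Iso.hom_inv_id, Scheme.IdealSheafData.comap_id]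
  have hW := S1680.result g J c hc
  rw [hJg] at hW
  obtain ⟨θ, hθ, -⟩ := hW.2 T t ht.1
  haveI : IsIso θ := H18HTop.isIso_of_isBlowUp ht hW θ hθ
  refine ⟨J, X', c, θ ≫ pullback.snd g c, hc, hJ, inferInstance, ?_⟩
  exact (IsPullback.of_hasPullback g c).flip.of_iso (asIso θ).symm (Iso.refl _) (Iso.refl _) (Iso.refl _)
    (by simp) (by simp [← hθ]) (by simp) (by simp)

/-- A section over an open of a morphism which is an isomorphism there fills the preimage. -/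
theorem preimage_opensRange_eq {U Z X : Scheme.{u}} (u : U ⟶ Z) (φ : Z ⟶ X) (j : U ⟶ X) [IsOpenImmersion j]
    (h : u ≫ φ = j) [IsIso (φ ∣_ j.opensRange)] :
    ((φ ⁻¹ᵁ j.opensRange : Z.Opens) : Set Z) = Set.range u := by
  have hmem : ∀ w, u w ∈ φ ⁻¹ᵁ j.opensRange := fun w => ⟨w, by rw [← Scheme.Hom.comp_apply, h]⟩
  refine Set.Subset.antisymm (fun z hz => ?_) (by rintro _ ⟨w, rfl⟩; exact hmem w)
  obtain ⟨w, hw⟩ := id hz
  refine ⟨w, ?_⟩
  have hφ : φ (u w) = φ z := by rw [← Scheme.Hom.comp_apply, h]; exact hw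
  have h1 : (⟨u w, hmem w⟩ : (φ ⁻¹ᵁ j.opensRange : Scheme.{u})) = ⟨z, hz⟩ := by
    refine (φ ∣_ j.opensRange).isOpenEmbedding.injective (j.opensRange.ι.isOpenEmbedding.injective ?_)
    rw [← Scheme.Hom.comp_apply, ← Scheme.Hom.comp_apply, morphismRestrict_ι]
    exact hφ
  exact congrArg Subtype.val h1

/-- A morphism to a blow-up avoiding the centre. -/
theorem exists_lift_of_disjoint {X X' Y : Scheme.{u}} {b : X' ⟶ X} {I : X.IdealSheafData}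
    (hb : BlowUp.IsBlowUp b I) (g : Y ⟶ X) (hg : Disjoint (Set.range g) (I.support : Set X)) :
    ∃ h : Y ⟶ X', h ≫ b = g := by
  obtain ⟨h, hh, -⟩ := hb.2 Y g (by rw [H29Blow.comap_eq_top_of_range_disjoint g I (fun z h => Set.disjoint_left.mp hg ⟨z, rfl⟩ h)]; exact H29Blow.isEffCartierIdeal_top)
  exact ⟨h, hh⟩

/-- One side of the construction of a common target. -/
theorem exists_side {S X₁ Z Z₁ T : Scheme.{u}} [CompactSpace S] [QuasiSeparatedSpace S] (g₁ : X₁ ⟶ S)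
    [IsSeparated g₁] [LocallyOfFiniteType g₁] [QuasiCompact g₁]
    (φ : Z ⟶ X₁) (O : X₁.Opens) (hO : IsCompact (O : Set X₁))
    {I : X₁.IdealSheafData} {X₁' : Scheme.{u}} (b : X₁' ⟶ X₁) (hb : BlowUp.IsBlowUp b I)
    (hI : BlowUp.IsAdmissibleFor O I)
    (r : Z₁ ⟶ Z) (g : Z₁ ⟶ X₁') [IsOpenImmersion g] (hrg : r ≫ φ = g ≫ b) [CompactSpace Z₁]
    (L : Z.IdealSheafData) (hL : BlowUp.IsAdmissibleFor (φ ⁻¹ᵁ O) L) (t : T ⟶ Z₁)
    (ht : BlowUp.IsBlowUp t (L.comap r)) (c : T ⟶ Z) (htc : t ≫ r = c) :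
    ∃ (K : X₁.IdealSheafData) (X'' : Scheme.{u}) (β : X'' ⟶ X₁) (o : T ⟶ X''),
      BlowUp.IsBlowUp β K ∧ BlowUp.IsAdmissibleFor O K ∧ IsOpenImmersion o ∧ o ≫ β = c ≫ φ := by
  haveI : CompactSpace X₁ := QuasiCompact.compactSpace_of_compactSpace g₁
  haveI : QuasiSeparatedSpace X₁ := quasiSeparatedSpace_of_quasiSeparated g₁
  haveI := isProper_blowUp hI.1 hb
  haveI : CompactSpace X₁' := QuasiCompact.compactSpace_of_compactSpace b
  haveI : QuasiSeparatedSpace X₁' := quasiSeparatedSpace_of_quasiSeparated b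
  have hbO : IsCompact ((b ⁻¹ᵁ O : X₁'.Opens) : Set X₁') := b.isCompact_preimage hO
  have hadm : BlowUp.IsAdmissibleFor (g ⁻¹ᵁ (b ⁻¹ᵁ O)) (L.comap r) := by
    refine ⟨H11Strict.isFiniteTypeIdeal_comap _ hL.1, ?_⟩
    rw [Scheme.IdealSheafData.support_comap]
    refine Set.disjoint_left.mpr fun z hz hzO => Set.disjoint_left.mp hL.2 hz ?_
    show φ (r z) ∈ O
    rw [← Scheme.Hom.comp_apply, hrg]
    exact hzO
  obtain ⟨J, X'', c', o, hc', hJ, ho, hpb⟩ := exists_blowup_extension g (b ⁻¹ᵁ O) hbO _ hadm t ht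
  obtain ⟨K, hK, hKs, hKb⟩ := H11Strict.exists_isBlowUp_comp I hI.1 b hb J hJ.1 c' hc'
  refine ⟨K, X'', c' ≫ b, o, hKb, ⟨hK, ?_⟩, ho, ?_⟩
  · rw [hKs, Set.disjoint_union_left]
    refine ⟨hI.2, Set.disjoint_left.mpr ?_⟩
    rintro _ ⟨y, hy, rfl⟩ hyO
    exact Set.disjoint_left.mp hJ.2 hy hyO
  · rw [← Category.assoc, hpb.w, Category.assoc, ← hrg, ← Category.assoc, htc]

/-- Two compactifications of an open have admissible blow-ups with a common target. -/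
theorem exists_common_target {U X₁ X₂ S : Scheme.{u}} [CompactSpace S] [QuasiSeparatedSpace S]
    (gU : U ⟶ S) (g₁ : X₁ ⟶ S) (g₂ : X₂ ⟶ S)
    [IsSeparated gU] [LocallyOfFiniteType gU] [QuasiCompact gU]
    [IsSeparated g₁] [LocallyOfFiniteType g₁] [QuasiCompact g₁]
    [IsSeparated g₂] [LocallyOfFiniteType g₂] [QuasiCompact g₂]
    (j₁ : U ⟶ X₁) (j₂ : U ⟶ X₂) [IsOpenImmersion j₁] [IsOpenImmersion j₂] (hj₁ : j₁ ≫ g₁ = gU) (hj₂ : j₂ ≫ g₂ = gU) :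
    ∃ (X : Scheme.{u}) (q : X ⟶ S) (_ : IsSeparated q) (_ : LocallyOfFiniteType q) (_ : QuasiCompact q)
      (𝓘₁ : X₁.IdealSheafData) (𝓘₂ : X₂.IdealSheafData) (X₁' X₂' : Scheme.{u}) (b₁ : X₁' ⟶ X₁) (b₂ : X₂' ⟶ X₂)
      (o₁ : X₁' ⟶ X) (o₂ : X₂' ⟶ X) (u₁ : U ⟶ X₁') (u₂ : U ⟶ X₂'),
      BlowUp.IsBlowUp b₁ 𝓘₁ ∧ BlowUp.IsAdmissibleFor j₁.opensRange 𝓘₁ ∧
      BlowUp.IsBlowUp b₂ 𝓘₂ ∧ BlowUp.IsAdmissibleFor j₂.opensRange 𝓘₂ ∧
      IsOpenImmersion o₁ ∧ IsOpenImmersion o₂ ∧ o₁ ≫ q = b₁ ≫ g₁ ∧ o₂ ≫ q = b₂ ≫ g₂ ∧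
      u₁ ≫ b₁ = j₁ ∧ u₂ ≫ b₂ = j₂ ∧ u₁ ≫ o₁ = u₂ ≫ o₂ := by
  haveI : CompactSpace U := QuasiCompact.compactSpace_of_compactSpace gU
  haveI : CompactSpace X₁ := QuasiCompact.compactSpace_of_compactSpace g₁
  haveI : QuasiSeparatedSpace X₁ := quasiSeparatedSpace_of_quasiSeparated g₁
  haveI : CompactSpace X₂ := QuasiCompact.compactSpace_of_compactSpace g₂
  haveI : QuasiSeparatedSpace X₂ := quasiSeparatedSpace_of_quasiSeparated g₂
  let γ : U ⟶ pullback g₁ g₂ := pullback.lift j₁ j₂ (hj₁.trans hj₂.symm)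
  haveI : QuasiSeparatedSpace ↥(pullback g₁ g₂) :=
    quasiSeparatedSpace_of_quasiSeparated (pullback.fst g₁ g₂ ≫ g₁)
  haveI : QuasiCompact γ := QuasiCompact.of_comp γ (terminal.from _)
  haveI : IsSchemeTheoreticallyDominant γ.toImage := ⟨H17.ker_toImage γ⟩
  let φ₁ := γ.imageι ≫ pullback.fst g₁ g₂
  let φ₂ := γ.imageι ≫ pullback.snd g₁ g₂
  have hu₁ : γ.toImage ≫ φ₁ = j₁ := by rw [← Category.assoc, γ.toImage_imageι]; exact pullback.lift_fst _ _ _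
  have hu₂ : γ.toImage ≫ φ₂ = j₂ := by rw [← Category.assoc, γ.toImage_imageι]; exact pullback.lift_snd _ _ _
  let O₁ := j₁.opensRange
  let O₂ := j₂.opensRange
  haveI := isIso_restrict_of_dominant γ.toImage φ₁ j₁ hu₁ (O := O₁) rfl
  haveI := isIso_restrict_of_dominant γ.toImage φ₂ j₂ hu₂ (O := O₂) rfl
  have hO₁ : IsCompact (O₁ : Set X₁) := isCompact_range j₁.continuous
  have hO₂ : IsCompact (O₂ : Set X₂) := isCompact_range j₂.continuous
  obtain ⟨I₁, Y₁, c₁, hc₁, hI₁, hU₁, hopen₁⟩ := exists_openImmersion_blowup φ₁ O₁ hO₁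
  obtain ⟨I₂, Y₂, c₂, hc₂, hI₂, hU₂, hopen₂⟩ := exists_openImmersion_blowup φ₂ O₂ hO₂
  haveI := isProper_blowUp hI₁.1 hc₁
  haveI := isProper_blowUp hI₂.1 hc₂
  have hp₁ := IsPullback.of_hasPullback φ₁ c₁
  have hp₂ := IsPullback.of_hasPullback φ₂ c₂
  let s₁ := (supportedOn ((I₁.comap φ₁).comap (pullback.fst φ₁ c₁))).subschemeι
  let s₂ := (supportedOn ((I₂.comap φ₂).comap (pullback.fst φ₂ c₂))).subschemeι
  let r₁ := s₁ ≫ pullback.fst φ₁ c₁
  let r₂ := s₂ ≫ pullback.fst φ₂ c₂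
  let e₁ := s₁ ≫ pullback.snd φ₁ c₁
  let e₂ := s₂ ≫ pullback.snd φ₂ c₂
  haveI : IsOpenImmersion e₁ := hopen₁ _ _ _ hp₁
  haveI : IsOpenImmersion e₂ := hopen₂ _ _ _ hp₂
  have hre₁ : r₁ ≫ φ₁ = e₁ ≫ c₁ := by simp only [r₁, e₁, Category.assoc, pullback.condition]
  have hre₂ : r₂ ≫ φ₂ = e₂ ≫ c₂ := by simp only [r₂, e₂, Category.assoc, pullback.condition]
  haveI : IsProper r₁ := inferInstance
  haveI : IsProper r₂ := inferInstance
  haveI : CompactSpace ↥γ.image := QuasiCompact.compactSpace_of_compactSpace φ₁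
  haveI : CompactSpace ↥(supportedOn ((I₁.comap φ₁).comap (pullback.fst φ₁ c₁))).subscheme :=
    QuasiCompact.compactSpace_of_compactSpace r₁
  haveI : CompactSpace ↥(supportedOn ((I₂.comap φ₂).comap (pullback.fst φ₂ c₂))).subscheme :=
    QuasiCompact.compactSpace_of_compactSpace r₂
  let L := I₁.comap φ₁ * I₂.comap φ₂
  have hLft : BlowUp.IsFiniteTypeIdeal L :=
    H11Strict.isFiniteTypeIdeal_mul (H11Strict.isFiniteTypeIdeal_comap _ hI₁.1) (H11Strict.isFiniteTypeIdeal_comap _ hI₂.1)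
  obtain ⟨T, c, hc⟩ := H26Blow.exists_isBlowUp L
  haveI := isProper_blowUp hLft hc
  have hLd : Disjoint (Set.range γ.toImage) (L.support : Set γ.image) := by
    rw [Scheme.IdealSheafData.support_mul, Closeds.coe_sup, Set.disjoint_union_right,
      Scheme.IdealSheafData.support_comap, Scheme.IdealSheafData.support_comap]
    constructor
    · refine Set.disjoint_left.mpr ?_
      rintro _ ⟨w, rfl⟩ hw
      exact Set.disjoint_left.mp hI₁.2 hw ⟨w, by rw [← hu₁]; rfl⟩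
    · refine Set.disjoint_left.mpr ?_
      rintro _ ⟨w, rfl⟩ hw
      exact Set.disjoint_left.mp hI₂.2 hw ⟨w, by rw [← hu₂]; rfl⟩
  have hL₁ : BlowUp.IsAdmissibleFor (φ₁ ⁻¹ᵁ O₁) L := ⟨hLft, by rw [preimage_opensRange_eq γ.toImage φ₁ j₁ hu₁]; exact hLd.symm⟩
  have hL₂ : BlowUp.IsAdmissibleFor (φ₂ ⁻¹ᵁ O₂) L := ⟨hLft, by rw [preimage_opensRange_eq γ.toImage φ₂ j₂ hu₂]; exact hLd.symm⟩
  have hr₁ : BlowUp.IsBlowUp r₁ (I₁.comap φ₁) := isBlowUp_strict hp₁ hc₁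
  have hr₂ : BlowUp.IsBlowUp r₂ (I₂.comap φ₂) := isBlowUp_strict hp₂ hc₂
  obtain ⟨t₁, ht₁c, ht₁⟩ := H11Strict.isBlowUp_of_factor hr₁ hc
  obtain ⟨t₂, ht₂c, ht₂⟩ := H11Strict.isBlowUp_of_factor hr₂
    (show BlowUp.IsBlowUp c (I₂.comap φ₂ * I₁.comap φ₁) by rw [mul_comm]; exact hc)
  rw [mul_comm (I₂.comap φ₂)] at ht₂
  obtain ⟨K₁, X₁', β₁, o₁, hβ₁, hK₁, ho₁, hoβ₁⟩ :=
    exists_side g₁ φ₁ O₁ hO₁ c₁ hc₁ hI₁ r₁ e₁ hre₁ L hL₁ t₁ ht₁ c ht₁c
  obtain ⟨K₂, X₂', β₂, o₂, hβ₂, hK₂, ho₂, hoβ₂⟩ :=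
    exists_side g₂ φ₂ O₂ hO₂ c₂ hc₂ hI₂ r₂ e₂ hre₂ L hL₂ t₂ ht₂ c ht₂c
  haveI := ho₁
  haveI := ho₂
  haveI := isProper_blowUp hK₁.1 hβ₁
  haveI := isProper_blowUp hK₂.1 hβ₂
  have hφ : φ₁ ≫ g₁ = φ₂ ≫ g₂ := by simp only [φ₁, φ₂, Category.assoc, pullback.condition]
  have hT : o₁ ≫ β₁ ≫ g₁ = o₂ ≫ β₂ ≫ g₂ := by
    rw [← Category.assoc, hoβ₁, Category.assoc, hφ, ← Category.assoc, ← hoβ₂, Category.assoc]
  have hcl : IsClosed (Set.range (pullback.lift o₁ o₂ hT)) := by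
    let m : pullback (β₁ ≫ g₁) (β₂ ≫ g₂) ⟶ pullback g₁ g₂ :=
      pullback.lift (pullback.fst _ _ ≫ β₁) (pullback.snd _ _ ≫ β₂) (by simp [pullback.condition])
    haveI : IsSeparated (m ≫ pullback.fst g₁ g₂ ≫ g₁) := by
      rw [← Category.assoc, show m ≫ pullback.fst g₁ g₂ = pullback.fst _ _ ≫ β₁ from pullback.lift_fst _ _ _,
        Category.assoc]
      infer_instance
    haveI : IsSeparated m := IsSeparated.of_comp m (pullback.fst g₁ g₂ ≫ g₁)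
    have hm : pullback.lift o₁ o₂ hT ≫ m = c ≫ γ.imageι := by
      apply pullback.hom_ext
      · simp [m, hoβ₁, φ₁]
      · simp [m, hoβ₂, φ₂]
    haveI : IsProper (pullback.lift o₁ o₂ hT ≫ m) := by rw [hm]; infer_instance
    haveI : IsProper (pullback.lift o₁ o₂ hT) := IsProper.of_comp _ m
    exact (pullback.lift o₁ o₂ hT).isClosedMap.isClosed_range
  obtain ⟨X, q, oA, oB, hq₁, hq₂, hq₃, hoA, hoB, hqA, hqB, hglue, -, -⟩ :=
    exists_glue_pair o₁ o₂ (β₁ ≫ g₁) (β₂ ≫ g₂) hT hcl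
  obtain ⟨σ, hσ⟩ := exists_lift_of_disjoint hc γ.toImage hLd
  exact ⟨X, q, hq₁, hq₂, hq₃, K₁, K₂, X₁', X₂', β₁, β₂, oA, oB, σ ≫ o₁, σ ≫ o₂, hβ₁, hK₁, hβ₂, hK₂, hoA, hoB,
    hqA, hqB, by rw [Category.assoc, hoβ₁, ← Category.assoc, hσ, hu₁],
    by rw [Category.assoc, hoβ₂, ← Category.assoc, hσ, hu₂], by rw [Category.assoc, hglue, Category.assoc]⟩

end Groth.Agent.H7Flat.Flatten
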