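import Groth.Agent.H7Flat.Flatten.Principal
import Mathlib

/-!
# Locality and composition of flattening blow-ups
-/

set_option autoImplicit false
set_option linter.style.haveILetI false
set_option backward.isDefEq.respectTransparency false
set_option maxHeartbeats 1000000

universe u

open TensorProduct

namespace Groth.Agent.H7Flat.Flatten

attribute [local instance] Algebra.TensorProduct.rightAlgebra

theorem tfGood_restrict {A A' B M : Type u} [CommRing A] [CommRing A'] [CommRing B] [Algebra A A']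
    [Algebra A' B] [Algebra A B] [IsScalarTower A A' B] [Module.Flat A A'] [AddCommGroup M] [Module B M]
    [Module A M] [IsScalarTower A B M] [Module A' M] [IsScalarTower A' B M] (t : A)
    (h : TFGood B (algebraMap A A' t) M) : TFGood B t M := by
  have he : tors B (algebraMap A A' t) M = tors B t M := by
    rw [tors, tors, ← IsScalarTower.algebraMap_apply]
  haveI : IsScalarTower A A' (M ⧸ tors B (algebraMap A A' t) M) := IsScalarTower.of_algebraMap_smul fun a x => by
    rw [← algebraMap_smul B (algebraMap A A' a) x, ← IsScalarTower.algebraMap_apply, algebraMap_smul]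
  haveI := h.1
  haveI := h.2
  haveI : Module.Flat A (M ⧸ tors B (algebraMap A A' t) M) :=
    Module.Flat.trans A A' (M ⧸ tors B (algebraMap A A' t) M)
  exact ⟨Module.Flat.of_linearEquiv ((Submodule.quotEquivOfEq _ _ he.symm).restrictScalars A),
    Module.FinitePresentation.of_equiv (Submodule.quotEquivOfEq _ _ he)⟩

theorem tfGood_of_quotient {A B M M₂ : Type u} [CommRing A] [CommRing B] [Algebra A B] [AddCommGroup M]
    [Module B M] [Module A M] [IsScalarTower A B M] [AddCommGroup M₂] [Module B M₂] [Module A M₂]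
    [IsScalarTower A B M₂] {t c : A} (ht : t ∈ nonZeroDivisors A) (hct : c ∣ t) (π : M →ₗ[B] M₂)
    (hπ : Function.Surjective π) (hker : LinearMap.ker π ≤ tors B t M) (h : TFGood B c M₂) : TFGood B t M := by
  haveI := h.1
  haveI := h.2
  obtain ⟨d, hd⟩ := hct
  refine tfGood_of_surjective ht ((tors B c M₂).mkQ ∘ₗ π) ((Submodule.mkQ_surjective _).comp hπ) fun m hm => ?_
  obtain ⟨n, hn⟩ := mem_tors_iff.mp ((Submodule.Quotient.mk_eq_zero _).mp (show Submodule.Quotient.mk (π m) = 0 from hm))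
  have h1 : t ^ n • m ∈ LinearMap.ker π := LinearMap.mem_ker.mpr (by
    rw [LinearMap.map_smul_of_tower, hd, mul_pow, mul_comm, mul_smul, hn, smul_zero])
  obtain ⟨k, hk⟩ := mem_tors_iff.mp (hker h1)
  exact mem_tors_iff.mpr ⟨k + n, by rw [pow_add, mul_smul, hk]⟩

theorem tfGood_of_dvd {A B M : Type u} [CommRing A] [CommRing B] [Algebra A B] [AddCommGroup M]
    [Module B M] [Module A M] [IsScalarTower A B M] {t c : A} (ht : t ∈ nonZeroDivisors A) (hct : c ∣ t)
    (h : TFGood B c M) : TFGood B t M :=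
  tfGood_of_quotient ht hct LinearMap.id Function.surjective_id (by simp) h

/-- A localization of the base, with models of the algebra and the module. -/
theorem exists_local_model {A B M : Type u} [CommRing A] [CommRing B] [Algebra A B] [AddCommGroup M]
    [Module B M] (g : A) :
    ∃ (L B' M' : Type u) (_ : CommRing L) (_ : CommRing B') (_ : Algebra A L) (_ : IsLocalization.Away g L)
      (_ : Algebra L B') (_ : Algebra B B') (_ : Algebra A B') (_ : IsScalarTower A L B')
      (_ : IsScalarTower A B B') (_ : Algebra.IsPushout A L B B') (_ : AddCommGroup M') (_ : Module B' M')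
      (_ : Module B M') (_ : IsScalarTower B B' M') (_ : Module L M') (_ : IsScalarTower L B' M')
      (_ : Module A M') (_ : IsScalarTower A B' M') (_ : IsScalarTower A L M') (ψ : M →ₗ[B] M'),
      IsBaseChange B' ψ ∧ Module.Flat A L ∧ Module.Flat B B' ∧
      ∀ P : PrimeSpectrum B, g ∉ P.asIdeal.comap (algebraMap A B) →
        ∃ P' : PrimeSpectrum B', PrimeSpectrum.comap (algebraMap B B') P' = P := by
  let L := Localization.Away g
  let B' := L ⊗[A] B
  let M' := B' ⊗[B] M
  haveI hp : Algebra.IsPushout A L B B' := inferInstance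
  have hLflat : Module.Flat A L := IsLocalization.flat _ (Submonoid.powers g)
  have hBflat : Module.Flat B B' :=
    haveI : Algebra.IsPushout A B L B' := hp.symm
    Module.Flat.isBaseChange A B L B'
      (Algebra.IsPushout.out : IsBaseChange B (IsScalarTower.toAlgHom A L B').toLinearMap)
  haveI hloc : IsLocalization.Away (algebraMap A B g) B' := by
    have := (Algebra.isLocalization_iff_isPushout (R := A) (T := B) (Submonoid.powers g) L (B := B')).mpr hp.symm
    rwa [Algebra.algebraMapSubmonoid, Submonoid.map_powers] at this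
  haveI tA : IsScalarTower A B' M' := inferInstance
  haveI tAL : IsScalarTower A L M' := inferInstance
  refine ⟨L, B', M', inferInstance, inferInstance, inferInstance, inferInstance, inferInstance, inferInstance,
    inferInstance, inferInstance, inferInstance, hp, inferInstance, inferInstance, inferInstance, inferInstance,
    inferInstance, inferInstance, inferInstance, tA, tAL, TensorProduct.mk B B' M 1, TensorProduct.isBaseChange B M B',
    hLflat, hBflat, fun P hP => ?_⟩
  have hrange : P ∈ Set.range (PrimeSpectrum.comap (algebraMap B B')) := by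
    rw [PrimeSpectrum.localization_away_comap_range B' (algebraMap A B g)]
    exact hP
  exact hrange

/-- Being good at `t` is Zariski local on the base. -/
theorem goodAt_of_local {R S N A : Type u} [CommRing R] [CommRing S] [Algebra R S] [AddCommGroup N] [Module S N]
    [Module.Finite S N] [CommRing A] [Algebra R A] (t : A)
    (h : ∀ (Q : Ideal A) [Q.IsPrime], ∃ g : A, g ∉ Q ∧
      ∀ (L : Type u) [CommRing L] [Algebra A L] [Algebra R L] [IsScalarTower R A L],
        [IsLocalization.Away g L] → GoodAt R S N L (algebraMap A L t)) :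
    GoodAt R S N A t := by
  classical
  intro B M _ _ _ _ _ _ _ _ _ _ _ _ _ φ hφ
  haveI : Module.Finite B M := Module.Finite.equiv hφ.equiv
  choose g hg hL using fun Q : PrimeSpectrum A => h Q.asIdeal
  have htop : Ideal.span (Set.range g) = ⊤ := by
    by_contra hne
    obtain ⟨P, hP, hle⟩ := Ideal.exists_le_maximal _ hne
    exact hg ⟨P, hP.isPrime⟩ (hle (Ideal.subset_span ⟨_, rfl⟩))
  obtain ⟨s, hs, h1⟩ := Submodule.mem_span_finite_of_mem_span ((Ideal.eq_top_iff_one _).mp htop)
  let e : Fin s.card ≃ {x // x ∈ s} := s.equivFin.symm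
  choose Qi hQi using fun i : Fin s.card => hs (e i).2
  choose Li Bi Mi iL iB iAL iloc iLB iBB iAB iT1 iT2 ipush iM iBM iBM' iT3 iLM iT4 iAM iT5 iT6 ψ hψ hLf hBf hP
    using fun i : Fin s.card => exists_local_model (B := B) (M := M) (g (Qi i))
  refine tfGood_of_cover Bi Mi (fun P => ?_) ψ hψ t fun i => ?_
  · obtain ⟨i, hi⟩ : ∃ i, g (Qi i) ∉ P.asIdeal.comap (algebraMap A B) := by
      by_contra! hall
      refine (Ideal.comap_ne_top (algebraMap A B) P.isPrime.ne_top) ((Ideal.eq_top_iff_one _).mpr ?_)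
      refine (Submodule.span_le.mpr fun x hx => ?_) h1
      have := hall (e.symm ⟨x, hx⟩)
      rwa [hQi, Equiv.apply_symm_apply] at this
    exact ⟨i, hP i P hi⟩
  · letI : Algebra R (Li i) := ((algebraMap A (Li i)).comp (algebraMap R A)).toAlgebra
    haveI : IsScalarTower R A (Li i) := IsScalarTower.of_algebraMap_eq fun _ => rfl
    letI : Algebra R (Bi i) := ((algebraMap B (Bi i)).comp (algebraMap R B)).toAlgebra
    haveI : IsScalarTower R B (Bi i) := IsScalarTower.of_algebraMap_eq fun _ => rfl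
    letI : Algebra S (Bi i) := ((algebraMap B (Bi i)).comp (algebraMap S B)).toAlgebra
    haveI : IsScalarTower S B (Bi i) := IsScalarTower.of_algebraMap_eq fun _ => rfl
    haveI : IsScalarTower R S (Bi i) := IsScalarTower.of_algebraMap_eq fun r => by
      show algebraMap B (Bi i) (algebraMap R B r) = algebraMap B (Bi i) (algebraMap S B (algebraMap R S r))
      rw [← IsScalarTower.algebraMap_apply R S B]
    haveI : IsScalarTower R (Li i) (Bi i) := IsScalarTower.of_algebraMap_eq fun r => by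
      rw [IsScalarTower.algebraMap_apply R A (Li i), ← IsScalarTower.algebraMap_apply A (Li i) (Bi i),
        IsScalarTower.algebraMap_apply A B (Bi i), ← IsScalarTower.algebraMap_apply R A B,
        ← IsScalarTower.algebraMap_apply R B (Bi i)]
    haveI : Algebra.IsPushout R (Li i) S (Bi i) :=
      (Algebra.IsPushout.comp_iff (R := R) (S := A) (R' := S) (S' := B) (T := Li i) (T' := Bi i)).mpr (ipush i)
    letI : Module S (Mi i) := Module.compHom (Mi i) (algebraMap S B)
    haveI : IsScalarTower S B (Mi i) := .of_algebraMap_smul fun _ _ => rfl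
    haveI : IsScalarTower S (Bi i) (Mi i) := .of_algebraMap_smul fun b x => by
      rw [IsScalarTower.algebraMap_apply S B (Bi i), algebraMap_smul, algebraMap_smul]
    haveI := hLf i
    exact tfGood_restrict t (hL (Qi i) (Li i) (Bi i) (Mi i) ((ψ i).restrictScalars S ∘ₗ φ) (hφ.comp (hψ i)))

/-- A flattening centre may be multiplied by another ideal. -/
theorem Flattening.mul {R S N : Type u} [CommRing R] [CommRing S] [Algebra R S] [AddCommGroup N] [Module S N]
    [Module.Finite S N] {I : Ideal R} (h : Flattening R S N I) (K : Ideal R) : Flattening R S N (I * K) := by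
  intro A _ _ t ht hIK
  rw [Ideal.map_mul] at hIK
  refine goodAt_of_local t fun Q _ => ?_
  obtain ⟨g, hg, x, -, y, -, hxy⟩ := exists_principal_factors (Ideal.span_eq _).symm (Ideal.span_eq _).symm
    ht hIK Q
  refine ⟨g, hg, fun L _ _ _ _ _ => ?_⟩
  obtain ⟨hxn, hxI, -, -, v, -, hv⟩ := hxy L
  intro B M _ _ _ _ _ _ _ _ _ _ _ _ _ φ hφ
  refine tfGood_of_dvd (nzd_localization (Submonoid.powers g) L ht) ⟨algebraMap A L y * v, by rw [hv, mul_assoc]⟩
    (h L (algebraMap A L x) hxn ?_ B M φ hφ)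
  rw [IsScalarTower.algebraMap_eq R A L, ← Ideal.map_map, hxI]

theorem Flattening.mul' {R S N : Type u} [CommRing R] [CommRing S] [Algebra R S] [AddCommGroup N] [Module S N]
    [Module.Finite S N] {I : Ideal R} (h : Flattening R S N I) (K : Ideal R) : Flattening R S N (K * I) := by
  rw [mul_comm]
  exact h.mul K

/-- Goodness on a chart of a blow-up, from flatness of the strict transform of the strict transform
there. -/
theorem goodAt_of_chart {R S N R₁ L : Type u} [CommRing R] [CommRing S] [Algebra R S] [AddCommGroup N]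
    [Module S N] [CommRing R₁] [Algebra R R₁] [CommRing L] [Algebra R L] [Algebra R₁ L] [IsScalarTower R R₁ L]
    (S₁ M₁ : Type u) [CommRing S₁] [Algebra R₁ S₁] [Algebra R S₁] [Algebra S S₁] [IsScalarTower R R₁ S₁]
    [IsScalarTower R S S₁] [Algebra.IsPushout R R₁ S S₁] [AddCommGroup M₁] [Module S₁ M₁] [Module S M₁]
    [IsScalarTower S S₁ M₁] [Module R₁ M₁] [IsScalarTower R₁ S₁ M₁] (φ₁ : N →ₗ[S] M₁)
    (hφ₁ : IsBaseChange S₁ φ₁) (a : R₁) (I₁ : Ideal R₁)
    (hfl : Flattening R₁ S₁ (M₁ ⧸ tors S₁ a M₁) I₁) (t d : L) (ht : t ∈ nonZeroDivisors L)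
    (hd : d ∈ nonZeroDivisors L) (hdI : I₁.map (algebraMap R₁ L) = Ideal.span {d}) (hdt : d ∣ t)
    (hat : algebraMap R₁ L a ∣ t) : GoodAt R S N L t := by
  intro B M _ _ _ _ _ _ _ _ _ _ _ _ _ φ hφ
  letI : Algebra R₁ B := ((algebraMap L B).comp (algebraMap R₁ L)).toAlgebra
  haveI : IsScalarTower R₁ L B := IsScalarTower.of_algebraMap_eq fun _ => rfl
  haveI : IsScalarTower R R₁ B := IsScalarTower.of_algebraMap_eq fun r => by
    rw [IsScalarTower.algebraMap_apply R₁ L B, ← IsScalarTower.algebraMap_apply R R₁ L,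
      ← IsScalarTower.algebraMap_apply R L B]
  let θ : S₁ →ₐ[R] B := (Algebra.TensorProduct.lift (IsScalarTower.toAlgHom R R₁ B)
    (IsScalarTower.toAlgHom R S B) fun _ _ => .all _ _).comp
      ((Algebra.IsPushout.equiv R R₁ S S₁).symm.toAlgHom.restrictScalars R)
  letI : Algebra S₁ B := θ.toRingHom.toAlgebra
  haveI : IsScalarTower R₁ S₁ B := IsScalarTower.of_algebraMap_eq fun r => by
    show _ = Algebra.TensorProduct.lift (IsScalarTower.toAlgHom R R₁ B)
      (IsScalarTower.toAlgHom R S B) (fun _ _ => .all _ _) ((Algebra.IsPushout.equiv R R₁ S S₁).symm (algebraMap R₁ S₁ r))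
    rw [AlgEquiv.commutes, Algebra.TensorProduct.algebraMap_apply, Algebra.TensorProduct.lift_tmul, map_one, mul_one]
    rfl
  haveI : IsScalarTower S S₁ B := IsScalarTower.of_algebraMap_eq fun r => by
    show _ = Algebra.TensorProduct.lift (IsScalarTower.toAlgHom R R₁ B)
      (IsScalarTower.toAlgHom R S B) (fun _ _ => .all _ _) ((Algebra.IsPushout.equiv R R₁ S S₁).symm (algebraMap S S₁ r))
    have e : (Algebra.IsPushout.equiv R R₁ S S₁).symm (algebraMap S S₁ r) = (1 : R₁) ⊗ₜ[R] r := by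
      apply (Algebra.IsPushout.equiv R R₁ S S₁).injective
      rw [AlgEquiv.apply_symm_apply, Algebra.IsPushout.equiv_tmul, map_one, one_mul]
    rw [e, Algebra.TensorProduct.lift_tmul, map_one, one_mul]
    rfl
  haveI : Algebra.IsPushout R₁ L S₁ B :=
    (Algebra.IsPushout.comp_iff (R := R) (S := R₁) (R' := S) (S' := S₁) (T := L) (T' := B)).mp ‹_›
  letI : Module S₁ M := Module.compHom M (algebraMap S₁ B)
  haveI : IsScalarTower S₁ B M := .of_algebraMap_smul fun _ _ => rfl
  haveI : IsScalarTower S S₁ M := .of_algebraMap_smul fun b x => by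
    rw [← algebraMap_smul B (algebraMap S S₁ b), ← IsScalarTower.algebraMap_apply, algebraMap_smul]
  let ν : M₁ →ₗ[S₁] M := hφ₁.lift φ
  have hν : IsBaseChange B ν := IsBaseChange.of_comp hφ₁ (by
    rw [show (ν.restrictScalars S).comp φ₁ = φ from hφ₁.lift_comp φ]
    exact hφ)
  let T₁ := tors S₁ a M₁
  let M₃ := B ⊗[S₁] (M₁ ⧸ T₁)
  have hgood : TFGood B d M₃ :=
    hfl L d hd hdI B M₃ (TensorProduct.mk S₁ B (M₁ ⧸ T₁) 1) (TensorProduct.isBaseChange S₁ (M₁ ⧸ T₁) B)
  refine tfGood_of_quotient ht hdt ((T₁.mkQ.baseChange B) ∘ₗ hν.equiv.symm.toLinearMap)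
    ((LinearMap.lTensor_surjective B T₁.mkQ_surjective).comp hν.equiv.symm.surjective) ?_ hgood
  intro z hz
  obtain ⟨w, hw⟩ := (lTensor_exact B (LinearMap.exact_subtype_mkQ T₁) T₁.mkQ_surjective
    (hν.equiv.symm z)).mp (LinearMap.mem_ker.mp hz)
  rw [← hν.equiv.apply_symm_apply z, ← hw]
  clear hw hz
  induction w using TensorProduct.induction_on with
  | zero => simp
  | add p q hp hq => rw [map_add, map_add]; exact add_mem hp hq
  | tmul b x =>
    rw [LinearMap.lTensor_tmul, Submodule.subtype_apply, hν.equiv_tmul]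
    refine Submodule.smul_mem _ _ ?_
    obtain ⟨l, hl⟩ := mem_tors_iff.mp x.2
    obtain ⟨w', hw'⟩ := hat
    refine mem_tors_iff.mpr ⟨l, ?_⟩
    have h0 : algebraMap R₁ L a ^ l • ν x = 0 := by
      have h1 : algebraMap R₁ S₁ (a ^ l) • (x : M₁) = 0 := (algebraMap_smul S₁ (a ^ l) (x : M₁)).trans hl
      have h2 := congrArg ν h1
      rw [map_zero, map_smul, ← algebraMap_smul B (algebraMap R₁ S₁ (a ^ l)),
        ← IsScalarTower.algebraMap_apply R₁ S₁ B, IsScalarTower.algebraMap_apply R₁ L B,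
        algebraMap_smul, map_pow] at h2
      exact h2
    rw [hw', mul_pow, mul_comm, mul_smul, h0, smul_zero]

/-- The chart data at a localization: the algebra receives the affine blow-up algebra and the centre
on the chart becomes principal. -/
theorem exists_chart_hom {R L : Type u} [CommRing R] [CommRing L] [Algebra R L] (I : Ideal R) (a : R)
    (ha : a ∈ I) (J : Ideal R) (N m : ℕ) (han : algebraMap R L a ∈ nonZeroDivisors L)
    (hI : I.map (algebraMap R L) = Ideal.span {algebraMap R L a})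
    (I₁ : Ideal ↥(BlowUp.affineAlgebra R I a)) (s : Finset ↥(BlowUp.affineAlgebra R I a))
    (hs : Ideal.span (s : Set ↥(BlowUp.affineAlgebra R I a)) = I₁)
    (num : ↥(BlowUp.affineAlgebra R I a) → R) (hnum : ∀ z ∈ s, num z ∈ I ^ N ∧
      z * algebraMap R _ a ^ N = algebraMap R _ (num z))
    (hm : (J.map (algebraMap R ↥(BlowUp.affineAlgebra R I a))) ^ m ≤ I₁)
    {c : L} (hc : c ∈ nonZeroDivisors L)
    (hcJ : (Ideal.span (num '' (s : Set ↥(BlowUp.affineAlgebra R I a))) ⊔ I ^ N * J ^ m).map (algebraMap R L) =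
      Ideal.span {c}) :
    ∃ f : ↥(BlowUp.affineAlgebra R I a) →ₐ[R] L, ∃ d : L, d ∈ nonZeroDivisors L ∧
      I₁.map f.toRingHom = Ideal.span {d} ∧ d ∣ c := by
  obtain ⟨f⟩ := exists_algHom_affineAlgebra I a han hI
  let aN := algebraMap R L a ^ N
  have hIN : (I ^ N).map (algebraMap R L) = Ideal.span {aN} := by
    rw [Ideal.map_pow, hI, Ideal.span_singleton_pow]
  have hkey : (Ideal.span (num '' (s : Set ↥(BlowUp.affineAlgebra R I a))) ⊔ I ^ N * J ^ m).map (algebraMap R L) =
      Ideal.span {aN} * I₁.map f.toRingHom := by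
    have h1 : (Ideal.span (num '' (s : Set ↥(BlowUp.affineAlgebra R I a)))).map (algebraMap R L) =
        Ideal.span {aN} * I₁.map f.toRingHom := by
      rw [← hs, Ideal.map_span, Ideal.map_span, Ideal.span_mul_span', Set.singleton_mul, Set.image_image, Set.image_image]
      refine congrArg Ideal.span (Set.image_congr fun z hz => ?_)
      rw [← f.commutes (num z), ← (hnum z hz).2, map_mul, map_pow, f.commutes, mul_comm]
      rfl
    rw [Ideal.map_sup, h1, Ideal.map_mul, hIN, sup_eq_left]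
    refine Ideal.mul_mono_right ?_
    rw [Ideal.map_pow, ← f.comp_algebraMap, ← Ideal.map_map, ← Ideal.map_pow]
    exact Ideal.map_mono hm
  rw [hcJ] at hkey
  obtain ⟨d, hd, hcd⟩ := Ideal.mem_span_singleton_mul.mp (hkey ▸ Ideal.mem_span_singleton_self c :
    c ∈ Ideal.span {aN} * I₁.map f.toRingHom)
  have haN : aN ∈ nonZeroDivisors L := pow_mem han N
  refine ⟨f, d, (mul_mem_nonZeroDivisors.mp (hcd ▸ hc)).2, le_antisymm (fun z hz => ?_)
    (Ideal.span_le.mpr (Set.singleton_subset_iff.mpr hd)), ⟨aN, by rw [← hcd, mul_comm]⟩⟩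
  have hzc : aN * z ∈ Ideal.span {c} := by
    rw [hkey]
    exact Ideal.mul_mem_mul (Ideal.mem_span_singleton_self _) hz
  obtain ⟨w, hw⟩ := Ideal.mem_span_singleton'.mp hzc
  refine Ideal.mem_span_singleton'.mpr ⟨w, sub_eq_zero.mp (mem_nonZeroDivisors_iff_right.mp haN _ ?_)⟩
  rw [sub_mul, mul_assoc, mul_comm d aN, hcd, hw, mul_comm z aN, sub_self]

/-- Goodness on a chart from a flattening centre on the model there. -/
theorem goodAt_of_chart_model {R S N R₁ L : Type u} [CommRing R] [CommRing S] [Algebra R S] [AddCommGroup N]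
    [Module S N] [CommRing R₁] [Algebra R R₁] [CommRing L] [Algebra R L] (f : R₁ →ₐ[R] L) (a : R₁) (I₁ : Ideal R₁)
    (h : Flattening R₁ (R₁ ⊗[R] S)
      (((R₁ ⊗[R] S) ⊗[S] N) ⧸ tors (R₁ ⊗[R] S) a ((R₁ ⊗[R] S) ⊗[S] N)) I₁)
    (t d : L) (ht : t ∈ nonZeroDivisors L) (hd : d ∈ nonZeroDivisors L)
    (hdI : I₁.map f.toRingHom = Ideal.span {d}) (hdt : d ∣ t) (hat : f a ∣ t) : GoodAt R S N L t := by
  letI : Algebra R₁ L := f.toRingHom.toAlgebra
  haveI : IsScalarTower R R₁ L := IsScalarTower.of_algebraMap_eq fun r => (f.commutes r).symm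
  exact goodAt_of_chart (R₁ ⊗[R] S) ((R₁ ⊗[R] S) ⊗[S] N) (TensorProduct.mk S (R₁ ⊗[R] S) N 1)
    (TensorProduct.isBaseChange S N (R₁ ⊗[R] S)) a I₁ h t d ht hd hdI hdt hat

/-- A centre for the model on a chart, from centres for all models. -/
theorem exists_centre_model {R S N R₁ : Type u} [CommRing R] [CommRing S] [Algebra R S] [AddCommGroup N]
    [Module S N] [CommRing R₁] [Algebra R R₁] (a : R₁) (Q : Ideal R₁ → Prop)
    (h : ∀ (S₁ M₁ : Type u) [CommRing S₁] [Algebra R₁ S₁] [Algebra R S₁] [Algebra S S₁]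
      [IsScalarTower R R₁ S₁] [IsScalarTower R S S₁] [Algebra.IsPushout R R₁ S S₁]
      [AddCommGroup M₁] [Module S₁ M₁] [Module S M₁] [IsScalarTower S S₁ M₁] [Module R₁ M₁]
      [IsScalarTower R₁ S₁ M₁] (φ : N →ₗ[S] M₁), IsBaseChange S₁ φ →
      ∃ I₁, Q I₁ ∧ Flattening R₁ S₁ (M₁ ⧸ tors S₁ a M₁) I₁) :
    ∃ I₁, Q I₁ ∧ Flattening R₁ (R₁ ⊗[R] S)
      (((R₁ ⊗[R] S) ⊗[S] N) ⧸ tors (R₁ ⊗[R] S) a ((R₁ ⊗[R] S) ⊗[S] N)) I₁ :=
  h (R₁ ⊗[R] S) ((R₁ ⊗[R] S) ⊗[S] N) (TensorProduct.mk S (R₁ ⊗[R] S) N 1)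
    (TensorProduct.isBaseChange S N (R₁ ⊗[R] S))

/-- Composing an admissible blow-up with flattening blow-ups of its charts. -/
theorem exists_flattening_of_charts {R S N : Type u} [CommRing R] [CommRing S] [Algebra R S] [AddCommGroup N]
    [Module S N] [Module.Finite S N] (J : Ideal R) (hJ : J.FG) {k : ℕ} (a : Fin k → R)
    (hI : Adm J (Ideal.span (Set.range a)))
    (h : ∀ i, ∀ (S₁ M₁ : Type u) [CommRing S₁] [Algebra ↥(BlowUp.affineAlgebra R (Ideal.span (Set.range a)) (a i)) S₁]
        [Algebra R S₁] [Algebra S S₁]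
        [IsScalarTower R ↥(BlowUp.affineAlgebra R (Ideal.span (Set.range a)) (a i)) S₁] [IsScalarTower R S S₁]
        [Algebra.IsPushout R ↥(BlowUp.affineAlgebra R (Ideal.span (Set.range a)) (a i)) S S₁]
        [AddCommGroup M₁] [Module S₁ M₁] [Module S M₁] [IsScalarTower S S₁ M₁]
        [Module ↥(BlowUp.affineAlgebra R (Ideal.span (Set.range a)) (a i)) M₁]
        [IsScalarTower ↥(BlowUp.affineAlgebra R (Ideal.span (Set.range a)) (a i)) S₁ M₁]
        (φ : N →ₗ[S] M₁), IsBaseChange S₁ φ →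
        ∃ I₁ : Ideal ↥(BlowUp.affineAlgebra R (Ideal.span (Set.range a)) (a i)),
        Adm (J.map (algebraMap R ↥(BlowUp.affineAlgebra R (Ideal.span (Set.range a)) (a i)))) I₁ ∧
        Flattening ↥(BlowUp.affineAlgebra R (Ideal.span (Set.range a)) (a i)) S₁
          (M₁ ⧸ tors S₁ (algebraMap R ↥(BlowUp.affineAlgebra R (Ideal.span (Set.range a)) (a i)) (a i)) M₁) I₁) :
    ∃ I : Ideal R, Adm J I ∧ Flattening R S N I := by
  classical
  let I₀ := Ideal.span (Set.range a)
  choose I₁ hadm hfl using fun i => exists_centre_model (N := N)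
    (algebraMap R ↥(BlowUp.affineAlgebra R I₀ (a i)) (a i))
    (Adm (J.map (algebraMap R ↥(BlowUp.affineAlgebra R I₀ (a i))))) (h i)
  choose s hs using fun i => (hadm i).1
  have hai : ∀ i, a i ∈ I₀ := fun i => Ideal.subset_span ⟨i, rfl⟩
  choose n hn using fun i (z : ↥(BlowUp.affineAlgebra R I₀ (a i))) => exists_numerator I₀ (a i) (hai i) z
  let Nn := fun i => (s i).sup (n i)
  choose num hnum using fun i (z : {z // z ∈ s i}) => hn i z.1 (Nn i) (Finset.le_sup z.2)
  let num' : ∀ i, ↥(BlowUp.affineAlgebra R I₀ (a i)) → R := fun i z =>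
    if hz : z ∈ s i then num i ⟨z, hz⟩ else 0
  have hnum' : ∀ i, ∀ z ∈ s i, num' i z ∈ I₀ ^ Nn i ∧ z * algebraMap R _ (a i) ^ Nn i = algebraMap R _ (num' i z) :=
    fun i z hz => by simp only [num', dif_pos hz]; exact hnum i ⟨z, hz⟩
  choose m hm using fun i => Ideal.exists_pow_le_of_le_radical_of_fg (hadm i).2 (hJ.map _)
  let Ji := fun i => Ideal.span (num' i '' (s i : Set _)) ⊔ I₀ ^ Nn i * J ^ m i
  have hJi : ∀ i, Adm J (Ji i) := fun i => by
    refine ⟨Submodule.FG.sup (Submodule.fg_span ((s i).finite_toSet.image _)) (hI.1.pow.mul hJ.pow), fun j hj => ?_⟩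
    have h1 : j ∈ (I₀ ^ Nn i * J ^ m i).radical := by
      rw [Ideal.radical_mul]
      refine ⟨?_, Ideal.mem_radical_of_pow_mem (m := m i) (Ideal.le_radical (Ideal.pow_mem_pow hj _))⟩
      obtain ⟨l, hl⟩ := hI.2 hj
      exact ⟨l * Nn i, by rw [pow_mul]; exact Ideal.pow_mem_pow hl _⟩
    exact Ideal.radical_mono le_sup_right h1
  refine ⟨I₀ * ∏ i, Ji i, hI.mul (Adm.prod _ _ fun i _ => hJi i), ?_⟩
  intro A _ _ t ht hK
  rw [Ideal.map_mul] at hK
  refine goodAt_of_local t fun Q _ => ?_
  have hspan : I₀.map (algebraMap R A) = Ideal.span (algebraMap R A '' Set.range a) := Ideal.map_span _ _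
  obtain ⟨g, hg, x, hx, y, -, hxy⟩ := exists_principal_factors hspan (Ideal.span_eq _).symm ht hK Q
  obtain ⟨_, ⟨i, rfl⟩, rfl⟩ := hx
  refine ⟨g, hg, fun L _ _ _ _ _ => ?_⟩
  obtain ⟨hxn, hxI, hyn, hyJ, v, hv, hvt⟩ := hxy L
  have htL := nzd_localization (Submonoid.powers g) L ht
  refine goodAt_of_local (algebraMap A L t) fun Q₂ _ => ?_
  have hprod : (Ji i).map (algebraMap R L) * (∏ j ∈ Finset.univ.erase i, Ji j).map (algebraMap R L) =
      Ideal.span {algebraMap A L y} := by
    rw [← Ideal.map_mul, Finset.mul_prod_erase _ _ (Finset.mem_univ i), IsScalarTower.algebraMap_eq R A L,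
      ← Ideal.map_map, hyJ]
  obtain ⟨g₂, hg₂, c, -, c', -, hcc⟩ := exists_principal_factors (Ideal.span_eq _).symm (Ideal.span_eq _).symm
    hyn hprod Q₂
  refine ⟨g₂, hg₂, fun L₂ _ _ _ _ _ => ?_⟩
  obtain ⟨hcn, hcJ, -, -, v₂, -, hv₂⟩ := hcc L₂
  have han : algebraMap R L₂ (a i) ∈ nonZeroDivisors L₂ := by
    rw [IsScalarTower.algebraMap_apply R L L₂, IsScalarTower.algebraMap_apply R A L]
    exact nzd_localization (Submonoid.powers g₂) L₂ hxn
  have hIL : I₀.map (algebraMap R L₂) = Ideal.span {algebraMap R L₂ (a i)} := by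
    rw [IsScalarTower.algebraMap_eq R L L₂, IsScalarTower.algebraMap_eq R A L, ← Ideal.map_map,
      ← Ideal.map_map, hxI, Ideal.map_span, Set.image_singleton]
    rfl
  have hcJ' : (Ji i).map (algebraMap R L₂) = Ideal.span {algebraMap L L₂ c} := by
    rw [IsScalarTower.algebraMap_eq R L L₂, ← Ideal.map_map, hcJ]
  obtain ⟨f, d, hdn, hdI, hdc⟩ := exists_chart_hom I₀ (a i) (hai i) J (Nn i) (m i) han hIL (I₁ i) (s i) (hs i)
    (num' i) (hnum' i) (hm i) hcn hcJ'
  have haL : f (algebraMap R _ (a i)) = algebraMap L L₂ (algebraMap A L (algebraMap R A (a i))) := by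
    rw [f.commutes, IsScalarTower.algebraMap_apply R L L₂, IsScalarTower.algebraMap_apply R A L]
  refine goodAt_of_chart_model f _ (I₁ i) (hfl i) _ d (nzd_localization (Submonoid.powers g₂) L₂ htL) hdn hdI
    (hdc.trans ?_) (haL ▸ map_dvd _ ⟨algebraMap A L y * v, by rw [hvt, mul_assoc]⟩)
  refine dvd_trans ?_ (map_dvd (algebraMap L L₂) (⟨algebraMap A L (algebraMap R A (a i)) * v, by rw [hvt]; ring⟩ :
    algebraMap A L y ∣ algebraMap A L t))
  rw [hv₂, mul_assoc]
  exact dvd_mul_right _ _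

end Groth.Agent.H7Flat.Flatten
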