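import Groth.Agent.H7Flat.Flatten.Free
import Groth.Agent.H7Flat.AffineBlowupRank
import Mathlib

/-!
# Flattening a module of constant rank at the generic points of the fibres
-/

set_option autoImplicit false
set_option linter.style.haveILetI false
set_option backward.isDefEq.respectTransparency false
set_option maxHeartbeats 1000000

universe u

open TensorProduct

namespace Groth.Agent.H7Flat.Flatten

theorem affineAlgebra_nzd {R : Type u} [CommRing R] (I : Ideal R) (a : R) :
    algebraMap R ↥(BlowUp.affineAlgebra R I a) a ∈ nonZeroDivisors ↥(BlowUp.affineAlgebra R I a) :=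
  mem_nonZeroDivisors_iff_right.mpr fun z hz => by
    refine Subtype.ext ((IsLocalization.Away.algebraMap_isUnit (S := Localization.Away a) a).mul_left_eq_zero.mp ?_)
    exact congrArg Subtype.val hz

theorem affineAlgebra_map {R : Type u} [CommRing R] (I : Ideal R) (a : R) (ha : a ∈ I) :
    I.map (algebraMap R ↥(BlowUp.affineAlgebra R I a)) =
      Ideal.span {algebraMap R ↥(BlowUp.affineAlgebra R I a) a} := by
  refine le_antisymm (Ideal.map_le_iff_le_comap.mpr fun x hx => ?_)
    (Ideal.span_le.mpr (Set.singleton_subset_iff.mpr (Ideal.mem_map_of_mem _ ha)))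
  rw [Ideal.mem_comap, Ideal.mem_span_singleton']
  refine ⟨⟨_, Algebra.subset_adjoin ⟨x, hx, rfl⟩⟩, Subtype.ext ?_⟩
  exact IsLocalization.mk'_spec (Localization.Away a) x ⟨a, Submonoid.mem_powers a⟩

theorem exists_pow_dvd {R : Type u} [CommRing R] {b f : R} (h : f ∈ (Ideal.span {b}).radical) :
    ∃ k : ℕ, b ∣ f ^ k := by
  obtain ⟨k, hk⟩ := h
  exact ⟨k, Ideal.mem_span_singleton.mp hk⟩

theorem tors_le_of_dvd {A B M : Type u} [CommRing A] [CommRing B] [Algebra A B] [AddCommGroup M] [Module B M]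
    [Module A M] [IsScalarTower A B M] {b f : A} {k : ℕ} (h : b ∣ f ^ k) : tors B b M ≤ tors B f M := by
  intro m hm
  obtain ⟨n, hn⟩ := mem_tors_iff.mp hm
  obtain ⟨c, hc⟩ := h
  exact mem_tors_iff.mpr ⟨k * n, by rw [pow_mul, hc, mul_pow, mul_comm, mul_smul, hn, smul_zero]⟩

theorem tors_eq_of_rad {A B M : Type u} [CommRing A] [CommRing B] [Algebra A B] [AddCommGroup M] [Module B M]
    [Module A M] [IsScalarTower A B M] {b f : A} (h : (Ideal.span {b}).radical = (Ideal.span {f}).radical) :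
    tors B b M = tors B f M := by
  obtain ⟨k, hk⟩ := exists_pow_dvd (h ▸ Ideal.le_radical (Ideal.mem_span_singleton_self f) : f ∈ (Ideal.span {b}).radical)
  obtain ⟨l, hl⟩ := exists_pow_dvd (h.symm ▸ Ideal.le_radical (Ideal.mem_span_singleton_self b) : b ∈ (Ideal.span {f}).radical)
  exact le_antisymm (tors_le_of_dvd hk) (tors_le_of_dvd hl)

/-- A chart of the blow-up making the module free near the generic points. -/
theorem exists_centre_chart {R R₁ D G : Type u} [CommRing R] [CommRing R₁] [Algebra R R₁] [CommRing D] [Algebra R D]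
    [Algebra.FinitePresentation R D] [Module.Flat R D] (hgi : FlatCA.GeomIntegralFibres R D) (m : ℕ)
    (hsm : FlatCA.SmoothRelDim m R D) (hlow : Below.{u} m) [AddCommGroup G] [Module D G] [Module.Finite D G]
    [Module R G] [IsScalarTower R D G] (f : R) (hgood : GoodAway R D G f) (r : ℕ) (I : Ideal R)
    (hrad : I.radical = (Ideal.span {f}).radical) (b : R)
    (hIb : I.map (algebraMap R R₁) = Ideal.span {algebraMap R R₁ b})
    (S₁ M₁ : Type u) [CommRing S₁] [Algebra R₁ S₁] [Algebra R S₁] [Algebra D S₁] [IsScalarTower R R₁ S₁]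
    [IsScalarTower R D S₁] [Algebra.IsPushout R R₁ D S₁] [AddCommGroup M₁] [Module S₁ M₁] [Module D M₁]
    [IsScalarTower D S₁ M₁] [Module R₁ M₁] [IsScalarTower R₁ S₁ M₁] (φ : G →ₗ[D] M₁) (hφ : IsBaseChange S₁ φ)
    (hfree : ∀ (p' : Ideal R₁) [p'.IsPrime],
      ∃ g : S₁, g ∉ p'.map (algebraMap R₁ S₁) ∧
        Module.Free (Localization.Away g)
          (LocalizedModule (Submonoid.powers g) (M₁ ⧸ FlatCA.powTorsion S₁ (algebraMap R S₁ b) M₁)) ∧
        Module.rank (Localization.Away g)
          (LocalizedModule (Submonoid.powers g) (M₁ ⧸ FlatCA.powTorsion S₁ (algebraMap R S₁ b) M₁)) = r) :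
    ∃ I₁, Adm ((Ideal.span {f}).map (algebraMap R R₁)) I₁ ∧
      Flattening R₁ S₁ (M₁ ⧸ tors S₁ (algebraMap R R₁ b) M₁) I₁ := by
  classical
  have hr1 : (Ideal.span {algebraMap R R₁ b}).radical = (Ideal.span {algebraMap R R₁ f}).radical := by
    refine le_antisymm (Ideal.radical_le_radical_iff.mpr ?_) (Ideal.radical_le_radical_iff.mpr ?_)
    · rw [← hIb]
      refine (Ideal.map_mono (show I ≤ (Ideal.span {f}).radical from hrad ▸ Ideal.le_radical)).trans ?_
      refine (Ideal.map_radical_le _).trans ?_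
      rw [Ideal.map_span, Set.image_singleton]
    · rw [← hIb, Ideal.span_le, Set.singleton_subset_iff]
      exact Ideal.map_radical_le _ (Ideal.mem_map_of_mem _ (hrad.symm ▸ Ideal.le_radical (Ideal.mem_span_singleton_self f)))
  haveI : Module.Finite S₁ M₁ := Module.Finite.equiv hφ.equiv
  haveI : Algebra.FinitePresentation R₁ S₁ := Algebra.FinitePresentation.equiv (Algebra.IsPushout.equiv R R₁ D S₁)
  haveI : Module.Flat R₁ S₁ := Module.Flat.isBaseChange R R₁ D S₁
    (Algebra.IsPushout.out : IsBaseChange R₁ (IsScalarTower.toAlgHom R D S₁).toLinearMap)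
  have hgi₁ := geomIntegralFibres_baseChange R R₁ D S₁ hgi
  have hsm₁ := H8Props.Devissage.smoothRelDim_baseChange R R₁ D S₁ m hsm
  have hgood₁ := hgood.baseChange (A := R₁) φ hφ
  have hgood₂ : GoodAway R₁ S₁ (M₁ ⧸ tors S₁ (algebraMap R R₁ b) M₁) (algebraMap R R₁ f) :=
    hgood₁.of_map (tors S₁ (algebraMap R R₁ b) M₁).mkQ (Submodule.mkQ_surjective _) fun x hx =>
      mem_tors_iff.mp (tors_eq_of_rad (B := S₁) (M := M₁) hr1 ▸ (Submodule.Quotient.mk_eq_zero _).mp hx)
  obtain ⟨I₁, hI₁, hfl⟩ := exists_flattening_of_free hgi₁ m hsm₁ hlow (algebraMap R R₁ f) hgood₂ fun p' _ => by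
    have he : tors S₁ (algebraMap R R₁ b) M₁ = FlatCA.powTorsion S₁ (algebraMap R S₁ b) M₁ := by
      rw [IsScalarTower.algebraMap_apply R R₁ S₁]
    obtain ⟨g, hg, hfr, hrk⟩ := hfree p'
    rw [he]
    haveI : IsDomain (p'.Fiber S₁) := Groth.Agent.S1223.isDomain_fiber hgi₁ R₁ S₁ p'
    obtain ⟨hP, -⟩ := AffineBlowupRank.isPrime_map (S := S₁) p'
    haveI : Nontrivial (Localization.Away g) := by
      refine ⟨1, 0, fun h => ?_⟩
      rw [← map_one (algebraMap S₁ (Localization.Away g)), IsLocalization.map_eq_zero_iff (Submonoid.powers g)] at h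
      obtain ⟨⟨_, j, rfl⟩, hj⟩ := h
      simp only [mul_one] at hj
      exact hg (hP.mem_of_pow_mem j (hj ▸ Ideal.zero_mem _))
    haveI := hfr
    exact ⟨g, hg, r, ⟨Module.finBasisOfFinrankEq _ _ (Module.finrank_eq_of_rank_eq hrk)⟩⟩
  exact ⟨I₁, by rwa [Ideal.map_span, Set.image_singleton], hfl⟩

/-- Flattening a module of constant rank at the generic points of the fibres off `f`. -/
theorem exists_flattening_of_const_rank {R D G : Type u} [CommRing R] [CommRing D] [Algebra R D]
    [Algebra.FinitePresentation R D] [Module.Flat R D] (hgi : FlatCA.GeomIntegralFibres R D) (m : ℕ)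
    (hsm : FlatCA.SmoothRelDim m R D) (hlow : Below.{u} m) [AddCommGroup G] [Module D G] [Module.Finite D G]
    [Module R G] [IsScalarTower R D G] (f : R) (hgood : GoodAway R D G f) (r : ℕ)
    (hrank : ∀ (p : Ideal R) [p.IsPrime] [(p.map (algebraMap R D)).IsPrime], f ∉ p →
      Module.Free (Localization.AtPrime (p.map (algebraMap R D))) (LocalizedModule (p.map (algebraMap R D)).primeCompl G) ∧
      Module.rank (Localization.AtPrime (p.map (algebraMap R D))) (LocalizedModule (p.map (algebraMap R D)).primeCompl G) = r) :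
    ∃ I : Ideal R, Adm (Ideal.span {f}) I ∧ Flattening R D G I := by
  classical
  haveI := hgood.1
  obtain ⟨I, hfg, hrad, hI⟩ := AffineBlowupRank.exists_ideal hgi f r G hrank
  obtain ⟨k, a, ha⟩ := Submodule.fg_iff_exists_fin_generating_family.mp hfg
  have hspan : Ideal.span (Set.range a) = I := ha
  refine exists_flattening_of_charts (Ideal.span {f}) (Submodule.fg_span_singleton f) a
    (hspan.symm ▸ ⟨hfg, hrad.symm ▸ Ideal.le_radical⟩) fun i S₁ M₁ _ _ _ _ _ _ hpush _ _ _ _ _ _ φ hφ => ?_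
  have hai : a i ∈ Ideal.span (Set.range a) := Ideal.subset_span ⟨i, rfl⟩
  haveI : Algebra.IsPushout R D ↥(BlowUp.affineAlgebra R (Ideal.span (Set.range a)) (a i)) S₁ := hpush.symm
  exact exists_centre_chart hgi m hsm hlow f hgood r (Ideal.span (Set.range a)) (hspan.symm ▸ hrad) (a i)
    (affineAlgebra_map _ _ hai) S₁ M₁ φ hφ fun p' _ =>
      hI (a i) (hspan ▸ hai) _ (affineAlgebra_nzd _ _) (hspan ▸ affineAlgebra_map _ _ hai) S₁ M₁ φ hφ p'

end Groth.Agent.H7Flat.Flatten
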