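import Groth.Agent.H7Flat.Flatten.Principal
import Groth.Agent.H29Fitt.Prod
import Groth.Agent.H29Fitt.Rank
import Mathlib

/-!
# Descending centres of blow-ups along standard etale algebras
-/

set_option autoImplicit false
set_option linter.style.haveILetI false
set_option backward.isDefEq.respectTransparency false
set_option maxHeartbeats 1000000

universe u

open TensorProduct

namespace Groth.Agent.H7Flat.Flatten

theorem fitt_congr {R M M' : Type u} [CommRing R] [AddCommGroup M] [Module R M] [AddCommGroup M']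
    [Module R M'] [Module.Finite R M] [Module.Finite R M'] (e : M ≃ₗ[R] M') (k : ℕ) :
    Fitt.ideal R M k = Fitt.ideal R M' k :=
  le_antisymm (H29Fitt.ideal_mono_of_surjective e.toLinearMap e.surjective k)
    (H29Fitt.ideal_mono_of_surjective e.symm.toLinearMap e.symm.surjective k)

/-- A standard etale algebra is a localization of a finite free algebra at one element. -/
theorem exists_free_model (R R' : Type u) [CommRing R] [CommRing R'] [Algebra R R']
    [Algebra.IsStandardEtale R R'] :
    ∃ (T : Type u) (_ : CommRing T) (_ : Algebra R T) (_ : Module.Free R T) (_ : Module.Finite R T) (h : T)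
      (_ : Algebra T R') (_ : IsScalarTower R T R'), IsLocalization.Away h R' := by
  obtain ⟨P⟩ := (inferInstance : Nonempty (StandardEtalePresentation R R'))
  let T := AdjoinRoot P.P.f
  let e : R' ≃ₐ[R] Localization.Away (AdjoinRoot.mk P.P.f P.P.g) := P.equivRing.trans P.P.equivAwayAdjoinRoot
  haveI : Module.Free R T := P.P.monic_f.free_adjoinRoot
  haveI : Module.Finite R T := P.P.monic_f.finite_adjoinRoot
  let φ : T →ₐ[R] R' := e.symm.toAlgHom.comp (IsScalarTower.toAlgHom R T (Localization.Away (AdjoinRoot.mk P.P.f P.P.g)))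
  letI : Algebra T R' := φ.toRingHom.toAlgebra
  haveI : IsScalarTower R T R' := IsScalarTower.of_algebraMap_eq fun r => (φ.commutes r).symm
  let e' : Localization.Away (AdjoinRoot.mk P.P.f P.P.g) ≃ₐ[T] R' :=
    { e.symm.toRingEquiv with commutes' := fun _ => rfl }
  exact ⟨T, inferInstance, inferInstance, inferInstance, inferInstance, AdjoinRoot.mk P.P.f P.P.g, inferInstance,
    inferInstance, IsLocalization.isLocalization_of_algEquiv _ e'⟩

/-- A section of a finite algebra through an open on which the algebra is unramified is split off. -/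
theorem exists_idem_section {C T : Type u} [CommRing C] [CommRing T] [Algebra C T] [Module.Finite C T]
    [Module.Projective C T] (h : T) (σ : T →ₐ[C] C) (hh : IsUnit (σ h))
    (hidem : ∀ k, σ k = 0 → ∃ m : ℕ, ∃ x : T, σ x = 0 ∧ h ^ m * k = x * k) :
    ∃ w : T, σ w = 1 ∧ ∀ k, σ k = 0 → w * k = 0 := by
  classical
  let K : Submodule C T := LinearMap.ker σ.toLinearMap
  have hσ : Function.Surjective σ := fun c => ⟨algebraMap C T c, σ.commutes c⟩
  haveI : Module.Finite C K := by
    obtain ⟨s, hs⟩ := Module.projective_lifting_property σ.toLinearMap LinearMap.id hσ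
    refine Module.Finite.of_surjective ((LinearMap.id - s ∘ₗ σ.toLinearMap).codRestrict K fun z => ?_) ?_
    · rintro ⟨z, hz⟩
      refine ⟨z, Subtype.ext ?_⟩
      show z - s (σ z) = z
      rw [show σ z = 0 from hz, map_zero, sub_zero]
    · have h1 : σ (s (σ z)) = σ z := DFunLike.congr_fun hs (σ z)
      show σ (z - s (σ z)) = 0
      rw [map_sub, h1, sub_self]
  obtain ⟨S, hS⟩ := (Module.Finite.fg_top : (⊤ : Submodule C K).FG)
  choose m x hx hk using fun k : K => hidem k.1 k.2
  let W : T := ∏ k ∈ S, (h ^ m k - x k)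
  have hW : IsUnit (σ W) := by
    rw [map_prod]
    refine Finset.prod_induction _ IsUnit (fun _ _ ha hb => ha.mul hb) isUnit_one fun k _ => ?_
    rw [map_sub, hx, sub_zero, map_pow]
    exact hh.pow _
  obtain ⟨v, hv⟩ := hW
  have hWK : ∀ k : K, W * (k : T) = 0 := by
    intro k
    have hk' : k ∈ Submodule.span C (S : Set K) := hS ▸ trivial
    induction hk' using Submodule.span_induction with
    | mem k hkS =>
      obtain ⟨W', hW'⟩ := Finset.dvd_prod_of_mem (fun k => h ^ m k - x k) hkS
      rw [show W = (h ^ m k - x k) * W' from hW', mul_assoc, mul_comm W', ← mul_assoc, sub_mul, hk k, sub_self,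
        zero_mul]
    | zero => simp
    | add a b _ _ ha hb => rw [Submodule.coe_add, mul_add, ha, hb, add_zero]
    | smul c a _ ha => rw [SetLike.val_smul, mul_smul_comm, ha, smul_zero]
  refine ⟨(↑v⁻¹ : C) • W, ?_, fun k hk => ?_⟩
  · rw [map_smul, ← hv, smul_eq_mul, Units.inv_mul]
  · rw [smul_mul_assoc, hWK ⟨k, hk⟩, smul_zero]

/-- The kernel of the diagonal of an etale algebra is generated by an idempotent. -/
theorem exists_sep_idem (R R' : Type u) [CommRing R] [CommRing R'] [Algebra R R'] [Algebra.Etale R R'] :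
    ∃ e : R' ⊗[R] R', Algebra.TensorProduct.lmul' R e = 0 ∧
      ∀ k, Algebra.TensorProduct.lmul' R k = 0 → e * k = k := by
  obtain ⟨e, he, heK⟩ := (Ideal.isIdempotentElem_iff_of_fg _ (KaehlerDifferential.ideal_fg R R')).mp
    ((Ideal.cotangent_subsingleton_iff _).mp (Algebra.FormallyUnramified.subsingleton_kaehlerDifferential (R := R) (A := R')))
  refine ⟨e, ?_, fun k hk => ?_⟩
  · have : e ∈ KaehlerDifferential.ideal R R' := heK ▸ Submodule.mem_span_singleton_self e
    exact this
  · have : k ∈ KaehlerDifferential.ideal R R' := hk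
    rw [heK] at this
    obtain ⟨c, rfl⟩ := Submodule.mem_span_singleton.mp this
    rw [smul_eq_mul, mul_comm c e, ← mul_assoc, he.eq]

/-- Localizations commute with base change, on the right factor. -/
theorem isLocalization_tensor_right (R C T R' : Type u) [CommRing R] [CommRing C] [CommRing T] [CommRing R']
    [Algebra R C] [Algebra R T] [Algebra R R'] [Algebra T R'] [IsScalarTower R T R'] (h : T)
    [IsLocalization.Away h R'] :
    letI := (Algebra.TensorProduct.map (AlgHom.id C C) (IsScalarTower.toAlgHom R T R')).toRingHom.toAlgebra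
    IsLocalization.Away ((1 : C) ⊗ₜ[R] h) (C ⊗[R] R') := by
  let ν := Algebra.TensorProduct.map (AlgHom.id C C) (IsScalarTower.toAlgHom R T R')
  letI : Algebra (C ⊗[R] T) (C ⊗[R] R') := ν.toRingHom.toAlgebra
  letI : Algebra T (C ⊗[R] T) := Algebra.TensorProduct.rightAlgebra
  haveI : IsScalarTower R T (C ⊗[R] T) := Algebra.TensorProduct.right_isScalarTower
  letI : Algebra R' (C ⊗[R] R') := Algebra.TensorProduct.rightAlgebra
  haveI : IsScalarTower R R' (C ⊗[R] R') := Algebra.TensorProduct.right_isScalarTower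
  letI : Algebra T (C ⊗[R] R') := ((algebraMap R' (C ⊗[R] R')).comp (algebraMap T R')).toAlgebra
  haveI : IsScalarTower T R' (C ⊗[R] R') := IsScalarTower.of_algebraMap_eq fun _ => rfl
  haveI : IsScalarTower T (C ⊗[R] T) (C ⊗[R] R') := IsScalarTower.of_algebraMap_eq fun z => by
    show (1 : C) ⊗ₜ[R] algebraMap T R' z = ν ((1 : C) ⊗ₜ[R] z)
    simp [ν]
  haveI : IsScalarTower C (C ⊗[R] T) (C ⊗[R] R') := IsScalarTower.of_algebraMap_eq fun a => (ν.commutes a).symm
  haveI : IsScalarTower R (C ⊗[R] T) (C ⊗[R] R') := IsScalarTower.of_algebraMap_eq fun r => (ν.restrictScalars R |>.commutes r).symm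
  haveI : IsScalarTower R T (C ⊗[R] R') := IsScalarTower.of_algebraMap_eq fun r => by
    rw [IsScalarTower.algebraMap_apply T R' (C ⊗[R] R'), ← IsScalarTower.algebraMap_apply R T R',
      ← IsScalarTower.algebraMap_apply R R' (C ⊗[R] R')]
  have hp : Algebra.IsPushout R R' C (C ⊗[R] R') := (inferInstance : Algebra.IsPushout R C R' (C ⊗[R] R')).symm
  haveI : Algebra.IsPushout R C T (C ⊗[R] T) := inferInstance
  haveI : Algebra.IsPushout R T C (C ⊗[R] T) := Algebra.IsPushout.symm ‹_›
  have hTC : Algebra.IsPushout T R' (C ⊗[R] T) (C ⊗[R] R') :=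
    (Algebra.IsPushout.comp_iff (R := R) (S := T) (R' := C) (S' := C ⊗[R] T) (T := R') (T' := C ⊗[R] R')).mp hp
  have := (Algebra.isLocalization_iff_isPushout (R := T) (T := C ⊗[R] T) (Submonoid.powers h) R'
    (B := C ⊗[R] R')).mpr hTC.symm
  rwa [Algebra.algebraMapSubmonoid, Submonoid.map_powers] at this

/-- A centre on a standard etale algebra is dominated by one on the base. -/
theorem exists_descended_ideal {R R' : Type u} [CommRing R] [CommRing R'] [Algebra R R']
    [Algebra.IsStandardEtale R R'] (J : Ideal R) (hJ : J.FG) (I' : Ideal R')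
    (hI' : Adm (J.map (algebraMap R R')) I') :
    ∃ I : Ideal R, Adm J I ∧ ∀ (A : Type u) [CommRing A] [Algebra R A] (t : A), t ∈ nonZeroDivisors A →
      I.map (algebraMap R A) = Ideal.span {t} →
      ∀ (A' : Type u) [CommRing A'] [Algebra A A'] [Algebra R' A'] [Algebra R A'] [IsScalarTower R A A']
        [IsScalarTower R R' A'] [Algebra.IsPushout R A R' A'] (Q : Ideal A') [Q.IsPrime],
        ∃ g : A', g ∉ Q ∧ ∀ (L : Type u) [CommRing L] [Algebra A' L] [Algebra R' L] [IsScalarTower R' A' L]
          [Algebra A L] [IsScalarTower A A' L], [IsLocalization.Away g L] →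
          ∃ c : L, c ∈ nonZeroDivisors L ∧ I'.map (algebraMap R' L) = Ideal.span {c} ∧
            c ∣ algebraMap A L t := by
  classical
  obtain ⟨T, _, _, _, _, h, _, _, hloc⟩ := exists_free_model R R'
  haveI := hloc
  obtain ⟨hI'fg, hI'J⟩ := hI'
  obtain ⟨m, hm⟩ := Ideal.exists_pow_le_of_le_radical_of_fg hI'J (hJ.map _)
  obtain ⟨s, hs⟩ := hI'fg
  choose n num hnum using fun x : R' => IsLocalization.Away.surj h x
  let IT : Ideal T := Ideal.span ((s.image num : Finset T) : Set T) ⊔ (J ^ m).map (algebraMap R T)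
  have hITR' : IT.map (algebraMap T R') = I' := by
    rw [Ideal.map_sup, Ideal.map_map, ← IsScalarTower.algebraMap_eq, Ideal.map_span, ← hs, Ideal.map_pow]
    refine le_antisymm (sup_le ?_ (hs.symm ▸ hm)) (le_trans ?_ le_sup_left)
    · rw [Submodule.span_le]
      rintro _ ⟨_, hy, rfl⟩
      obtain ⟨x, hx, rfl⟩ := Finset.mem_image.mp (Finset.mem_coe.mp hy)
      rw [SetLike.mem_coe, ← hnum]
      exact Ideal.mul_mem_right _ _ (Submodule.subset_span hx)
    · rw [Submodule.span_le]
      intro x hx
      have hu : IsUnit (algebraMap T R' h ^ n x) := (IsLocalization.Away.algebraMap_isUnit h).pow _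
      rw [SetLike.mem_coe, ← Ideal.mul_unit_mem_iff_mem _ hu, hnum]
      exact Ideal.subset_span ⟨num x, Finset.mem_coe.mpr (Finset.mem_image_of_mem _ hx), rfl⟩
  have hITfg : IT.FG := Submodule.FG.sup (Submodule.fg_span (Finset.finite_toSet _)) ((hJ.pow).map _)
  haveI : Module.FinitePresentation T (T ⧸ IT) :=
    Module.finitePresentation_of_surjective IT.mkQ IT.mkQ_surjective (by rwa [Submodule.ker_mkQ])
  haveI : Module.FinitePresentation R T := Module.finitePresentation_of_projective R T
  haveI : Module.FinitePresentation R (T ⧸ IT) := Module.FinitePresentation.trans R (T ⧸ IT) T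
  let I := Fitt.ideal R (T ⧸ IT) 0
  refine ⟨I, ⟨H29Fitt.ideal_fg 0, ?_⟩, ?_⟩
  · intro j hj
    refine Ideal.mem_radical_of_pow_mem (m := m) ?_
    refine H29Fitt.annihilator_le_radical_ideal_zero (Module.mem_annihilator.mpr fun z => ?_)
    obtain ⟨z, rfl⟩ := Submodule.Quotient.mk_surjective _ z
    rw [← Submodule.Quotient.mk_smul, Submodule.Quotient.mk_eq_zero, Algebra.smul_def]
    exact Ideal.mul_mem_right _ _ (Ideal.mem_sup_right (Ideal.mem_map_of_mem _ (Ideal.pow_mem_pow hj m)))
  intro A _ _ t ht hIA A' _ _ _ _ _ _ hpush Q _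
  haveI : Algebra.Etale A A' := Algebra.Etale.of_equiv (A := A ⊗[R] R') (Algebra.IsPushout.equiv R A R' A')
  let TC := A' ⊗[R] T
  letI : Algebra T A' := ((algebraMap R' A').comp (algebraMap T R')).toAlgebra
  haveI : IsScalarTower T R' A' := IsScalarTower.of_algebraMap_eq fun _ => rfl
  haveI : IsScalarTower R T A' := IsScalarTower.of_algebraMap_eq fun r => by
    rw [IsScalarTower.algebraMap_apply T R' A', ← IsScalarTower.algebraMap_apply R T R',
      ← IsScalarTower.algebraMap_apply]
  let σ : TC →ₐ[A'] A' := Algebra.TensorProduct.lift (Algebra.ofId A' A') (IsScalarTower.toAlgHom R T A')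
    fun _ _ => .all _ _
  have hσ : ∀ (a : A') (z : T), σ (a ⊗ₜ[R] z) = a * algebraMap T A' z := fun a z => rfl
  let hC : TC := (1 : A') ⊗ₜ[R] h
  have hhu : IsUnit (σ hC) := by
    rw [hσ, one_mul, IsScalarTower.algebraMap_apply T R' A']
    exact (IsLocalization.Away.algebraMap_isUnit h).map _
  obtain ⟨w, hw1, hw⟩ := exists_idem_section hC σ hhu (by
    obtain ⟨e, he0, he⟩ := exists_sep_idem R R'
    let χ : R' ⊗[R] R' →ₐ[R] A' ⊗[R] R' :=
      Algebra.TensorProduct.map (IsScalarTower.toAlgHom R R' A') (AlgHom.id R R')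
    let μ : A' ⊗[R] R' →ₐ[A'] A' := Algebra.TensorProduct.lift (Algebra.ofId A' A')
      (IsScalarTower.toAlgHom R R' A') fun _ _ => .all _ _
    have hμe : μ (χ e) = 0 := by
      have key : ∀ z, μ (χ z) = algebraMap R' A' (Algebra.TensorProduct.lmul' R z) := fun z => by
        induction z using TensorProduct.induction_on with
        | zero => simp
        | tmul a b => simp [χ, μ]
        | add a b ha hb => simp only [map_add, ha, hb]
      rw [key, he0, map_zero]
    have hgen : ∀ z, μ z = 0 → χ e * z = z := by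
      have key : ∀ z, ∃ d, z - d ⊗ₜ[R] 1 ∈ Ideal.span (χ '' {k | Algebra.TensorProduct.lmul' R k = 0}) := by
        intro z
        induction z using TensorProduct.induction_on with
        | zero => exact ⟨0, by simp⟩
        | tmul a b =>
          refine ⟨a * algebraMap R' A' b, ?_⟩
          have : a ⊗ₜ[R] b - (a * algebraMap R' A' b) ⊗ₜ[R] (1 : R') =
              (a ⊗ₜ[R] (1 : R')) * χ ((1 : R') ⊗ₜ[R] b - b ⊗ₜ[R] (1 : R')) := by
            simp [χ, mul_sub]
          rw [this]
          exact Ideal.mul_mem_left _ _ (Ideal.subset_span ⟨_, by simp, rfl⟩)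
        | add a b ha hb =>
          obtain ⟨d, hd⟩ := ha
          obtain ⟨d', hd'⟩ := hb
          exact ⟨d + d', by rw [TensorProduct.add_tmul, add_sub_add_comm]; exact add_mem hd hd'⟩
      have hfix : ∀ z ∈ Ideal.span (χ '' {k | Algebra.TensorProduct.lmul' R k = 0}), χ e * z = z ∧ μ z = 0 := by
        intro z hz
        induction hz using Submodule.span_induction with
        | mem z hz =>
          obtain ⟨k, hk, rfl⟩ := hz
          refine ⟨by rw [← map_mul, he k hk], ?_⟩
          rw [← he k hk, map_mul, map_mul, hμe, zero_mul]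
        | zero => simp
        | add a b _ _ ha hb => exact ⟨by rw [mul_add, ha.1, hb.1], by rw [map_add, ha.2, hb.2, add_zero]⟩
        | smul c a _ ha =>
          exact ⟨by rw [smul_eq_mul, mul_left_comm, ha.1], by rw [smul_eq_mul, map_mul, ha.2, mul_zero]⟩
      intro z hz
      obtain ⟨d, hd⟩ := key z
      have hd0 : d = 0 := by
        have := (hfix _ hd).2
        rw [map_sub, hz, zero_sub, neg_eq_zero] at this
        simpa [μ] using this
      rw [hd0, TensorProduct.zero_tmul, sub_zero] at hd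
      exact (hfix _ hd).1
    let ν : TC →ₐ[A'] A' ⊗[R] R' :=
      Algebra.TensorProduct.map (AlgHom.id A' A') (IsScalarTower.toAlgHom R T R')
    have hμν : ∀ z, μ (ν z) = σ z := fun z => by
      induction z using TensorProduct.induction_on with
      | zero => simp
      | tmul a b =>
        show a * algebraMap R' A' (algebraMap T R' b) = a * algebraMap T A' b
        rw [← IsScalarTower.algebraMap_apply]
      | add a b ha hb => simp only [map_add, ha, hb]
    letI : Algebra TC (A' ⊗[R] R') := ν.toRingHom.toAlgebra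
    haveI : IsLocalization.Away hC (A' ⊗[R] R') := isLocalization_tensor_right R A' T R' h
    intro k hk
    obtain ⟨j, e', he'⟩ := IsLocalization.Away.surj hC (χ e)
    have hσe' : σ e' = 0 := by
      rw [← hμν, show ν e' = algebraMap TC (A' ⊗[R] R') e' from rfl, ← he', map_mul, hμe, zero_mul]
    have h2 : algebraMap TC (A' ⊗[R] R') (hC ^ j * k) = algebraMap TC (A' ⊗[R] R') (e' * k) := by
      rw [map_mul, map_mul, map_pow, ← he',
        show algebraMap TC (A' ⊗[R] R') k = ν k from rfl]
      conv_lhs => rw [← hgen (ν k) ((hμν k).trans hk)]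
      ring
    obtain ⟨⟨_, l, rfl⟩, hl⟩ := (IsLocalization.eq_iff_exists (Submonoid.powers hC) _).mp h2
    exact ⟨l + j, hC ^ l * e', by rw [map_mul, hσe', mul_zero],
      by rw [pow_add, mul_assoc, mul_assoc]; exact hl⟩)
  let II : Ideal TC := IT.map (Algebra.TensorProduct.includeRight (R := R) (A := A') (B := T)).toRingHom
  let K : Ideal TC := RingHom.ker σ
  let W : Ideal TC := Ideal.span {w}
  have hsup : (II ⊔ K) ⊔ (II ⊔ W) = ⊤ := by
    rw [Ideal.eq_top_iff_one, show (1 : TC) = (1 - w) + w by ring]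
    refine add_mem (Ideal.mem_sup_left (Ideal.mem_sup_right ?_))
      (Ideal.mem_sup_right (Ideal.mem_sup_right (Ideal.mem_span_singleton_self w)))
    rw [RingHom.mem_ker, map_sub, map_one, hw1, sub_self]
  have hinf : (II ⊔ K) ⊓ (II ⊔ W) = II := by
    refine le_antisymm ?_ (le_inf le_sup_left le_sup_left)
    rw [← Ideal.mul_eq_inf_of_coprime hsup, Ideal.sup_mul, Ideal.mul_sup, Ideal.mul_sup]
    refine sup_le (sup_le Ideal.mul_le_left Ideal.mul_le_left)
      (sup_le Ideal.mul_le_right ?_)
    rw [Ideal.mul_le]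
    intro k hk z hz
    obtain ⟨c, rfl⟩ := Ideal.mem_span_singleton'.mp hz
    rw [show k * (c * w) = c * (w * k) by ring, hw k hk, mul_zero]
    exact zero_mem _
  let e₁ : (A' ⊗[R] (T ⧸ IT)) ≃ₗ[A'] (TC ⧸ II) :=
    (Algebra.TensorProduct.tensorQuotientEquiv (R := R) A' T A' IT).toLinearEquiv
  let e₂ : (TC ⧸ II) ≃ₗ[A'] (TC ⧸ (II ⊔ K)) × (TC ⧸ (II ⊔ W)) :=
    ((Ideal.quotientEquivAlgOfEq A' hinf.symm).trans
      { Ideal.quotientInfEquivQuotientProd _ _ (Ideal.isCoprime_iff_sup_eq.mpr hsup) with
        commutes' := fun _ => rfl }).toLinearEquiv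
  haveI : Module.Finite A' (A' ⊗[R] (T ⧸ IT)) := inferInstance
  haveI : Module.Finite A' (TC ⧸ (II ⊔ K)) := inferInstance
  haveI : Module.Finite A' (TC ⧸ (II ⊔ W)) := inferInstance
  have hF := fitt_congr (e₁ ≪≫ₗ e₂) 0
  rw [H29Fitt.ideal_baseChange, H29Fitt.ideal_prod, Finset.sum_range_one, Nat.sub_zero] at hF
  have hI'C : II.map σ = I'.map (algebraMap R' A') := by
    rw [← hITR', Ideal.map_map, ← IsScalarTower.algebraMap_eq]
    show (IT.map _).map σ.toRingHom = _
    rw [Ideal.map_map]
    congr 1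
    ext z
    show σ ((1 : A') ⊗ₜ[R] z) = _
    rw [hσ, one_mul]
  have hK : (II ⊔ K) = (II.map σ).comap σ := by
    rw [Ideal.comap_map_of_surjective σ (fun c => ⟨algebraMap A' TC c, σ.commutes c⟩) II]
    rfl
  have hI1 : Fitt.ideal A' (TC ⧸ (II ⊔ K)) 0 = I'.map (algebraMap R' A') := by
    let f : TC →ₐ[A'] A' ⧸ (II.map σ) := (Ideal.Quotient.mkₐ A' _).comp σ
    have hf : Function.Surjective f := fun z => by
      obtain ⟨c, rfl⟩ := Ideal.Quotient.mk_surjective z
      exact ⟨algebraMap A' TC c, f.commutes c⟩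
    have hfk : RingHom.ker f = II ⊔ K := by
      rw [hK]
      ext z
      rw [RingHom.mem_ker, Ideal.mem_comap, ← Ideal.Quotient.eq_zero_iff_mem]
      rfl
    let e₃ : (TC ⧸ (II ⊔ K)) ≃ₗ[A'] (A' ⧸ II.map σ) :=
      ((Ideal.quotientEquivAlgOfEq A' hfk.symm).trans (Ideal.quotientKerAlgEquivOfSurjective hf)).toLinearEquiv
    rw [fitt_congr e₃ 0, H29Fitt.ideal_quotient_zero, hI'C]
  rw [hI1] at hF
  haveI : Module.Flat A A' := inferInstance
  have htA' : algebraMap A A' t ∈ nonZeroDivisors A' := mem_nonZeroDivisors_iff_right.mpr fun z hz =>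
    smul_eq_zero_of_flat ht (by rw [Algebra.smul_def, mul_comm, hz])
  have hIA' : I.map (algebraMap R A') = Ideal.span {algebraMap A A' t} := by
    rw [IsScalarTower.algebraMap_eq R A A', ← Ideal.map_map, hIA, Ideal.map_span, Set.image_singleton]
  have hprod : I'.map (algebraMap R' A') * Fitt.ideal A' (TC ⧸ (II ⊔ W)) 0 = Ideal.span {algebraMap A A' t} :=
    hF.symm.trans hIA'
  obtain ⟨g, hg, x, hx, y, -, hL⟩ := exists_principal_factors (Ideal.span_eq _).symm (Ideal.span_eq _).symm
    htA' hprod Q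
  refine ⟨g, hg, fun L _ _ _ _ _ _ _ => ?_⟩
  obtain ⟨h1, h2, -, -, v, -, hv⟩ := hL L
  refine ⟨algebraMap A' L x, h1, ?_, ?_⟩
  · rw [IsScalarTower.algebraMap_eq R' A' L, ← Ideal.map_map, h2]
  · rw [IsScalarTower.algebraMap_apply A A' L, hv, mul_assoc]
    exact dvd_mul_right _ _

end Groth.Agent.H7Flat.Flatten
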