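import Groth.Agent.H7Flat.Flatten.Glue
import Groth.Agent.H7Flat.Flatten.Descend
import Groth.Agent.H11Strict.SeparateExists
import Groth.Agent.S9722
import Mathlib

/-!
# Descending blow-up centres along étale maps
-/

set_option autoImplicit false
set_option linter.style.haveILetI false
set_option backward.isDefEq.respectTransparency false
set_option maxHeartbeats 1000000

universe u

open AlgebraicGeometry CategoryTheory Limits TopologicalSpace Opposite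

namespace Groth.Agent.H7Flat.Flatten

/-- A point of an affine open corresponding to a prime. -/
theorem exists_point_of_prime {X : Scheme.{u}} {W : X.Opens} (hW : IsAffineOpen W) (P : Ideal Γ(X, W)) [P.IsPrime] :
    ∃ x ∈ W, ∀ f : Γ(X, W), x ∈ X.basicOpen f ↔ f ∉ P := by
  refine ⟨hW.fromSpec ⟨P, ‹_›⟩, ?_, fun f => ?_⟩
  · rw [← SetLike.mem_coe, ← hW.range_fromSpec]; exact ⟨_, rfl⟩
  · show (⟨P, ‹_›⟩ : PrimeSpectrum Γ(X, W)) ∈ hW.fromSpec ⁻¹ᵁ X.basicOpen f ↔ _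
    rw [hW.fromSpec_preimage_basicOpen]
    rfl

/-- A function whose basic open misses the support lies in the radical of the ideal. -/
theorem mem_radical_of_disjoint {X : Scheme.{u}} (L : X.IdealSheafData) (W : X.affineOpens) (a : Γ(X, W.1))
    (h : ∀ x ∈ X.basicOpen a, x ∉ L.support) : a ∈ (L.ideal W).radical := by
  rw [Ideal.radical_eq_sInf]
  refine Ideal.mem_sInf.mpr fun P ⟨hP, hPp⟩ => by_contra fun ha => ?_
  haveI := hPp
  obtain ⟨x, hxW, hx⟩ := exists_point_of_prime W.2 P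
  refine h x ((hx a).mpr ha) ((Scheme.IdealSheafData.mem_support_iff_of_mem (U := W) hxW).mpr ?_)
  rw [Scheme.mem_zeroLocus_iff]
  exact fun g hg hxg => (hx g).mp hxg (hP hg)

/-- The descended centre controls the given one over a chart. -/
def Controls {S T : Scheme.{u}} (e : T ⟶ S) (L : T.IdealSheafData) (J : S.IdealSheafData) (W : Set T) : Prop :=
  ∀ (B : Scheme.{u}) (b : B ⟶ S), BlowUp.IsEffCartierIdeal (J.comap b) →
    ∀ (T' : Scheme.{u}) (p₁ : T' ⟶ T) (p₂ : T' ⟶ B), IsPullback p₁ p₂ e b → ∀ z : T', p₁ z ∈ W →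
      ∃ D : T'.affineOpens, z ∈ D.1 ∧ ∃ c : Γ(T', D.1), c ∈ nonZeroDivisors Γ(T', D.1) ∧
        (L.comap p₁).ideal D = Ideal.span {c} ∧ ((J.comap b).comap p₂).ideal D ≤ Ideal.span {c}

/-- Control on a chart. -/
theorem exists_chart_descended {S T : Scheme.{u}} [CompactSpace S] [QuasiSeparatedSpace S] (U : S.Opens)
    (hU : IsCompact (U : Set S)) (e : T ⟶ S) (L : T.IdealSheafData) (hL : BlowUp.IsAdmissibleFor (e ⁻¹ᵁ U) L)
    {V : S.Opens} (hV : IsAffineOpen V) {W : T.Opens} (hW : IsAffineOpen W) (hWV : W ≤ e ⁻¹ᵁ V)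
    (hst : letI := (e.appLE V W hWV).hom.toAlgebra; Algebra.IsStandardEtale Γ(S, V) Γ(T, W)) :
    ∃ J : S.IdealSheafData, BlowUp.IsAdmissibleFor U J ∧ Controls e L J (W : Set T) := by
  classical
  letI := (e.appLE V W hWV).hom.toAlgebra
  haveI := hst
  obtain ⟨s, hsU, hs⟩ := exists_finset_eq_inter U hU hV
  have hI' : Adm ((Ideal.span (s : Set Γ(S, V))).map (algebraMap Γ(S, V) Γ(T, W))) (L.ideal ⟨W, hW⟩) := by
    refine ⟨hL.1 _, Ideal.map_le_iff_le_comap.mpr (Ideal.span_le.mpr fun j hj => ?_)⟩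
    refine mem_radical_of_disjoint L ⟨W, hW⟩ _ fun x hx hxL => Set.disjoint_left.mp hL.2 hxL ?_
    exact hsU j hj ((Scheme.basicOpen_appLE e W V hWV j).le hx).2
  obtain ⟨I, hI, hdesc⟩ := exists_descended_ideal (Ideal.span (s : Set Γ(S, V)))
    (Submodule.fg_span (Finset.finite_toSet s)) _ hI'
  obtain ⟨J, hJ, hJV⟩ := exists_admissible_of_ideal U hU hV (s : Set Γ(S, V)) hs I hI
  refine ⟨J, hJ, fun B b hB T' p₁ p₂ hc z hz => ?_⟩
  obtain ⟨U₀, hxU₀, t₀, ht₀, hI₀⟩ := hB (p₂ z)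
  have hxV : b (p₂ z) ∈ V := by
    rw [← Scheme.Hom.comp_apply, ← hc.w]
    exact hWV hz
  obtain ⟨r, hr, hxr⟩ := U₀.2.exists_basicOpen_le (V := b ⁻¹ᵁ V) ⟨p₂ z, hxV⟩ hxU₀
  let A : B.affineOpens := ⟨B.basicOpen r, U₀.2.basicOpen r⟩
  let t : Γ(B, A.1) := (B.presheaf.map (homOfLE (B.basicOpen_le r)).op).hom t₀
  have ht : t ∈ nonZeroDivisors Γ(B, A.1) := by
    haveI := U₀.2.isLocalization_basicOpen r
    exact nzd_localization (Submonoid.powers r) Γ(B, B.basicOpen r) ht₀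
  have hIA : (J.comap b).ideal A = Ideal.span {t} := by
    rw [← (J.comap b).map_ideal (U := A) (V := U₀) (B.basicOpen_le r), hI₀, Ideal.map_span,
      Set.image_singleton]
    rfl
  let Z : T'.Opens := p₁ ⁻¹ᵁ W ⊓ p₂ ⁻¹ᵁ A.1
  have hp : IsPushout (e.appLE V W hWV) (b.appLE V A.1 hr)
      (p₁.appLE W Z inf_le_left) (p₂.appLE A.1 Z inf_le_right) :=
    (isIso_pushoutSection_iff hc hr hWV (UY := Z) rfl).mp
      (isIso_pushoutSection_of_isAffineOpen hc hr hWV rfl hV A.2 hW)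
  have hZ : IsAffineOpen Z := by
    haveI : IsAffine _ := hV
    haveI : IsAffine _ := A.2
    haveI : IsAffine _ := hW
    exact .of_isIso (Scheme.Hom.isPullback_resLE hc hr hWV (UY := Z) rfl).isoPullback.hom
  letI := (b.appLE V A.1 hr).hom.toAlgebra
  letI := (p₁.appLE W Z inf_le_left).hom.toAlgebra
  letI := (p₂.appLE A.1 Z inf_le_right).hom.toAlgebra
  letI : Algebra Γ(S, V) Γ(T', Z) := ((p₁.appLE W Z inf_le_left).hom.comp (e.appLE V W hWV).hom).toAlgebra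
  haveI : IsScalarTower Γ(S, V) Γ(T, W) Γ(T', Z) := .of_algebraMap_eq fun _ => rfl
  haveI : IsScalarTower Γ(S, V) Γ(B, A.1) Γ(T', Z) :=
    IsScalarTower.of_algebraMap_eq' (congrArg CommRingCat.Hom.hom hp.w)
  haveI : Algebra.IsPushout Γ(S, V) Γ(B, A.1) Γ(T, W) Γ(T', Z) := CommRingCat.isPushout_iff_isPushout.mp hp.flip
  have hmap : I.map (algebraMap Γ(S, V) Γ(B, A.1)) = Ideal.span {t} := by
    rw [← hIA, H29Blow.ideal_comap J b ⟨V, hV⟩ A hr, hJV]
    rfl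
  have hzZ : z ∈ Z := ⟨hz, hxr⟩
  obtain ⟨g, hg, hloc⟩ := hdesc Γ(B, A.1) t ht hmap Γ(T', Z) (hZ.primeIdealOf ⟨z, hzZ⟩).asIdeal
  have hzg : z ∈ T'.basicOpen g := by
    have h4 : hZ.primeIdealOf ⟨z, hzZ⟩ ∈ hZ.fromSpec ⁻¹ᵁ T'.basicOpen g := by
      rw [hZ.fromSpec_preimage_basicOpen]; exact hg
    have h5 : hZ.fromSpec (hZ.primeIdealOf ⟨z, hzZ⟩) ∈ T'.basicOpen g := h4
    rwa [hZ.fromSpec_primeIdealOf] at h5
  let D : T'.affineOpens := ⟨T'.basicOpen g, hZ.basicOpen g⟩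
  have hDW : D.1 ≤ p₁ ⁻¹ᵁ W := (T'.basicOpen_le g).trans inf_le_left
  have hDA : D.1 ≤ p₂ ⁻¹ᵁ A.1 := (T'.basicOpen_le g).trans inf_le_right
  let ρ := (T'.presheaf.map (homOfLE (T'.basicOpen_le g)).op).hom
  letI : Algebra Γ(T, W) Γ(T', T'.basicOpen g) := (p₁.appLE W D.1 hDW).hom.toAlgebra
  letI : Algebra Γ(B, A.1) Γ(T', T'.basicOpen g) := (p₂.appLE A.1 D.1 hDA).hom.toAlgebra
  haveI : IsScalarTower Γ(T, W) Γ(T', Z) Γ(T', T'.basicOpen g) := IsScalarTower.of_algebraMap_eq'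
    (congrArg CommRingCat.Hom.hom (p₁.appLE_map inf_le_left (homOfLE (T'.basicOpen_le g)).op).symm)
  haveI : IsScalarTower Γ(B, A.1) Γ(T', Z) Γ(T', T'.basicOpen g) := IsScalarTower.of_algebraMap_eq'
    (congrArg CommRingCat.Hom.hom (p₂.appLE_map inf_le_right (homOfLE (T'.basicOpen_le g)).op).symm)
  haveI := hZ.isLocalization_basicOpen g
  obtain ⟨c, hc', hcI, hct⟩ := hloc Γ(T', T'.basicOpen g)
  refine ⟨D, hzg, c, hc', ?_, ?_⟩
  · rw [H29Blow.ideal_comap L p₁ ⟨W, hW⟩ D hDW]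
    exact hcI
  · rw [H29Blow.ideal_comap (J.comap b) p₂ A D hDA, hIA, Ideal.map_span, Set.image_singleton,
      Ideal.span_singleton_le_span_singleton]
    exact hct

/-- A centre on the base controlling a centre upstairs everywhere. -/
theorem exists_centre_descended {S T : Scheme.{u}} [CompactSpace S] [QuasiSeparatedSpace S] (U : S.Opens)
    (hU : IsCompact (U : Set S)) (e : T ⟶ S) [Etale e] [QuasiCompact e] (L : T.IdealSheafData)
    (hL : BlowUp.IsAdmissibleFor (e ⁻¹ᵁ U) L) :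
    ∃ J : S.IdealSheafData, BlowUp.IsAdmissibleFor U J ∧ ∀ K : S.IdealSheafData, Controls e L (J * K) Set.univ := by
  classical
  haveI : CompactSpace T := QuasiCompact.compactSpace_of_compactSpace e
  have hchart : ∀ z : T, ∃ (V : S.Opens) (_ : IsAffineOpen V) (W : T.Opens) (_ : IsAffineOpen W) (hWV : W ≤ e ⁻¹ᵁ V),
      z ∈ W ∧ (letI := (e.appLE V W hWV).hom.toAlgebra; Algebra.IsStandardEtale Γ(S, V) Γ(T, W)) := by
    intro z
    obtain ⟨V, hV, hzV, -⟩ := exists_isAffineOpen_mem_and_subset (U := (⊤ : S.Opens)) (x := e z) trivial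
    obtain ⟨W, hW, hzW, hWV, hst⟩ := (S9722.result e z V hV hzV).mp ⟨⊤, trivial, inferInstance⟩
    exact ⟨V, hV, W, hW, hWV, hzW, hst⟩
  choose V hV W hW hWV hzW hst using hchart
  obtain ⟨F, hF⟩ := CompactSpace.elim_nhds_subcover (fun z => (W z : Set T)) (fun z => (W z).2.mem_nhds (hzW z))
  choose J hJ hctl using fun z => exists_chart_descended U hU e L hL (hV z) (hW z) (hWV z) (hst z)
  refine ⟨∏ z ∈ F, J z, ⟨H11Strict.isFiniteTypeIdeal_prod _ _ fun z => (hJ z).1,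
    H11Strict.disjoint_support_prod _ _ _ fun z => (hJ z).2⟩, fun K B b hB T' p₁ p₂ hc z _ => ?_⟩
  obtain ⟨i, hi, hzi⟩ := Set.mem_iUnion₂.mp (hF.ge (Set.mem_univ (p₁ z)))
  rw [← Finset.mul_prod_erase _ _ hi, mul_assoc, H29Blow.comap_mul] at hB
  obtain ⟨D, hzD, c, hc', hcI, hle⟩ :=
    hctl i B b (H29Blow.isEffCartierIdeal_left_of_mul hB) T' p₁ p₂ hc z hzi
  refine ⟨D, hzD, c, hc', hcI, le_trans ?_ hle⟩
  rw [← Finset.mul_prod_erase _ _ hi, mul_assoc, H29Blow.comap_mul, H29Blow.comap_mul,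
    Scheme.IdealSheafData.ideal_mul, Pi.mul_apply]
  exact Ideal.mul_le_left

end Groth.Agent.H7Flat.Flatten
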