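import Groth.Agent.H7Flat.Flatten.Compose
import Groth.Agent.H7Flat.Flatten.Descend
import Groth.Agent.H7Flat.ImpurityRebase
import Mathlib

/-!
# Flattening blow-ups from etale covers
-/

set_option autoImplicit false
set_option linter.style.haveILetI false
set_option backward.isDefEq.respectTransparency false
set_option maxHeartbeats 1000000

universe u

open TensorProduct

namespace Groth.Agent.H7Flat.Flatten

attribute [local instance] Algebra.TensorProduct.rightAlgebra

theorem GoodAt.of_dvd {R S N A : Type u} [CommRing R] [CommRing S] [Algebra R S] [AddCommGroup N] [Module S N]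
    [CommRing A] [Algebra R A] {t c : A} (ht : t ∈ nonZeroDivisors A) (hct : c ∣ t)
    (h : GoodAt R S N A c) : GoodAt R S N A t := by
  intro B M _ _ _ _ _ _ _ _ _ _ _ _ _ φ hφ
  exact tfGood_of_dvd ht hct (h B M φ hφ)

/-- Flattening centres base change. -/
theorem Flattening.baseChange {R S N : Type u} [CommRing R] [CommRing S] [Algebra R S] [AddCommGroup N]
    [Module S N] {I : Ideal R} (h : Flattening R S N I) (R' S' N' : Type u) [CommRing R'] [CommRing S']
    [Algebra R R'] [Algebra R' S'] [Algebra R S'] [Algebra S S'] [IsScalarTower R R' S'] [IsScalarTower R S S']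
    [Algebra.IsPushout R R' S S'] [AddCommGroup N'] [Module S' N'] [Module S N'] [IsScalarTower S S' N']
    (φ : N →ₗ[S] N') (hφ : IsBaseChange S' φ) : Flattening R' S' N' (I.map (algebraMap R R')) := by
  intro A _ _ t ht hI B M _ _ _ _ _ _ _ _ _ _ _ _ _ ψ hψ
  letI : Algebra R A := ((algebraMap R' A).comp (algebraMap R R')).toAlgebra
  haveI : IsScalarTower R R' A := IsScalarTower.of_algebraMap_eq fun _ => rfl
  letI : Algebra R B := ((algebraMap R' B).comp (algebraMap R R')).toAlgebra
  haveI : IsScalarTower R R' B := IsScalarTower.of_algebraMap_eq fun _ => rfl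
  haveI : IsScalarTower R A B := IsScalarTower.of_algebraMap_eq fun r => by
    rw [IsScalarTower.algebraMap_apply R R' A, ← IsScalarTower.algebraMap_apply R' A B,
      ← IsScalarTower.algebraMap_apply R R' B]
  letI : Algebra S B := ((algebraMap S' B).comp (algebraMap S S')).toAlgebra
  haveI : IsScalarTower S S' B := IsScalarTower.of_algebraMap_eq fun _ => rfl
  haveI : IsScalarTower R S B := IsScalarTower.of_algebraMap_eq fun r => by
    show algebraMap R' B (algebraMap R R' r) = algebraMap S' B (algebraMap S S' (algebraMap R S r))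
    rw [← IsScalarTower.algebraMap_apply R S S', IsScalarTower.algebraMap_apply R R' S',
      ← IsScalarTower.algebraMap_apply R' S' B]
  haveI : IsScalarTower R S' B := IsScalarTower.of_algebraMap_eq fun r => by
    rw [IsScalarTower.algebraMap_apply R R' B, IsScalarTower.algebraMap_apply R R' S',
      ← IsScalarTower.algebraMap_apply R' S' B]
  haveI : Algebra.IsPushout R A S B :=
    (Algebra.IsPushout.comp_iff (R := R) (S := R') (R' := S) (S' := S') (T := A) (T' := B)).mpr ‹_›
  letI : Module S M := Module.compHom M (algebraMap S B)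
  haveI : IsScalarTower S B M := .of_algebraMap_smul fun _ _ => rfl
  haveI : IsScalarTower S S' M := .of_algebraMap_smul fun s x => by
    rw [← algebraMap_smul B (algebraMap S S' s), ← IsScalarTower.algebraMap_apply, algebraMap_smul]
  refine h A t ht ?_ B M (ψ.restrictScalars S ∘ₗ φ) (hφ.comp hψ)
  rw [IsScalarTower.algebraMap_eq R R' A, ← Ideal.map_map, hI]

/-- Models for a member of a cover. -/
theorem exists_member_model {R S A B : Type u} [CommRing R] [CommRing S] [Algebra R S] [CommRing A] [Algebra R A]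
    [CommRing B] [Algebra A B] [Algebra R B] [Algebra S B] [IsScalarTower R A B] [IsScalarTower R S B]
    [Algebra.IsPushout R A S B] {N M : Type u} [AddCommGroup N] [Module S N] [AddCommGroup M] [Module B M]
    [Module S M] [IsScalarTower S B M] [Module A M] [IsScalarTower A B M] (φ : N →ₗ[S] M) (hφ : IsBaseChange B φ)
    (R' S' N' : Type u) [CommRing R'] [CommRing S'] [Algebra R R'] [Algebra R' S'] [Algebra R S'] [Algebra S S']
    [IsScalarTower R R' S'] [IsScalarTower R S S'] [Module.Flat S S'] [Module.Flat R R']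
    [AddCommGroup N'] [Module S' N'] [Module S N'] [IsScalarTower S S' N'] (φ' : N →ₗ[S] N')
    (hφ' : IsBaseChange S' φ') :
    ∃ (A' B' M' : Type u) (_ : CommRing A') (_ : CommRing B') (_ : Algebra A A') (_ : Algebra R' A')
      (_ : Algebra R A') (_ : IsScalarTower R A A') (_ : IsScalarTower R R' A')
      (_ : Algebra.IsPushout R A R' A') (_ : Algebra A' B') (_ : Algebra R' B') (_ : Algebra S' B')
      (_ : IsScalarTower R' A' B') (_ : IsScalarTower R' S' B') (_ : Algebra.IsPushout R' A' S' B')
      (_ : Algebra A B') (_ : IsScalarTower A A' B') (_ : Algebra B B') (_ : IsScalarTower A B B')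
      (_ : AddCommGroup M') (_ : Module B' M') (_ : Module S' M') (_ : IsScalarTower S' B' M') (_ : Module A' M')
      (_ : IsScalarTower A' B' M') (_ : Module A M') (_ : IsScalarTower A B' M') (_ : Module B M')
      (_ : IsScalarTower B B' M') (χ : N' →ₗ[S'] M') (ψ : M →ₗ[B] M'),
      IsBaseChange B' χ ∧ IsBaseChange B' ψ ∧ Module.Flat A A' ∧ Module.Flat B B' ∧
      ∀ P : PrimeSpectrum B, (∃ P₁ : PrimeSpectrum S', PrimeSpectrum.comap (algebraMap S S') P₁ =
          PrimeSpectrum.comap (algebraMap S B) P) →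
        ∃ P' : PrimeSpectrum B', PrimeSpectrum.comap (algebraMap B B') P' = P := by
  let A' := A ⊗[R] R'
  let B' := B ⊗[S] S'
  letI iRB : Algebra R' B' := ((algebraMap S' B').comp (algebraMap R' S')).toAlgebra
  haveI tRSB : IsScalarTower R' S' B' := IsScalarTower.of_algebraMap_eq fun _ => rfl
  haveI : IsScalarTower R B B' := inferInstance
  haveI : IsScalarTower R R' B' := IsScalarTower.of_algebraMap_eq fun r => by
    rw [IsScalarTower.algebraMap_apply R' S' B', ← IsScalarTower.algebraMap_apply R R' S',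
      IsScalarTower.algebraMap_apply R S S', ← IsScalarTower.algebraMap_apply S S' B',
      IsScalarTower.algebraMap_apply R B B', IsScalarTower.algebraMap_apply R S B,
      ← IsScalarTower.algebraMap_apply S B B']
  let θ : A' →ₐ[R] B' := Algebra.TensorProduct.lift
    ((IsScalarTower.toAlgHom R B B').comp (IsScalarTower.toAlgHom R A B))
    (IsScalarTower.toAlgHom R R' B') fun _ _ => .all _ _
  letI iAB : Algebra A' B' := θ.toRingHom.toAlgebra
  haveI : IsScalarTower A A' B' := IsScalarTower.of_algebraMap_eq fun a => by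
    show _ = θ (a ⊗ₜ[R] (1 : R'))
    rw [Algebra.TensorProduct.lift_tmul, map_one, mul_one]
    rfl
  haveI tRAB : IsScalarTower R' A' B' := IsScalarTower.of_algebraMap_eq fun a => by
    show _ = θ ((1 : A) ⊗ₜ[R] a)
    rw [Algebra.TensorProduct.lift_tmul, map_one, one_mul]
    rfl
  haveI : IsScalarTower R A B' := inferInstance
  haveI : IsScalarTower R S' B' := IsScalarTower.of_algebraMap_eq fun r => by
    rw [IsScalarTower.algebraMap_apply R R' B', IsScalarTower.algebraMap_apply R' S' B',
      ← IsScalarTower.algebraMap_apply R R' S']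
  haveI hBB : Algebra.IsPushout S B S' B' := inferInstance
  haveI hAS : Algebra.IsPushout R A S' B' :=
    haveI h1 : Algebra.IsPushout R S A B := Algebra.IsPushout.symm ‹_›
    haveI h2 : Algebra.IsPushout S S' B B' := hBB.symm
    ((Algebra.IsPushout.comp_iff (R := R) (S := S) (R' := A) (S' := B) (T := S') (T' := B')).mpr h2).symm
  haveI hA' : Algebra.IsPushout R A R' A' := inferInstance
  haveI hAB : Algebra.IsPushout R' A' S' B' :=
    haveI h1 : Algebra.IsPushout R R' A A' := hA'.symm
    ((Algebra.IsPushout.comp_iff (R := R) (S := R') (R' := A) (S' := A') (T := S') (T' := B')).mp hAS.symm).symm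
  have hBflat : Module.Flat B B' := inferInstance
  have hAflat : Module.Flat A A' := inferInstance
  let M' := B' ⊗[B] M
  letI mS' : Module S' M' := Module.compHom M' (algebraMap S' B')
  haveI tS' : IsScalarTower S' B' M' := .of_algebraMap_smul fun _ _ => rfl
  letI mA' : Module A' M' := Module.compHom M' (algebraMap A' B')
  haveI tA' : IsScalarTower A' B' M' := .of_algebraMap_smul fun _ _ => rfl
  haveI : IsScalarTower S B' M' := inferInstance
  haveI : IsScalarTower S B M' := .of_algebraMap_smul fun s x => by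
    rw [← algebraMap_smul B' (algebraMap S B s), ← IsScalarTower.algebraMap_apply, algebraMap_smul]
  haveI : IsScalarTower S S' M' := .of_algebraMap_smul fun s x => by
    rw [← algebraMap_smul B' (algebraMap S S' s), ← IsScalarTower.algebraMap_apply, algebraMap_smul]
  let ψ : M →ₗ[B] M' := TensorProduct.mk B B' M 1
  have hψ : IsBaseChange B' ψ := TensorProduct.isBaseChange B M B'
  let χ : N' →ₗ[S'] M' := hφ'.lift (ψ.restrictScalars S ∘ₗ φ)
  have hχ : IsBaseChange B' χ := IsBaseChange.of_comp hφ' (by
    rw [show (χ.restrictScalars S).comp φ' = ψ.restrictScalars S ∘ₗ φ from hφ'.lift_comp _]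
    exact hφ.comp hψ)
  refine ⟨A', B', M', inferInstance, inferInstance, inferInstance, inferInstance, inferInstance, inferInstance,
    inferInstance, hA', iAB, iRB, inferInstance, tRAB, tRSB, hAB, inferInstance, inferInstance, inferInstance,
    inferInstance, inferInstance, inferInstance, mS', tS', mA', tA', inferInstance, inferInstance, inferInstance,
    inferInstance, χ, ψ, hχ, hψ, hAflat, hBflat, ?_⟩
  rintro P ⟨P₁, hP₁⟩
  haveI : P.asIdeal.LiesOver (P.asIdeal.comap (algebraMap S B)) := ⟨rfl⟩
  haveI : P₁.asIdeal.LiesOver (P.asIdeal.comap (algebraMap S B)) :=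
    ⟨(congrArg PrimeSpectrum.asIdeal hP₁).symm⟩
  obtain ⟨Q, hQ, h₁, -⟩ := ImpurityRebase.exists_prime_over_pair (S := B) (T := S')
    (P.asIdeal.comap (algebraMap S B)) P.asIdeal P₁.asIdeal
  exact ⟨⟨Q, hQ⟩, PrimeSpectrum.ext h₁⟩

/-- Flattening centres on the members of a standard etale cover give one on the base. -/
theorem exists_flattening_of_cover {R S N : Type u} [CommRing R] [CommRing S] [Algebra R S] [AddCommGroup N]
    [Module S N] [Module.Finite S N] (J : Ideal R) (hJ : J.FG) {ι : Type} [Finite ι]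
    (Ri Si Ni : ι → Type u) [∀ i, CommRing (Ri i)] [∀ i, CommRing (Si i)] [∀ i, Algebra R (Ri i)]
    [∀ i, Algebra.IsStandardEtale R (Ri i)]
    [∀ i, Algebra (Ri i) (Si i)] [∀ i, Algebra R (Si i)] [∀ i, Algebra S (Si i)]
    [∀ i, IsScalarTower R (Ri i) (Si i)] [∀ i, IsScalarTower R S (Si i)] [∀ i, Module.Flat S (Si i)]
    (hcov : ∀ P : PrimeSpectrum S, ∃ (i : ι) (P' : PrimeSpectrum (Si i)),
      PrimeSpectrum.comap (algebraMap S (Si i)) P' = P)
    [∀ i, AddCommGroup (Ni i)] [∀ i, Module (Si i) (Ni i)] [∀ i, Module S (Ni i)]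
    [∀ i, IsScalarTower S (Si i) (Ni i)] (φi : ∀ i, N →ₗ[S] Ni i) (hφi : ∀ i, IsBaseChange (Si i) (φi i))
    (Ii : ∀ i, Ideal (Ri i)) (hIi : ∀ i, Adm (J.map (algebraMap R (Ri i))) (Ii i))
    (hfl : ∀ i, Flattening (Ri i) (Si i) (Ni i) (Ii i)) :
    ∃ I : Ideal R, Adm J I ∧ Flattening R S N I := by
  classical
  cases nonempty_fintype ι
  choose I hIadm hI using fun i => exists_descended_ideal J hJ (Ii i) (hIi i)
  refine ⟨∏ i, I i, Adm.prod _ _ fun i _ => hIadm i, ?_⟩
  intro A _ _ t ht hprod B M _ _ _ _ _ _ _ _ _ _ _ _ _ φ hφ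
  haveI : Module.Finite B M := Module.Finite.equiv hφ.equiv
  have hflat : ∀ i, Module.Flat R (Ri i) := fun i => inferInstance
  choose Ai Bi Mi iA iB iAA iRA iRA' tA tRA hpA iAB iRB iSB tRAB tRSB hpB iAB' tAB iBB tABB iM iBM iSM tSBM iAM tABM
    iAM' tABM' iBM' tBBM χ ψ hχ hψ hAf hBf hP using
    fun i => exists_member_model (R := R) (S := S) (A := A) (B := B) (N := N) (M := M) φ hφ (Ri i) (Si i) (Ni i) (φi i) (hφi i)
  refine tfGood_of_cover Bi Mi (fun P => ?_) ψ hψ t fun i => ?_
  · obtain ⟨i, P₁, hP₁⟩ := hcov (PrimeSpectrum.comap (algebraMap S B) P)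
    exact ⟨i, hP i P ⟨P₁, hP₁⟩⟩
  · haveI := hAf i
    haveI : Module.Finite (Si i) (Ni i) := Module.Finite.equiv (hφi i).equiv
    refine tfGood_restrict (A' := Ai i) t ?_
    suffices hgood : GoodAt (Ri i) (Si i) (Ni i) (Ai i) (algebraMap A (Ai i) t) from hgood (Bi i) (Mi i) (χ i) (hχ i)
    have hmul : (I i).map (algebraMap R A) * (∏ j ∈ Finset.univ.erase i, I j).map (algebraMap R A) =
        Ideal.span {t} := by
      rw [← Ideal.map_mul, Finset.mul_prod_erase _ _ (Finset.mem_univ i), hprod]
    have htA : algebraMap A (Ai i) t ∈ nonZeroDivisors (Ai i) := mem_nonZeroDivisors_iff_right.mpr fun z hz =>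
      smul_eq_zero_of_flat ht (by rw [Algebra.smul_def, mul_comm, hz])
    refine goodAt_of_local _ fun Q _ => ?_
    obtain ⟨g, hg, x, -, y, -, hxy⟩ := exists_principal_factors (Ideal.span_eq _).symm (Ideal.span_eq _).symm
      ht hmul (Q.comap (algebraMap A (Ai i)))
    refine ⟨algebraMap A (Ai i) g, hg, fun L _ _ _ _ _ => ?_⟩
    let LA := Localization.Away g
    obtain ⟨hxn, hxI, -, -, v, -, hv⟩ := hxy LA
    letI : Algebra A L := ((algebraMap (Ai i) L).comp (algebraMap A (Ai i))).toAlgebra
    haveI : IsScalarTower A (Ai i) L := IsScalarTower.of_algebraMap_eq fun _ => rfl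
    let j : LA →ₐ[A] L := IsLocalization.Away.liftAlgHom g (f := Algebra.ofId A L)
      (IsLocalization.Away.algebraMap_isUnit (algebraMap A (Ai i) g))
    letI : Algebra LA L := j.toRingHom.toAlgebra
    haveI : IsScalarTower A LA L := IsScalarTower.of_algebraMap_eq fun a => (j.commutes a).symm
    haveI : IsLocalization (Algebra.algebraMapSubmonoid (Ai i) (Submonoid.powers g)) L := by
      rw [Algebra.algebraMapSubmonoid, Submonoid.map_powers]
      infer_instance
    haveI hp1 : Algebra.IsPushout A LA (Ai i) L :=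
      ((Algebra.isLocalization_iff_isPushout (R := A) (T := Ai i) (Submonoid.powers g) LA (B := L)).mp
        inferInstance).symm
    letI : Algebra R L := ((algebraMap (Ai i) L).comp (algebraMap R (Ai i))).toAlgebra
    haveI : IsScalarTower R (Ai i) L := IsScalarTower.of_algebraMap_eq fun _ => rfl
    haveI : IsScalarTower R LA L := IsScalarTower.of_algebraMap_eq fun r => by
      rw [IsScalarTower.algebraMap_apply R A LA, ← IsScalarTower.algebraMap_apply A LA L,
        IsScalarTower.algebraMap_apply A (Ai i) L, ← IsScalarTower.algebraMap_apply R A (Ai i),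
        ← IsScalarTower.algebraMap_apply R (Ai i) L]
    haveI : IsScalarTower R (Ri i) L := IsScalarTower.of_algebraMap_eq fun r => by
      rw [IsScalarTower.algebraMap_apply R (Ai i) L, IsScalarTower.algebraMap_apply R (Ri i) (Ai i),
        ← IsScalarTower.algebraMap_apply (Ri i) (Ai i) L]
    haveI : Algebra.IsPushout R LA (Ri i) L :=
      haveI := hpA i
      (Algebra.IsPushout.comp_iff (R := R) (S := A) (R' := Ri i) (S' := Ai i) (T := LA) (T' := L)).mpr hp1
    have hIL : (I i).map (algebraMap R LA) = Ideal.span {algebraMap A LA x} := by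
      rw [IsScalarTower.algebraMap_eq R A LA, ← Ideal.map_map, hxI]
    have htL := nzd_localization (Submonoid.powers (algebraMap A (Ai i) g)) L htA
    refine goodAt_of_local _ fun Q₂ _ => ?_
    obtain ⟨g₂, hg₂, hL₂⟩ := hI i LA (algebraMap A LA x) hxn hIL L Q₂
    refine ⟨g₂, hg₂, fun L₂ _ _ _ _ _ => ?_⟩
    letI : Algebra LA L₂ := ((algebraMap L L₂).comp (algebraMap LA L)).toAlgebra
    haveI : IsScalarTower LA L L₂ := IsScalarTower.of_algebraMap_eq fun _ => rfl
    obtain ⟨c, hc, hcI, hct⟩ := hL₂ L₂
    refine GoodAt.of_dvd (nzd_localization (Submonoid.powers g₂) L₂ htL) (hct.trans ?_) (hfl i L₂ c hc hcI)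
    rw [IsScalarTower.algebraMap_apply LA L L₂]
    refine map_dvd _ ?_
    rw [← IsScalarTower.algebraMap_apply A (Ai i) L, IsScalarTower.algebraMap_apply A LA L, hv, mul_assoc]
    exact map_dvd _ (dvd_mul_right _ _)

end Groth.Agent.H7Flat.Flatten
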