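import Groth.Agent.H7Flat.Flatten.StrictExists
import Groth.Agent.H7Flat.Flatten.Basic
import Groth.Agent.H8Props.FunDescent.Stalk
import Groth.Agent.H06Mod.StalkBaseChange
import Groth.Agent.H06EGA11c.InjStage
import Mathlib

/-!
# Strict transforms on stalks
-/

set_option autoImplicit false
set_option linter.style.haveILetI false
set_option backward.isDefEq.respectTransparency false
set_option maxHeartbeats 1000000

universe u

open AlgebraicGeometry CategoryTheory Limits TopologicalSpace Opposite TensorProduct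

namespace Groth.Agent.H7Flat.Flatten

open H06Mod

attribute [local instance] stalkAlgebra

theorem res_res {X : Scheme.{u}} (M : X.Modules) {U O V : X.Opens} (i : O ⟶ U) (h₁ : V ≤ O) (h₂ : V ≤ U) (s : Γ(M, U)) :
    M.presheaf.map (homOfLE h₁).op (M.presheaf.map i.op s) = M.presheaf.map (homOfLE h₂).op s := by
  rw [← ConcreteCategory.comp_apply, ← Functor.map_comp]
  rfl

/-- The strict transform map on stalks: the kernel is the torsion of a generator of the exceptional ideal. -/
theorem stalk_strict_iff {X : Scheme.{u}} {E : X.IdealSheafData} {M G : X.Modules} (π : M ⟶ G)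
    (hπ : ∀ (V : X.affineOpens) (m : Γ(M, V.1)), π.app V.1 m = 0 ↔ BlowUp.KilledByPowerNear E M V m)
    (W : X.affineOpens) (f : Γ(X, W.1)) (hf : E.ideal W = Ideal.span {f}) (x : X) (hx : x ∈ W.1)
    (m : M.presheaf.stalk x) :
    stalkLin π x m = 0 ↔ ∃ n : ℕ, (X.presheaf.germ W.1 x hx f) ^ n • m = 0 := by
  obtain ⟨U, hU, s, rfl⟩ := M.presheaf.exists_germ_eq m
  constructor
  · intro h
    rw [stalkLin_germ] at h
    obtain ⟨O, hxO, i, j, hij⟩ := G.presheaf.germ_eq x hU hU (π.app U s) 0 (h.trans (map_zero _).symm)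
    rw [map_zero] at hij
    obtain ⟨V, hV, hxV, hVle⟩ := exists_isAffineOpen_mem_and_subset (U := O ⊓ W.1) (x := x) ⟨hxO, hx⟩
    have hVO : V ≤ O := fun _ hz => (hVle hz).1
    have hVW : V ≤ W.1 := fun _ hz => (hVle hz).2
    have h0 : π.app V (M.presheaf.map (homOfLE hVO).op (M.presheaf.map i.op s)) = 0 := by
      rw [H11Tilde.app_map_apply π hVO, show π.app O (M.presheaf.map i.op s) = G.presheaf.map i.op (π.app U s)
        from H11Tilde.app_map_apply π (leOfHom i) s, hij, map_zero]
    obtain ⟨n, hn⟩ := (hπ ⟨V, hV⟩ _).mp h0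
    refine ⟨n, ?_⟩
    have h1 := congrArg (M.presheaf.germ V x hxV) (hn ((X.presheaf.map (homOfLE hVW).op).hom (f ^ n)) (by
      rw [← show ((E ^ n).ideal W).map (X.presheaf.map (homOfLE hVW).op).hom = (E ^ n).ideal ⟨V, hV⟩ from
        (E ^ n).map_ideal' (U := ⟨V, hV⟩) (V := W) _]
      refine Ideal.mem_map_of_mem _ ?_
      rw [Scheme.IdealSheafData.ideal_pow, Pi.pow_apply, hf]
      exact Ideal.pow_mem_pow (Ideal.mem_span_singleton_self _) n))
    rw [H06Mod.germ_smul, map_zero, TopCat.Presheaf.germ_res_apply, TopCat.Presheaf.germ_res_apply,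
      TopCat.Presheaf.germ_res_apply, map_pow] at h1
    exact h1
  · rintro ⟨n, hn⟩
    obtain ⟨V₀, hV₀, hxV₀, hV₀le⟩ := exists_isAffineOpen_mem_and_subset (U := U ⊓ W.1) (x := x) ⟨hU, hx⟩
    have hVU : V₀ ≤ U := fun _ hz => (hV₀le hz).1
    have hVW : V₀ ≤ W.1 := fun _ hz => (hV₀le hz).2
    let a := (X.presheaf.map (homOfLE hVW).op).hom f
    let s₀ := M.presheaf.map (homOfLE hVU).op s
    have hg : M.presheaf.germ V₀ x hxV₀ (a ^ n • s₀) = M.presheaf.germ V₀ x hxV₀ 0 := by
      rw [H06Mod.germ_smul, map_zero, map_pow, TopCat.Presheaf.germ_res_apply,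
        TopCat.Presheaf.germ_res_apply]
      exact hn
    obtain ⟨O, hxO, i, j, hij⟩ := M.presheaf.germ_eq x hxV₀ hxV₀ _ _ hg
    rw [map_zero] at hij
    obtain ⟨V, hV, hxV, hVO⟩ := exists_isAffineOpen_mem_and_subset (U := O) (x := x) hxO
    have hVV₀ : V ≤ V₀ := fun _ hz => leOfHom i (hVO hz)
    have h0 : π.app V (M.presheaf.map (homOfLE hVV₀).op s₀) = 0 := by
      refine (hπ ⟨V, hV⟩ _).mpr ⟨n, fun b hb => ?_⟩
      rw [← show ((E ^ n).ideal W).map (X.presheaf.map (homOfLE (hVV₀.trans hVW)).op).hom = (E ^ n).ideal ⟨V, hV⟩ from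
        (E ^ n).map_ideal' (U := ⟨V, hV⟩) (V := W) _, Scheme.IdealSheafData.ideal_pow, Pi.pow_apply, hf,
        Ideal.span_singleton_pow, Ideal.map_span, Set.image_singleton, Ideal.mem_span_singleton'] at hb
      obtain ⟨c, rfl⟩ := hb
      have h' := congrArg (M.presheaf.map (homOfLE hVO).op) hij
      replace h' := (res_res M i hVO hVV₀ (a ^ n • s₀)).symm.trans (h'.trans (map_zero _))
      rw [Scheme.Modules.map_smul] at h'
      have he : (X.presheaf.map (homOfLE hVV₀).op) (a ^ n) =
          (X.presheaf.map (homOfLE (hVV₀.trans hVW)).op).hom (f ^ n) := by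
        show (X.presheaf.map _).hom (((X.presheaf.map (homOfLE hVW).op).hom f) ^ n) = _
        rw [← map_pow, ← CategoryTheory.comp_apply, ← Functor.map_comp]
        rfl
      rw [he] at h'
      rw [mul_smul, h', smul_zero]
    have h1 := congrArg (G.presheaf.germ V x hxV) h0
    rw [map_zero, ← stalkLin_germ, TopCat.Presheaf.germ_res_apply, TopCat.Presheaf.germ_res_apply] at h1
    exact h1

/-- Surjectivity on stalks of a pullback, and its kernel. -/
theorem stalk_pull_ker {Y X : Scheme.{u}} (σ : Y ⟶ X) {M G : X.Modules} (π : M ⟶ G) (y : Y)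
    (τ : X.presheaf.stalk (σ y)) (hsurj : Function.Surjective (stalkLin π (σ y)))
    (hker : ∀ m, stalkLin π (σ y) m = 0 → ∃ n : ℕ, τ ^ n • m = 0) :
    Function.Surjective (stalkLin ((Scheme.Modules.pullback σ).map π) y) ∧
      ∀ m, stalkLin ((Scheme.Modules.pullback σ).map π) y m = 0 → ∃ n : ℕ, (σ.stalkMap y).hom τ ^ n • m = 0 := by
  let L := (stalkLin π (σ y)).lTensor (Y.presheaf.stalk y)
  constructor
  · intro g
    obtain ⟨t, rfl⟩ := (pullStalkEquiv σ G y).surjective g
    obtain ⟨w, hw⟩ := LinearMap.lTensor_surjective (Y.presheaf.stalk y) hsurj t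
    exact ⟨pullStalkEquiv σ M y w, (H8Props.FunDescent.pullStalkEquiv_naturality σ π y w).trans (congrArg _ hw)⟩
  · intro m hm
    obtain ⟨t, rfl⟩ := (pullStalkEquiv σ M y).surjective m
    rw [H8Props.FunDescent.pullStalkEquiv_naturality, LinearEquiv.map_eq_zero_iff] at hm
    obtain ⟨w, hw⟩ := (lTensor_exact (Y.presheaf.stalk y)
      (LinearMap.exact_subtype_ker_map (stalkLin π (σ y))) hsurj t).mp hm
    rw [← hw]
    clear hw hm
    induction w using TensorProduct.induction_on with
    | zero => exact ⟨0, by simp⟩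
    | add a b ha hb =>
      obtain ⟨n₁, h₁⟩ := ha
      obtain ⟨n₂, h₂⟩ := hb
      refine ⟨n₁ + n₂, ?_⟩
      rw [map_add, map_add, smul_add, pow_add, mul_smul, mul_smul, h₂, smul_comm, h₁, smul_zero, smul_zero, add_zero]
    | tmul r k =>
      obtain ⟨n, hn⟩ := hker k.1 k.2
      refine ⟨n, ?_⟩
      rw [LinearMap.lTensor_tmul, Submodule.subtype_apply, ← map_smul, LinearEquiv.map_eq_zero_iff,
        ← map_pow, show (σ.stalkMap y).hom (τ ^ n) = algebraMap (X.presheaf.stalk (σ y)) (Y.presheaf.stalk y) (τ ^ n)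
          from rfl, algebraMap_smul, ← TensorProduct.tmul_smul, hn, TensorProduct.tmul_zero]

/-- Flat pullback preserves regularity on stalks. -/
theorem stalk_pull_regular {Y X : Scheme.{u}} (σ : Y ⟶ X) [Flat σ] (G : X.Modules) (y : Y)
    (τ : X.presheaf.stalk (σ y)) (hreg : ∀ g : G.presheaf.stalk (σ y), τ • g = 0 → g = 0)
    (g : ((Scheme.Modules.pullback σ).obj G).presheaf.stalk y) (h : (σ.stalkMap y).hom τ • g = 0) : g = 0 := by
  haveI := faithfullyFlat_stalk σ y
  obtain ⟨t, rfl⟩ := (pullStalkEquiv σ G y).surjective g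
  rw [← map_smul, LinearEquiv.map_eq_zero_iff,
    show (σ.stalkMap y).hom τ = algebraMap (X.presheaf.stalk (σ y)) (Y.presheaf.stalk y) τ from rfl,
    algebraMap_smul] at h
  have hinj : Function.Injective (τ • (LinearMap.id : G.presheaf.stalk (σ y) →ₗ[X.presheaf.stalk (σ y)] _)) :=
    (injective_iff_map_eq_zero _).mpr hreg
  have h' := Module.Flat.lTensor_preserves_injective_linearMap (M := Y.presheaf.stalk y) _ hinj
  rw [LinearMap.lTensor_smul, LinearMap.lTensor_id] at h'
  rw [h' (a₁ := t) (a₂ := 0) (h.trans (map_zero _).symm), map_zero]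

/-- Two quotients killing only torsion, one flat and one torsion free, agree. -/
theorem flat_of_two_quotients {A R N P Q : Type u} [CommRing A] [CommRing R] [Algebra A R]
    [AddCommGroup N] [Module R N] [AddCommGroup P] [Module R P] [AddCommGroup Q] [Module R Q]
    [Module A P] [IsScalarTower A R P] [Module A Q] [IsScalarTower A R Q] (t : A) (ht : t ∈ nonZeroDivisors A)
    (a : N →ₗ[R] P) (ha : Function.Surjective a) (b : N →ₗ[R] Q) (hb : Function.Surjective b)
    (hak : ∀ m, a m = 0 → ∃ n : ℕ, algebraMap A R t ^ n • m = 0)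
    (hbk : ∀ m, b m = 0 → ∃ n : ℕ, algebraMap A R t ^ n • m = 0)
    (hreg : ∀ p : P, algebraMap A R t • p = 0 → p = 0) [Module.Flat A Q] : Module.Flat A P := by
  have hregn : ∀ (n : ℕ) (p : P), algebraMap A R t ^ n • p = 0 → p = 0 := by
    intro n
    induction n with
    | zero => intro p hp; simpa using hp
    | succ n ih => intro p hp; rw [pow_succ, mul_smul] at hp; exact hreg p (ih _ hp)
  have hker : LinearMap.ker a = LinearMap.ker b := by
    ext m
    constructor
    · intro hm
      obtain ⟨n, hn⟩ := hak m hm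
      refine smul_eq_zero_of_flat (pow_mem ht n) ?_
      rw [← algebraMap_smul R, map_pow, ← map_smul, hn, map_zero]
    · intro hm
      obtain ⟨n, hn⟩ := hbk m hm
      refine hregn n _ ?_
      rw [← map_smul, hn, map_zero]
  let e : P ≃ₗ[R] Q := (a.quotKerEquivOfSurjective ha).symm ≪≫ₗ Submodule.quotEquivOfEq _ _ hker ≪≫ₗ
    b.quotKerEquivOfSurjective hb
  exact Module.Flat.of_linearEquiv (e.restrictScalars A)

/-- Flatness of a pullback of a torsion free quotient from a flat quotient. -/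
theorem isFlatOverAt_of_two_quotients {Y B : Scheme.{u}} (q : Y ⟶ B) (y : Y) {N P Q : Y.Modules}
    (a : N ⟶ P) (ha : Function.Surjective (stalkLin a y)) (b : N ⟶ Q) (hb : Function.Surjective (stalkLin b y))
    (t : B.presheaf.stalk (q y)) (ht : t ∈ nonZeroDivisors (B.presheaf.stalk (q y)))
    (hak : ∀ m, stalkLin a y m = 0 → ∃ n : ℕ, (q.stalkMap y).hom t ^ n • m = 0)
    (hbk : ∀ m, stalkLin b y m = 0 → ∃ n : ℕ, (q.stalkMap y).hom t ^ n • m = 0)
    (hreg : ∀ p : P.presheaf.stalk y, (q.stalkMap y).hom t • p = 0 → p = 0)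
    (hQ : FlatMod.IsFlatOverAt q Q y) : FlatMod.IsFlatOverAt q P y := by
  letI := fun M : Y.Modules => FlatMod.moduleStalkOver q M y
  haveI : ∀ M : Y.Modules, IsScalarTower (B.presheaf.stalk (q y)) (Y.presheaf.stalk y) (M.presheaf.stalk y) :=
    fun M => .of_algebraMap_smul fun _ _ => rfl
  haveI : Module.Flat (B.presheaf.stalk (q y)) (Q.presheaf.stalk y) := hQ
  exact flat_of_two_quotients t ht (stalkLin a y) ha (stalkLin b y) hb hak hbk hreg

end Groth.Agent.H7Flat.Flatten
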