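import Groth.Agent.H7Flat.Flatten.DescendCentre
import Groth.Agent.H7Flat.Flatten.StrictStalk
import Groth.Agent.H16Derived.BaseChange.RelFlatPull
import Groth.Agent.H29Mero.Affine
import Mathlib

/-!
# Flattening by blow-ups is étale local
-/

set_option autoImplicit false
set_option linter.style.haveILetI false
set_option backward.isDefEq.respectTransparency false
set_option maxHeartbeats 1000000

universe u

open AlgebraicGeometry CategoryTheory Limits TopologicalSpace Opposite TensorProduct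

namespace Groth.Agent.H7Flat.Flatten

open H06Mod

attribute [local instance] stalkAlgebra

/-- The image of a generator in a stalk, computed along two paths. -/
theorem stalkMap_germ_congr {Y X X' B : Scheme.{u}} (σ : Y ⟶ X) (p : X ⟶ B) (q : Y ⟶ X') (e : X' ⟶ B)
    (h : σ ≫ p = q ≫ e) (A : B.Opens) (y : Y) (h₁ : p (σ y) ∈ A) (h₂ : e (q y) ∈ A) (t : Γ(B, A)) :
    (σ.stalkMap y).hom ((p.stalkMap (σ y)).hom (B.presheaf.germ A _ h₁ t)) =
      (q.stalkMap y).hom ((e.stalkMap (q y)).hom (B.presheaf.germ A _ h₂ t)) := by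
  have key : ∀ (k : Y ⟶ B) (hk : k = σ ≫ p) (hm : k y ∈ A), (k.stalkMap y).hom (B.presheaf.germ A _ hm t) =
      (σ.stalkMap y).hom ((p.stalkMap (σ y)).hom (B.presheaf.germ A _ h₁ t)) := by
    rintro k rfl hm
    rw [Scheme.Hom.stalkMap_comp]
    rfl
  rw [← key (q ≫ e) h.symm h₂, Scheme.Hom.stalkMap_comp]
  rfl

/-- A generator on the base gives generators of the inverse image ideal on stalks. -/
theorem exists_generator_comap {X B : Scheme.{u}} (g : X ⟶ B) (E : B.IdealSheafData) (A : B.affineOpens)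
    (t : Γ(B, A.1)) (ht : E.ideal A = Ideal.span {t}) (x : X) (hx : g x ∈ A.1) :
    ∃ (W : X.affineOpens) (f : Γ(X, W.1)) (hxW : x ∈ W.1), (E.comap g).ideal W = Ideal.span {f} ∧
      X.presheaf.germ W.1 x hxW f = (g.stalkMap x).hom (B.presheaf.germ A.1 (g x) hx t) := by
  obtain ⟨W, hW, hxW, hWA⟩ := exists_isAffineOpen_mem_and_subset (U := g ⁻¹ᵁ A.1) (x := x) hx
  refine ⟨⟨W, hW⟩, g.appLE A.1 W hWA t, hxW, ?_, ?_⟩
  · rw [H29Blow.ideal_comap E g A ⟨W, hW⟩ hWA, ht, Ideal.map_span, Set.image_singleton]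
  · rw [Scheme.Hom.appLE, CategoryTheory.comp_apply, TopCat.Presheaf.germ_res_apply]
    exact (Scheme.Hom.germ_stalkMap_apply g A.1 x hx t).symm

/-- A nonzerodivisor stays one along a flat map. -/
theorem stalkMap_mem_nzd {X B : Scheme.{u}} (g : X ⟶ B) [Flat g] (x : X) (a : B.presheaf.stalk (g x))
    (ha : a ∈ nonZeroDivisors (B.presheaf.stalk (g x))) :
    (g.stalkMap x).hom a ∈ nonZeroDivisors (X.presheaf.stalk x) := by
  haveI : Module.Flat (B.presheaf.stalk (g x)) (X.presheaf.stalk x) := Flat.stalkMap g x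
  refine mem_nonZeroDivisors_iff_right.mpr fun z hz => smul_eq_zero_of_flat ha ?_
  rw [Algebra.smul_def, mul_comm]
  exact hz

/-- Pointwise descent of flatness of the strict transform. -/
theorem isFlatOverAt_strict_of_cover {Y X B B' : Scheme.{u}} (σ : Y ⟶ X) [Flat σ] (p : X ⟶ B) (q : Y ⟶ B')
    (e : B' ⟶ B) [Flat e] (hsq : σ ≫ p = q ≫ e) (EB : B.IdealSheafData) (hEB : BlowUp.IsEffCartierIdeal EB)
    {M G : X.Modules} (π : M ⟶ G) [Epi π]
    (hπ : ∀ (V : X.affineOpens) (m : Γ(M, V.1)), π.app V.1 m = 0 ↔ BlowUp.KilledByPowerNear (EB.comap p) M V m)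
    (y : Y) {Q : Y.Modules} (ψ : (Scheme.Modules.pullback σ).obj M ⟶ Q) (hψ : Function.Surjective (stalkLin ψ y))
    (hψk : ∀ (A : B.affineOpens) (t : Γ(B, A.1)) (h : e (q y) ∈ A.1), EB.ideal A = Ideal.span {t} →
      ∀ m, stalkLin ψ y m = 0 →
        ∃ n : ℕ, (q.stalkMap y).hom ((e.stalkMap (q y)).hom (B.presheaf.germ A.1 _ h t)) ^ n • m = 0)
    (hQ : FlatMod.IsFlatOverAt q Q y) : FlatMod.IsFlatOverAt p G (σ y) := by
  obtain ⟨A, hA, t, ht, hI⟩ := hEB (e (q y))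
  have hA₁ : p (σ y) ∈ A.1 := by rw [← Scheme.Hom.comp_apply, hsq]; exact hA
  obtain ⟨W, f, hW, hf, hfg⟩ := exists_generator_comap p EB A t hI (σ y) hA₁
  let τ := X.presheaf.germ W.1 (σ y) hW f
  have hiff := stalk_strict_iff π hπ W f hf (σ y) hW
  have hsurj : Function.Surjective (stalkLin π (σ y)) := surjective_stalk_of_epi π (σ y)
  obtain ⟨hPs, hPk⟩ := stalk_pull_ker σ π y τ hsurj fun m hm => (hiff m).mp hm
  have hreg : ∀ g : G.presheaf.stalk (σ y), τ • g = 0 → g = 0 := by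
    intro g hg
    obtain ⟨m, rfl⟩ := hsurj g
    rw [← map_smul] at hg
    obtain ⟨n, hn⟩ := (hiff _).mp hg
    exact (hiff m).mpr ⟨n + 1, by rw [pow_succ, mul_smul, hn]⟩
  let t' := (e.stalkMap (q y)).hom (B.presheaf.germ A.1 _ hA t)
  have ht' : t' ∈ nonZeroDivisors _ := stalkMap_mem_nzd e (q y) _ (H29Mero.germ_mem_nzd A.2 ht hA)
  have hT : (σ.stalkMap y).hom τ = (q.stalkMap y).hom t' := by
    rw [show τ = _ from hfg]
    exact stalkMap_germ_congr σ p q e hsq A.1 y hA₁ hA t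
  have hflat : FlatMod.IsFlatOverAt q ((Scheme.Modules.pullback σ).obj G) y :=
    isFlatOverAt_of_two_quotients q y ((Scheme.Modules.pullback σ).map π) hPs ψ hψ t' ht'
      (fun m hm => hT ▸ hPk m hm) (hψk A t hA hI)
      (fun g hg => stalk_pull_regular σ G y τ hreg g (hT.symm ▸ hg)) hQ
  rw [← isFlatOverAt_pullback_iff σ p G y, H06Mod.isFlatOverAt_congr hsq]
  exact isFlatOverAt_comp_of_flat q e _ y hflat

/-- Flattening by blow-ups is étale local. -/
theorem exists_flattening_of_etale_local {X S : Scheme.{u}} [CompactSpace S] [QuasiSeparatedSpace S]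
    (f : X ⟶ S) (F : X.Modules) (hqc : Coh.IsQCoh F) (U : S.Opens) (hU : IsCompact (U : Set S))
    {k : ℕ} (Si Xi : Fin k → Scheme.{u}) (e : ∀ i, Si i ⟶ S) (j : ∀ i, Xi i ⟶ X) (fi : ∀ i, Xi i ⟶ Si i)
    [∀ i, Etale (e i)] [∀ i, QuasiCompact (e i)] [∀ i, Etale (j i)]
    (hcovX : ∀ x : X, ∃ i y, (j i).base y = x)
    (hcomm : ∀ i, j i ≫ f = fi i ≫ e i)
    (𝓘 : ∀ i, (Si i).IdealSheafData) (Sst : Fin k → Scheme.{u}) (b : ∀ i, Sst i ⟶ Si i)
    (hb : ∀ i, BlowUp.IsBlowUp (b i) (𝓘 i) ∧ BlowUp.IsAdmissibleFor ((e i) ⁻¹ᵁ U) (𝓘 i))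
    (hflat : ∀ i (X' : Scheme.{u}) (p₁ : X' ⟶ Xi i) (p₂ : X' ⟶ Sst i), IsPullback p₁ p₂ (fi i) (b i) →
      ∀ (G : X'.Modules) (π : (Scheme.Modules.pullback p₁).obj ((Scheme.Modules.pullback (j i)).obj F) ⟶ G),
        BlowUp.IsStrictTransform p₁ ((𝓘 i).comap (fi i)) ((Scheme.Modules.pullback (j i)).obj F) G π → FlatMod.IsFlatOver p₂ G) :
    ∃ (𝓙 : S.IdealSheafData) (S' : Scheme.{u}) (b' : S' ⟶ S), BlowUp.IsBlowUp b' 𝓙 ∧ BlowUp.IsAdmissibleFor U 𝓙 ∧
      ∀ (X' : Scheme.{u}) (p₁ : X' ⟶ X) (p₂ : X' ⟶ S'), IsPullback p₁ p₂ f b' →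
      ∀ (G : X'.Modules) (π : (Scheme.Modules.pullback p₁).obj F ⟶ G),
        BlowUp.IsStrictTransform p₁ (𝓙.comap f) F G π → FlatMod.IsFlatOver p₂ G := by
  classical
  choose J hJ hctl using fun i => exists_centre_descended U hU (e i) (𝓘 i) (hb i).2
  let 𝓙 := ∏ i, J i
  obtain ⟨S', b', hb'⟩ := H26Blow.exists_isBlowUp 𝓙
  refine ⟨𝓙, S', b', hb', ⟨H11Strict.isFiniteTypeIdeal_prod _ _ fun i => (hJ i).1,
    H11Strict.disjoint_support_prod _ _ _ fun i => (hJ i).2⟩, fun X' p₁ p₂ hc G π hG x => ?_⟩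
  obtain ⟨i, z, hz⟩ := hcovX (p₁ x)
  have hJi : 𝓙 = J i * ∏ l ∈ Finset.univ.erase i, J l := (Finset.mul_prod_erase _ _ (Finset.mem_univ i)).symm
  let p := pullback.fst (e i) b'
  let e' := pullback.snd (e i) b'
  have hctl' : ∀ z : (pullback (e i) b' : Scheme.{u}), ∃ D : (pullback (e i) b').affineOpens, z ∈ D.1 ∧
      ∃ c : Γ(pullback (e i) b', D.1), c ∈ nonZeroDivisors Γ(pullback (e i) b', D.1) ∧ ((𝓘 i).comap p).ideal D = Ideal.span {c} ∧
        ((𝓙.comap b').comap e').ideal D ≤ Ideal.span {c} := fun z => by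
    rw [hJi]
    exact hctl i _ S' b' (by rw [← hJi]; exact hb'.1) _ p e' (IsPullback.of_hasPullback _ _) z trivial
  obtain ⟨lam, hlam, -⟩ := (hb i).1.2 _ p fun z => by
    obtain ⟨D, hzD, c, hc1, hc2, -⟩ := hctl' z
    exact ⟨D, hzD, c, hc1, hc2⟩
  -- the cover of the base change
  obtain ⟨y, hy₁, hy₂⟩ := Scheme.Pullback.exists_preimage_pullback z x hz
  let u := pullback.snd (j i) p₁
  let w := pullback.fst (j i) p₁
  have hv : (w ≫ fi i) ≫ e i = (u ≫ p₂) ≫ b' := by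
    rw [Category.assoc, ← hcomm, ← Category.assoc, show w ≫ j i = u ≫ p₁ from pullback.condition,
      Category.assoc, hc.w, Category.assoc]
  let v := pullback.lift (w ≫ fi i) (u ≫ p₂) hv
  let q₁ := pullback.fst (fi i) (b i)
  let q₂ := pullback.snd (fi i) (b i)
  let μ : pullback (j i) p₁ ⟶ pullback (fi i) (b i) := pullback.lift w (v ≫ lam)
    (by rw [Category.assoc, hlam]; exact (pullback.lift_fst _ _ _).symm)
  have hμv : IsPullback μ v q₂ lam := by
    -- both squares are cartesian over the base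
    have hbig : IsPullback w v (fi i) p := by
      refine IsPullback.of_bot ?_ (pullback.lift_fst _ _ _).symm (IsPullback.of_hasPullback (e i) b').flip.flip
      show IsPullback w (v ≫ e') (fi i ≫ e i) b'
      rw [show v ≫ e' = u ≫ p₂ from pullback.lift_snd _ _ _, ← hcomm]
      exact (IsPullback.of_hasPullback (j i) p₁).paste_vert hc
    refine IsPullback.of_right ?_ (pullback.lift_snd _ _ _) (IsPullback.of_hasPullback (fi i) (b i))
    rw [hlam]
    exact (show μ ≫ q₁ = w from pullback.lift_fst _ _ _).symm ▸ hbig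
  let N := (Scheme.Modules.pullback (j i)).obj F
  have hN : Coh.IsQCoh N := H29Fitt.isQCoh_pullback _ F hqc
  have hE₀ : HTop.IsLocPrincipal (BlowUp.exceptional q₁ ((𝓘 i).comap (fi i))) := by
    rw [BlowUp.exceptional, ← Scheme.IdealSheafData.comap_comp, pullback.condition,
      Scheme.IdealSheafData.comap_comp]
    exact H18HTop.isLocPrincipal_comap (H18HTop.isLocPrincipal_of_isEffCartierIdeal (hb i).1.1) q₂
  obtain ⟨G₀, π₀, hπ₀e, hπ₀⟩ := exists_strict_quotient hE₀ _ (H29Fitt.isQCoh_pullback q₁ N hN)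
  haveI := hπ₀e
  have hG₀ : FlatMod.IsFlatOver q₂ G₀ :=
    hflat i _ q₁ q₂ (IsPullback.of_hasPullback _ _) G₀ π₀ ⟨hπ₀e, hπ₀⟩
  let θ : (Scheme.Modules.pullback u).obj ((Scheme.Modules.pullback p₁).obj F) ≅
      (Scheme.Modules.pullback μ).obj ((Scheme.Modules.pullback q₁).obj N) :=
    (Scheme.Modules.pullbackComp u p₁).app F ≪≫
      (Scheme.Modules.pullbackCongr (show u ≫ p₁ = (μ ≫ q₁) ≫ j i by
        rw [show μ ≫ q₁ = w from pullback.lift_fst _ _ _]; exact pullback.condition.symm)).app F ≪≫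
      ((Scheme.Modules.pullbackComp (μ ≫ q₁) (j i)).app F).symm ≪≫
      ((Scheme.Modules.pullbackComp μ q₁).app N).symm
  haveI := hG.1
  rw [← hy₂]
  refine isFlatOverAt_strict_of_cover u p₂ v e' (pullback.lift_snd _ _ _).symm (𝓙.comap b') hb'.1 π ?_ y
    (θ.hom ≫ (Scheme.Modules.pullback μ).map π₀) ?_ ?_ (H16Derived.BaseChange.isFlatOver_pullback hμv hG₀ y)
  · rw [← Scheme.IdealSheafData.comap_comp, ← hc.w, Scheme.IdealSheafData.comap_comp]
    exact hG.2
  all_goals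
    obtain ⟨C, hC, c₀, hc₀, hI₀⟩ := (hb i).1.1 (q₂ (μ y))
    obtain ⟨W, g, hW, hg, hgg⟩ := exists_generator_comap q₂ _ C c₀ hI₀ (μ y) hC
    have hg' : (BlowUp.exceptional q₁ ((𝓘 i).comap (fi i))).ideal W = Ideal.span {g} := by
      rw [BlowUp.exceptional, ← Scheme.IdealSheafData.comap_comp, pullback.condition,
        Scheme.IdealSheafData.comap_comp]
      exact hg
    obtain ⟨hs₀, hk₀⟩ := stalk_pull_ker μ π₀ y _ (surjective_stalk_of_epi π₀ (μ y))
      fun m hm => (stalk_strict_iff π₀ hπ₀ W g hg' (μ y) hW m).mp hm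
  · intro a
    obtain ⟨m, hm⟩ := hs₀ a
    refine ⟨stalkLin θ.inv y m, ?_⟩
    rw [H06EGA11c.stalkLin_comp, ← H06EGA11c.stalkLin_comp θ.inv θ.hom, Iso.inv_hom_id, H06EGA11c.stalkLin_id]
    exact hm
  · intro A t hA hI m hm
    rw [H06EGA11c.stalkLin_comp] at hm
    obtain ⟨n, hn⟩ := hk₀ _ hm
    refine ⟨n, ?_⟩
    have hC' : lam (v y) ∈ C.1 := by
      rw [← Scheme.Hom.comp_apply, ← show μ ≫ q₂ = v ≫ lam from pullback.lift_snd _ _ _]
      exact hC
    have hcμ : (μ.stalkMap y).hom ((pullback (fi i) (b i)).presheaf.germ W.1 (μ y) hW g) =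
        (v.stalkMap y).hom ((lam.stalkMap (v y)).hom ((Sst i).presheaf.germ C.1 _ hC' c₀)) := by
      rw [hgg]
      exact stalkMap_germ_congr μ q₂ v lam (pullback.lift_snd _ _ _) C.1 y hC hC' c₀
    rw [hcμ] at hn
    -- compare the generators near the point
    obtain ⟨D₀, hzD₀, c, -, hcI, hcle⟩ := hctl' (v y)
    obtain ⟨O, hO, hyO, hOle⟩ := exists_isAffineOpen_mem_and_subset
      (U := D₀.1 ⊓ e' ⁻¹ᵁ A.1 ⊓ lam ⁻¹ᵁ C.1) (x := v y) ⟨⟨hzD₀, hA⟩, hC'⟩
    let D : (pullback (e i) b').affineOpens := ⟨O, hO⟩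
    have hDA : O ≤ e' ⁻¹ᵁ A.1 := fun _ hw => (hOle hw).1.2
    have hDC : O ≤ lam ⁻¹ᵁ C.1 := fun _ hw => (hOle hw).2
    have hD₀ : O ≤ D₀.1 := fun _ hw => (hOle hw).1.1
    have h1 : ((𝓘 i).comap p).ideal D = Ideal.span {lam.appLE C.1 O hDC c₀} := by
      rw [← hlam, Scheme.IdealSheafData.comap_comp, H29Blow.ideal_comap _ lam C D hDC, hI₀, Ideal.map_span,
        Set.image_singleton]
    have h2 : ((𝓙.comap b').comap e').ideal D = Ideal.span {e'.appLE A.1 O hDA t} := by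
      rw [H29Blow.ideal_comap _ e' A D hDA, hI, Ideal.map_span, Set.image_singleton]
    have h3 : ((𝓙.comap b').comap e').ideal D ≤ ((𝓘 i).comap p).ideal D := by
      rw [← ((𝓙.comap b').comap e').map_ideal (U := D) (V := D₀) hD₀,
        ← ((𝓘 i).comap p).map_ideal (U := D) (V := D₀) hD₀, hcI]
      exact Ideal.map_mono hcle
    rw [h1, h2, Ideal.span_singleton_le_span_singleton] at h3
    obtain ⟨d, hd⟩ := h3
    have h4 := congrArg ((pullback (e i) b').presheaf.germ O (v y) hyO) hd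
    rw [map_mul, Scheme.Hom.appLE, Scheme.Hom.appLE, CategoryTheory.comp_apply, CategoryTheory.comp_apply,
      TopCat.Presheaf.germ_res_apply, TopCat.Presheaf.germ_res_apply] at h4
    rw [Scheme.Hom.germ_stalkMap_apply, h4, ← Scheme.Hom.germ_stalkMap_apply lam C.1 (v y) hC', map_mul,
      mul_comm, mul_pow, mul_smul]
    have hinj : Function.Injective (stalkLin θ.hom y) := fun a a' haa => by
      have := congrArg (stalkLin θ.inv y) haa
      rwa [← H06EGA11c.stalkLin_comp, ← H06EGA11c.stalkLin_comp, Iso.hom_inv_id, H06EGA11c.stalkLin_id,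
        H06EGA11c.stalkLin_id] at this
    have h5 := hinj ((((stalkLin θ.hom y).map_smul _ m).trans hn).trans (map_zero _).symm)
    exact (congrArg (_ • ·) h5).trans (smul_zero _)

end Groth.Agent.H7Flat.Flatten
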