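import Groth.Agent.H7Flat.Flatten.Transfer
import Groth.Agent.H7Flat.FiberBasis
import Groth.Agent.H06Mod.StalkExact
import Mathlib

/-!
# Flattening an extension by a universally injective free module
-/

set_option autoImplicit false
set_option linter.style.haveILetI false
set_option backward.isDefEq.respectTransparency false
set_option maxHeartbeats 1000000

universe u

open TensorProduct

namespace Groth.Agent.H7Flat.Flatten

/-- A universally injective map stays injective modulo elements of an algebra. -/
theorem mem_smul_of_univInj {R A F G F' G' : Type u} [CommRing R] [CommRing A] [Algebra R A]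
    [AddCommGroup F] [Module R F] [AddCommGroup G] [Module R G]
    [AddCommGroup F'] [Module A F'] [Module R F'] [IsScalarTower R A F']
    [AddCommGroup G'] [Module A G'] [Module R G'] [IsScalarTower R A G']
    (f : F →ₗ[R] F') (hf : IsBaseChange A f) (g : G →ₗ[R] G') (hg : IsBaseChange A g)
    (u : F →ₗ[R] G) (hu : ∀ (Q : Type u) [AddCommGroup Q] [Module R Q], Function.Injective (u.lTensor Q))
    (u' : F' →ₗ[A] G') (hc : ∀ x, u' (f x) = g (u x)) :
    Function.Injective u' ∧ ∀ (c : A) (x : F') (z : G'), u' x = c • z → ∃ y : F', x = c • y := by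
  have hcomm : ∀ w, u' (hf.equiv w) = hg.equiv (u.baseChange A w) := by
    intro w
    induction w using TensorProduct.induction_on with
    | zero => simp
    | tmul a x => simp [hf.equiv_tmul, hg.equiv_tmul, hc]
    | add a b ha hb => simp only [map_add, ha, hb]
  refine ⟨(injective_iff_map_eq_zero _).mpr fun x hx => ?_, fun c x z hxz => ?_⟩
  · rw [← hf.equiv.apply_symm_apply x, hcomm, LinearEquiv.map_eq_zero_iff] at hx
    rw [← hf.equiv.apply_symm_apply x, (injective_iff_map_eq_zero _).mp (hu A) _ hx, map_zero]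
  · let w := hf.equiv.symm x
    let P := (Ideal.span ({c} : Set A)).restrictScalars R
    have hw : u.baseChange A w = c • hg.equiv.symm z :=
      hg.equiv.injective (by rw [← hcomm, map_smul, LinearEquiv.apply_symm_apply, LinearEquiv.apply_symm_apply, hxz])
    have hzero : ∀ v : A ⊗[R] G, P.mkQ.rTensor G (c • v) = 0 := by
      intro v
      induction v using TensorProduct.induction_on with
      | zero => simp
      | tmul a m =>
        rw [TensorProduct.smul_tmul', LinearMap.rTensor_tmul, Submodule.mkQ_apply,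
          (Submodule.Quotient.mk_eq_zero P).mpr (show c • a ∈ P from Ideal.mul_mem_right a _ (Ideal.mem_span_singleton_self c)),
          TensorProduct.zero_tmul]
      | add a b ha hb => rw [smul_add, map_add, ha, hb, add_zero]
    have h0 : P.mkQ.rTensor F w = 0 := by
      refine (injective_iff_map_eq_zero _).mp (hu (A ⧸ P)) _ ?_
      rw [← LinearMap.comp_apply, LinearMap.lTensor_comp_rTensor, ← LinearMap.rTensor_comp_lTensor,
        LinearMap.comp_apply]
      exact (congrArg (P.mkQ.rTensor G) hw).trans (hzero _)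
    obtain ⟨y, hy⟩ := (rTensor_exact F (LinearMap.exact_subtype_mkQ P) P.mkQ_surjective w).mp h0
    have hmem : ∀ y : P ⊗[R] F, ∃ v, P.subtype.rTensor F y = c • v := by
      intro y
      induction y using TensorProduct.induction_on with
      | zero => exact ⟨0, by simp⟩
      | tmul a m =>
        obtain ⟨b, hb⟩ := Ideal.mem_span_singleton'.mp a.2
        exact ⟨b ⊗ₜ m, by rw [LinearMap.rTensor_tmul, Submodule.subtype_apply, ← hb, TensorProduct.smul_tmul',
          smul_eq_mul, mul_comm]⟩
      | add a b ha hb =>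
        obtain ⟨p, hp⟩ := ha
        obtain ⟨q, hq⟩ := hb
        exact ⟨p + q, by rw [map_add, hp, hq, smul_add]⟩
    obtain ⟨v, hv⟩ := hmem y
    exact ⟨hf.equiv v, by rw [← map_smul, ← hv, hy, LinearEquiv.apply_symm_apply]⟩

/-- Universal injectivity of a map which is bijective near the generic point of each fibre. -/
theorem univInj_of_bijective_near {R D G : Type u} [CommRing R] [CommRing D] [Algebra R D]
    [Algebra.FinitePresentation R D] [Module.Flat R D] (hgi : FlatCA.GeomIntegralFibres R D)
    [AddCommGroup G] [Module D G] [Module R G] [IsScalarTower R D G] {r : ℕ} (α : (Fin r → D) →ₗ[D] G)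
    (g : D) (hg : ∀ (p : Ideal R) [p.IsPrime], g ∉ p.map (algebraMap R D))
    (hα : Function.Bijective (LocalizedModule.map (Submonoid.powers g) α)) :
    FiberBasis.Kills R (⊥ : Submonoid D) α := by
  refine FiberBasis.kills_of_kills hgi ⊥ (Submonoid.powers g) (fun p hp hP _ _ => ?_) α ?_
  · refine Set.disjoint_left.mpr ?_
    rintro _ ⟨n, rfl⟩ hn
    exact hg p (hP.mem_of_pow_mem n hn)
  · refine (FiberBasis.univInj_iff _ α).mp fun Q _ _ => ?_
    let e := (LinearEquiv.ofBijective _ hα).restrictScalars R
    exact (LinearEquiv.lTensor Q e).injective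

/-- An extension of a good strict transform by a flat module. -/
theorem tfGood_of_extension {A B M XB : Type u} [CommRing A] [CommRing B] [Algebra A B]
    [AddCommGroup M] [Module B M] [Module A M] [IsScalarTower A B M]
    [AddCommGroup XB] [Module B XB] [Module A XB] [IsScalarTower A B XB] [Module.Flat A B] {r : ℕ}
    (αB : (Fin r → B) →ₗ[B] M) (hinj : Function.Injective αB) (π : M →ₗ[B] XB) (hπ : Function.Surjective π)
    (hπα : ∀ x, π (αB x) = 0) (hker : ∀ m, π m = 0 → ∃ x, m = αB x) {t : A} (ht : t ∈ nonZeroDivisors A)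
    (hdiv : ∀ (n : ℕ) (x : Fin r → B) (m : M), αB x = t ^ n • m → ∃ y, x = t ^ n • y)
    (h : TFGood B t XB) : TFGood B t M := by
  obtain ⟨hflX, hfpX⟩ := h
  haveI := hflX
  haveI := hfpX
  let T := tors B t M
  haveI : Module.Flat A (Fin r → B) := Module.Flat.trans A B (Fin r → B)
  have hTle : T ≤ LinearMap.ker ((tors B t XB).mkQ ∘ₗ π) := fun m hm => by
    obtain ⟨n, hn⟩ := mem_tors_iff.mp hm
    exact LinearMap.mem_ker.mpr ((Submodule.Quotient.mk_eq_zero _).mpr
      (mem_tors_iff.mpr ⟨n, by rw [← LinearMap.map_smul_of_tower, hn, map_zero]⟩))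
  let v : (M ⧸ T) →ₗ[B] XB ⧸ tors B t XB := T.liftQ _ hTle
  let u : (Fin r → B) →ₗ[B] M ⧸ T := T.mkQ ∘ₗ αB
  have huinj : Function.Injective u := (injective_iff_map_eq_zero _).mpr fun x hx => by
    obtain ⟨n, hn⟩ := mem_tors_iff.mp ((Submodule.Quotient.mk_eq_zero T).mp hx)
    refine smul_eq_zero_of_flat (pow_mem ht n) (hinj ?_)
    rw [map_zero, LinearMap.map_smul_of_tower]
    exact hn
  have hex : Function.Exact u v := by
    intro z
    constructor
    · obtain ⟨m, rfl⟩ := Submodule.Quotient.mk_surjective _ z
      intro hz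
      obtain ⟨n, hn⟩ := mem_tors_iff.mp ((Submodule.Quotient.mk_eq_zero (tors B t XB)).mp hz)
      rw [← LinearMap.map_smul_of_tower] at hn
      obtain ⟨x, hx⟩ := hker _ hn
      obtain ⟨y, rfl⟩ := hdiv n x m hx.symm
      refine ⟨y, ?_⟩
      show Submodule.Quotient.mk (αB y) = Submodule.Quotient.mk m
      rw [Submodule.Quotient.eq, mem_tors_iff]
      exact ⟨n, by rw [smul_sub, hx, LinearMap.map_smul_of_tower, sub_self]⟩
    · rintro ⟨x, rfl⟩
      show Submodule.Quotient.mk (π (αB x)) = 0
      rw [hπα, Submodule.Quotient.mk_zero]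
  have hv : Function.Surjective v := fun z => by
    obtain ⟨w, rfl⟩ := Submodule.Quotient.mk_surjective _ z
    obtain ⟨m, rfl⟩ := hπ w
    exact ⟨Submodule.Quotient.mk m, rfl⟩
  haveI : Module.FinitePresentation B (LinearMap.ker v) :=
    Module.FinitePresentation.of_equiv ((LinearEquiv.ofInjective u huinj).trans
      (LinearEquiv.ofEq _ _ hex.linearMap_ker_eq.symm))
  exact ⟨H06Mod.flat_of_exact_middle (u.restrictScalars A) (v.restrictScalars A) huinj hex hv,
    Module.finitePresentation_of_ker v hv⟩

/-- The map induced on base changes by a map out of a free module, and its cokernel. -/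
theorem exists_alphaB {D B G M : Type u} [CommRing D] [CommRing B] [Algebra D B] [AddCommGroup G] [Module D G]
    [AddCommGroup M] [Module B M] [Module D M] [IsScalarTower D B M] (φ : G →ₗ[D] M) (hφ : IsBaseChange B φ)
    {r : ℕ} (α : (Fin r → D) →ₗ[D] G) :
    ∃ (αB : (Fin r → B) →ₗ[B] M) (π : M →ₗ[B] B ⊗[D] (G ⧸ LinearMap.range α)),
      (∀ x, αB ((Algebra.linearMap D B).compLeft (Fin r) x) = φ (α x)) ∧ Function.Surjective π ∧
      (∀ x, π (αB x) = 0) ∧ (∀ m, π m = 0 → ∃ x, m = αB x) := by
  classical
  let αB : (Fin r → B) →ₗ[B] M := Fintype.linearCombination B fun i => φ (α (Pi.single i 1))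
  let ι : (Fin r → D) →ₗ[D] (Fin r → B) := (Algebra.linearMap D B).compLeft (Fin r)
  have hc : ∀ x, αB (ι x) = φ (α x) := by
    intro x
    conv_rhs => rw [pi_eq_sum_univ' x, map_sum, map_sum]
    refine (Fintype.linearCombination_apply B _ _).trans (Finset.sum_congr rfl fun i _ => ?_)
    show algebraMap D B (x i) • φ (α (Pi.single i 1)) = _
    rw [map_smul, map_smul, algebraMap_smul]
  let π : M →ₗ[B] B ⊗[D] (G ⧸ LinearMap.range α) := ((LinearMap.range α).mkQ.baseChange B) ∘ₗ hφ.equiv.symm.toLinearMap
  have hπ : Function.Surjective π :=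
    (LinearMap.lTensor_surjective B (Submodule.mkQ_surjective _)).comp hφ.equiv.symm.surjective
  have hπφ : ∀ m, π (φ m) = (1 : B) ⊗ₜ[D] Submodule.Quotient.mk m := by
    intro m
    show (LinearMap.range α).mkQ.baseChange B (hφ.equiv.symm (φ m)) = _
    rw [hφ.equiv_symm_apply, LinearMap.baseChange_tmul, Submodule.mkQ_apply]
  have hπα : ∀ x, π (αB x) = 0 := by
    intro x
    rw [Fintype.linearCombination_apply, map_sum]
    refine Finset.sum_eq_zero fun i _ => ?_
    rw [map_smul, hπφ, (Submodule.Quotient.mk_eq_zero _).mpr (LinearMap.mem_range_self α _), tmul_zero, smul_zero]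
  have hker : ∀ m, π m = 0 → ∃ x, m = αB x := by
    intro m hm
    obtain ⟨w, hw⟩ := (lTensor_exact B (LinearMap.exact_subtype_mkQ (LinearMap.range α))
      (Submodule.mkQ_surjective _) (hφ.equiv.symm m)).mp hm
    rw [← hφ.equiv.apply_symm_apply m, ← hw]
    clear hw hm
    induction w using TensorProduct.induction_on with
    | zero => exact ⟨0, by simp⟩
    | tmul b z =>
      obtain ⟨x, hx⟩ := z.2
      refine ⟨b • ι x, ?_⟩
      rw [LinearMap.lTensor_tmul, hφ.equiv_tmul, map_smul, hc, hx]
      rfl
    | add p q hp hq =>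
      obtain ⟨x, hx⟩ := hp
      obtain ⟨y, hy⟩ := hq
      exact ⟨x + y, by rw [map_add, map_add, map_add, hx, hy]⟩
  exact ⟨αB, π, hc, hπ, hπα, hker⟩

/-- A flattening centre of the cokernel of a universally injective map out of a free module is one
of the module. -/
theorem Flattening.of_coker {R D G : Type u} [CommRing R] [CommRing D] [Algebra R D] [Module.Flat R D]
    [AddCommGroup G] [Module D G] [Module R G] [IsScalarTower R D G] {r : ℕ} (α : (Fin r → D) →ₗ[D] G)
    (hα : FiberBasis.Kills R (⊥ : Submonoid D) α) {I : Ideal R}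
    (h : Flattening R D (G ⧸ LinearMap.range α) I) : Flattening R D G I := by
  intro A _ _ t ht hI B M _ _ _ _ _ _ _ _ _ _ _ _ _ φ hφ
  obtain ⟨αB, π, hc, hπ, hπα, hker⟩ := exists_alphaB φ hφ α
  letI : Module R M := Module.compHom M (algebraMap R A)
  haveI : IsScalarTower R A M := .of_algebraMap_smul fun _ _ => rfl
  haveI : IsScalarTower R D M := .of_algebraMap_smul fun a x => by
    rw [← algebraMap_smul B (algebraMap R D a), ← IsScalarTower.algebraMap_apply,
      IsScalarTower.algebraMap_apply R A B, algebraMap_smul]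
    rfl
  haveI hDB : Algebra.IsPushout R A D B := ‹_›
  have hbc : IsBaseChange A ((Algebra.linearMap D B).restrictScalars R) :=
    haveI : Algebra.IsPushout R A D B := hDB
    (Algebra.IsPushout.out : IsBaseChange A (IsScalarTower.toAlgHom R D B).toLinearMap)
  have hι : IsBaseChange A (((Algebra.linearMap D B).compLeft (Fin r)).restrictScalars R) := by
    have h0 := IsBaseChange.finitePow (R := R) (S := A) (M := D) (M' := B) (Fin r) hbc
    rwa [show ((Algebra.linearMap D B).compLeft (Fin r)).restrictScalars R =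
      ((Algebra.linearMap D B).restrictScalars R).compLeft (Fin r) from LinearMap.ext fun _ => rfl]
  have hg : IsBaseChange A (φ.restrictScalars R) :=
    H8Props.Devissage.isBaseChange_restrict (B := R) (A := D) (B' := A) (A' := B) (M := G) (M' := M) hφ
  have hu : ∀ (P : Type u) [AddCommGroup P] [Module R P], Function.Injective ((α.restrictScalars R).lTensor P) := by
    intro P _ _
    rw [LinearMap.lTensor_inj_iff_rTensor_inj, injective_iff_map_eq_zero]
    intro w hw
    obtain ⟨s, hs, hsw⟩ := hα P w hw
    rw [Submonoid.mem_bot.mp hs, one_smul] at hsw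
    exact hsw
  obtain ⟨hinj, hdiv⟩ := mem_smul_of_univInj (((Algebra.linearMap D B).compLeft (Fin r)).restrictScalars R) hι (φ.restrictScalars R) hg
    (α.restrictScalars R) hu (αB.restrictScalars A) hc
  haveI : Module.Flat A B := Module.Flat.isBaseChange R A D B hbc
  exact tfGood_of_extension αB hinj π hπ hπα hker ht (fun n => hdiv (t ^ n))
    (h A t ht hI B (B ⊗[D] (G ⧸ LinearMap.range α)) (TensorProduct.mk D B _ 1) (TensorProduct.isBaseChange D _ B))

end Groth.Agent.H7Flat.Flatten
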