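import Groth.Agent.H7Flat.Flatten.Local
import Groth.Agent.H7Flat.Flatten.EtaleCover
import Mathlib

/-!
# Flattening a module which is free near the generic points of all fibres
-/

set_option autoImplicit false
set_option linter.style.haveILetI false
set_option backward.isDefEq.respectTransparency false
set_option maxHeartbeats 1000000

universe u

open TensorProduct

namespace Groth.Agent.H7Flat.Flatten

/-- Flattening by admissible blow-ups is possible in relative dimension less than `n`. -/
def Below (n : ℕ) : Prop :=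
  ∀ (R S N : Type u) [CommRing R] [CommRing S] [Algebra R S] [Algebra.FinitePresentation R S]
    [AddCommGroup N] [Module S N] [Module R N] [IsScalarTower R S N] [Module.Finite S N] (s : Finset R),
    (∀ j ∈ s, GoodAway R S N j) →
    (∀ (p : Ideal R) [p.IsPrime],
      Module.supportDim (p.Fiber S) (FlatCA.fiberMod p S N) < (n : WithBot ℕ∞)) →
    ∃ I : Ideal R, Adm (Ideal.span (s : Set R)) I ∧ Flattening R S N I

theorem Adm.of_le {R : Type u} [CommRing R] {J J' I : Ideal R} (h : Adm J I) (hJ : J' ≤ J.radical) : Adm J' I :=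
  ⟨h.1, hJ.trans (Ideal.radical_le_radical_iff.mpr h.2)⟩

/-- Flattening with a single map out of a free module. -/
theorem exists_flattening_of_alpha {R D G : Type u} [CommRing R] [CommRing D] [Algebra R D]
    [Algebra.FinitePresentation R D] [Module.Flat R D] (hgi : FlatCA.GeomIntegralFibres R D) (m : ℕ)
    (hsm : FlatCA.SmoothRelDim m R D) (hlow : Below.{u} m) [AddCommGroup G] [Module D G] [Module.Finite D G]
    [Module R G] [IsScalarTower R D G] (f : R) (hgood : GoodAway R D G f) {r : ℕ} (α : (Fin r → D) →ₗ[D] G)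
    (g : D) (hg : ∀ (p : Ideal R) [p.IsPrime], g ∉ p.map (algebraMap R D))
    (hα : Function.Bijective (LocalizedModule.map (Submonoid.powers g) α)) :
    ∃ I : Ideal R, Adm (Ideal.span {f}) I ∧ Flattening R D G I := by
  classical
  have hk := univInj_of_bijective_near hgi α g hg hα
  obtain ⟨I, hI, hfl⟩ := hlow R D (G ⧸ LinearMap.range α) {f}
    (fun j hj => by rw [Finset.mem_singleton.mp hj]; exact hgood.coker α hk)
    (fun p _ => supportDim_coker_lt hgi m hsm α g hg hα.2 p)
  rw [Finset.coe_singleton] at hI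
  exact ⟨I, hI, Flattening.of_coker α hk hfl⟩

/-- The model on a basic open of the base. -/
theorem exists_flattening_on_open {R D G : Type u} [CommRing R] [CommRing D] [Algebra R D]
    [Algebra.FinitePresentation R D] [Module.Flat R D] (hgi : FlatCA.GeomIntegralFibres R D) (m : ℕ)
    (hsm : FlatCA.SmoothRelDim m R D) (hlow : Below.{u} m) [AddCommGroup G] [Module D G] [Module.Finite D G]
    [Module R G] [IsScalarTower R D G] (f : R) (hgood : GoodAway R D G f) (p : Ideal R) [p.IsPrime]
    (hfree : ∃ g : D, g ∉ p.map (algebraMap R D) ∧ ∃ r : ℕ,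
      Nonempty (Module.Basis (Fin r) (Localization.Away g) (LocalizedModule (Submonoid.powers g) G))) :
    ∃ (h : R) (_ : h ∉ p) (R' S' N' : Type u) (_ : CommRing R') (_ : CommRing S') (_ : Algebra R R')
      (_ : Algebra.IsStandardEtale R R') (_ : Algebra R' S') (_ : Algebra R S') (_ : Algebra D S')
      (_ : IsScalarTower R R' S') (_ : IsScalarTower R D S') (_ : Module.Flat D S') (_ : AddCommGroup N')
      (_ : Module S' N') (_ : Module D N') (_ : IsScalarTower D S' N') (φ : G →ₗ[D] N') (I' : Ideal R'),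
      IsBaseChange S' φ ∧ Adm ((Ideal.span {f}).map (algebraMap R R')) I' ∧ Flattening R' S' N' I' ∧
      ∀ P : PrimeSpectrum D, h ∉ P.asIdeal.comap (algebraMap R D) →
        ∃ P' : PrimeSpectrum S', PrimeSpectrum.comap (algebraMap D S') P' = P := by
  obtain ⟨g, hg, r, ⟨b⟩⟩ := hfree
  obtain ⟨α, hα⟩ := exists_alpha g b
  obtain ⟨h, hh, hopen⟩ := exists_basicOpen_notMem hgi g p hg
  obtain ⟨L, B', M', _, _, _, _, _, _, _, _, _, hpush, _, _, _, _, _, _, _, _, _, ψ, hψ, hLf, hBf, hP⟩ :=
    exists_local_model (A := R) (B := D) (M := G) h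
  haveI : Algebra.IsStandardEtale R L := Algebra.IsStandardEtale.of_isLocalizationAway (S := R) h
  obtain ⟨αB, -, hc, -, -, -⟩ := exists_alphaB ψ hψ α
  haveI : Module.Finite B' M' := Module.Finite.equiv hψ.equiv
  haveI : Algebra.FinitePresentation L B' := Algebra.FinitePresentation.equiv (Algebra.IsPushout.equiv R L D B')
  haveI : Module.Flat L B' := Module.Flat.isBaseChange R L D B'
    (Algebra.IsPushout.out : IsBaseChange L (IsScalarTower.toAlgHom R D B').toLinearMap)
  have hgi' := geomIntegralFibres_baseChange R L D B' hgi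
  have hgL : ∀ (p₁ : Ideal L) [p₁.IsPrime], algebraMap D B' g ∉ p₁.map (algebraMap L B') := by
    intro p₁ _ hmem
    haveI : IsDomain (p₁.Fiber B') := Groth.Agent.S1223.isDomain_fiber hgi' L B' p₁
    obtain ⟨hQ, hQc⟩ := AffineBlowupRank.isPrime_map (S := B') p₁
    let p₀ := p₁.comap (algebraMap R L)
    have hhp : h ∉ p₀ := fun hm =>
      ‹p₁.IsPrime›.ne_top (Ideal.eq_top_of_isUnit_mem _ hm (IsLocalization.Away.algebraMap_isUnit h))
    haveI : IsDomain (p₀.Fiber D) := Groth.Agent.S1223.isDomain_fiber hgi R D p₀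
    obtain ⟨hP₀, hP₀c⟩ := AffineBlowupRank.isPrime_map (S := D) p₀
    haveI := hP₀
    obtain ⟨q, hq, hq1, hq2⟩ := H8Props.FlatAtBC.exists_prime_over (R := R) (S := D) (R' := L) (S' := B')
      (hP := Algebra.IsPushout.symm hpush) (p₀.map (algebraMap R D)) p₁ hP₀c.symm
    refine hopen p₀ hhp ?_
    rw [← hq1]
    exact (Ideal.map_le_iff_le_comap.mpr hq2.ge) hmem
  obtain ⟨I', hI', hfl⟩ := exists_flattening_of_alpha hgi' m
    (H8Props.Devissage.smoothRelDim_baseChange R L D B' m hsm) hlow (algebraMap R L f) (hgood.baseChange ψ hψ) αB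
    (algebraMap D B' g) hgL (bijective_map_baseChange ψ hψ α g hα αB hc)
  exact ⟨h, hh, L, B', M', inferInstance, inferInstance, inferInstance, inferInstance, inferInstance, inferInstance,
    inferInstance, inferInstance, inferInstance, hBf, inferInstance, inferInstance, inferInstance, inferInstance,
    ψ, I', hψ, by rwa [Ideal.map_span, Set.image_singleton], hfl, hP⟩

/-- Flattening a module which is free near the generic points of all fibres. -/
theorem exists_flattening_of_free {R D G : Type u} [CommRing R] [CommRing D] [Algebra R D]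
    [Algebra.FinitePresentation R D] [Module.Flat R D] (hgi : FlatCA.GeomIntegralFibres R D) (m : ℕ)
    (hsm : FlatCA.SmoothRelDim m R D) (hlow : Below.{u} m) [AddCommGroup G] [Module D G] [Module.Finite D G]
    [Module R G] [IsScalarTower R D G] (f : R) (hgood : GoodAway R D G f)
    (hfree : ∀ (p : Ideal R) [p.IsPrime], ∃ g : D, g ∉ p.map (algebraMap R D) ∧ ∃ r : ℕ,
      Nonempty (Module.Basis (Fin r) (Localization.Away g) (LocalizedModule (Submonoid.powers g) G))) :
    ∃ I : Ideal R, Adm (Ideal.span {f}) I ∧ Flattening R D G I := by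
  classical
  choose h hh Ri Si Ni iR iS iAR iSE iARS iRS iDS t1 t2 iF iN iMN iDN t3 φ I hφ hI hfl hP using
    fun p : PrimeSpectrum R => exists_flattening_on_open hgi m hsm hlow f hgood p.asIdeal (hfree p.asIdeal)
  have htop : Ideal.span (Set.range h) = ⊤ := by
    by_contra hne
    obtain ⟨P, hP', hle⟩ := Ideal.exists_le_maximal _ hne
    exact hh ⟨P, hP'.isPrime⟩ (hle (Ideal.subset_span ⟨_, rfl⟩))
  obtain ⟨s, hs, h1⟩ := Submodule.mem_span_finite_of_mem_span ((Ideal.eq_top_iff_one _).mp htop)
  let e : Fin s.card ≃ {x // x ∈ s} := s.equivFin.symm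
  choose pt hpt using fun i : Fin s.card => hs (e i).2
  refine exists_flattening_of_cover (Ideal.span {f}) (Submodule.fg_span_singleton f) (fun i => Ri (pt i))
    (fun i => Si (pt i)) (fun i => Ni (pt i)) (fun P => ?_) (fun i => φ (pt i)) (fun i => hφ (pt i))
    (fun i => I (pt i)) (fun i => hI (pt i)) (fun i => hfl (pt i))
  obtain ⟨i, hi⟩ : ∃ i, h (pt i) ∉ P.asIdeal.comap (algebraMap R D) := by
    by_contra! hall
    refine (Ideal.comap_ne_top (algebraMap R D) P.isPrime.ne_top) ((Ideal.eq_top_iff_one _).mpr ?_)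
    refine (Submodule.span_le.mpr fun x hx => ?_) h1
    have := hall (e.symm ⟨x, hx⟩)
    rwa [hpt, Equiv.apply_symm_apply] at this
  exact ⟨i, hP (pt i) P hi⟩

end Groth.Agent.H7Flat.Flatten
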