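import Groth.Agent.H7Flat.Flatten.GenericCentre
import Groth.Agent.H7Flat.Flatten.DescendCentre
import Groth.Agent.H16Derived.KFlat.LocFreeOps
import Mathlib

/-!
# A blow-up making a module locally free at the generic points of the fibres
-/

set_option autoImplicit false
set_option linter.style.haveILetI false
set_option backward.isDefEq.respectTransparency false
set_option maxHeartbeats 1000000

universe u

open AlgebraicGeometry CategoryTheory Limits TopologicalSpace Opposite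

namespace Groth.Agent.H7Flat.Flatten

open H16Derived.KFlat H16Derived.KFlat.Stalk

/-- Membership in a basic open of an affine open in terms of primes. -/
theorem mem_basicOpen_iff_notMem {X : Scheme.{u}} {W : X.Opens} (hW : IsAffineOpen W) (x : W) (g : Γ(X, W)) :
    x.1 ∈ X.basicOpen g ↔ g ∉ (hW.primeIdealOf x).asIdeal := by
  conv_lhs => rw [← hW.fromSpec_primeIdealOf x]
  show hW.primeIdealOf x ∈ hW.fromSpec ⁻¹ᵁ X.basicOpen g ↔ _
  rw [hW.fromSpec_preimage_basicOpen]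
  rfl

/-- Two points of an affine open with the same basic open neighbourhoods are equal. -/
theorem eq_of_basicOpen_iff {X : Scheme.{u}} {W : X.Opens} (hW : IsAffineOpen W) {x y : X} (hx : x ∈ W) (hy : y ∈ W)
    (h : ∀ g : Γ(X, W), x ∈ X.basicOpen g ↔ y ∈ X.basicOpen g) : x = y := by
  have := congrArg hW.fromSpec (show hW.primeIdealOf ⟨x, hx⟩ = hW.primeIdealOf ⟨y, hy⟩ from
    PrimeSpectrum.ext (Ideal.ext fun g => not_iff_not.mp (by
      rw [← mem_basicOpen_iff_notMem, ← mem_basicOpen_iff_notMem]; exact h g)))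
  rwa [hW.fromSpec_primeIdealOf, hW.fromSpec_primeIdealOf] at this

/-- The largest open on which a module is locally free. -/
def freeLocus {X : Scheme.{u}} (G : X.Modules) : X.Opens := sSup {O | FreeNear G O}

/-- A module is finite locally free on its free locus. -/
theorem isFinLocFree_freeLocus {X : Scheme.{u}} (G : X.Modules) :
    FlatMod.IsFinLocFree ((Scheme.Modules.pullback (freeLocus G).ι).obj G) :=
  (isFinLocFree_iff _).2 fun z => by
    obtain ⟨O, hO, hzO⟩ := Opens.mem_sSup.mp (show z.1 ∈ sSup {O | FreeNear G O} from z.2)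
    refine ⟨(freeLocus G).ι ⁻¹ᵁ O, hzO, ?_⟩
    exact IsFreeFin.of_iso ((Scheme.Modules.pullbackComp ((freeLocus G).ι ∣_ O) (Scheme.Opens.ι O) ≪≫
      Scheme.Modules.pullbackCongr (morphismRestrict_ι (freeLocus G).ι O) ≪≫
      (Scheme.Modules.pullbackComp ((freeLocus G).ι ⁻¹ᵁ O).ι (freeLocus G).ι).symm).app G)
      (IsFreeFin.pullback ((freeLocus G).ι ∣_ O) hO)

/-- Freeness of localised sections puts the basic open into the free locus. -/
theorem le_freeLocus {X : Scheme.{u}} (G : X.Modules) (hG : Coh.IsQCoh G) {Z : X.Opens} (hZ : IsAffineOpen Z)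
    (g : Γ(X, Z)) {r : ℕ}
    (b : Module.Basis (Fin r) (Localization.Away g) (LocalizedModule (Submonoid.powers g) Γ(G, Z))) :
    X.basicOpen g ≤ freeLocus G := by
  have hrep : ∀ j, ∃ (m : Γ(G, Z)) (s : Submonoid.powers g), b j = LocalizedModule.mk m s := fun j => by
    induction b j using LocalizedModule.induction_on with
    | _ m s => exact ⟨m, s, rfl⟩
  choose m s hms using hrep
  let u : ∀ j, (Localization (Submonoid.powers g))ˣ := fun j =>
    (IsLocalization.map_units (Localization (Submonoid.powers g)) (s j)).unit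
  obtain ⟨hs, hi⟩ := H8Props.FinLocFree.spansUpTo_indepUpTo_of_basis m (b.unitsSMul u) fun j => by
    rw [Module.Basis.unitsSMul_apply, hms]
    change algebraMap Γ(X, Z) (Localization (Submonoid.powers g)) (s j) • LocalizedModule.mk (m j) (s j) = _
    rw [algebraMap_smul, LocalizedModule.smul'_mk, ← LocalizedModule.mk_cancel (s j) (m j)]
    rfl
  haveI := H8Props.FinLocFree.isIso_basicHom G hG hZ g m hs hi
  exact le_sSup (show FreeNear G (X.basicOpen g) from ⟨r, ⟨(Scheme.Modules.restrictFunctorIsoPullback _).symm.app G ≪≫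
    (asIso (H29Fitt.basicHom G g m)).symm⟩⟩)

/-- Finite presentation of localised sections over a basic open inside the good open. -/
theorem fp_away_sections {X S : Scheme.{u}} (f : X ⟶ S) (U : S.Opens) (F : X.Modules) (hqc : Coh.IsQCoh F)
    (hfpU : CohB1.IsFP ((Scheme.Modules.pullback (f ⁻¹ᵁ U).ι).obj F))
    {V : S.Opens} {W : X.Opens} (hW : IsAffineOpen W) (hWV : W ≤ f ⁻¹ᵁ V)
    (j : Γ(S, V)) (hj : S.basicOpen j ≤ U) :
    letI := (f.appLE V W hWV).hom.toAlgebra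
    Module.FinitePresentation (Localization.Away (algebraMap Γ(S, V) Γ(X, W) j))
      (LocalizedModule (Submonoid.powers (algebraMap Γ(S, V) Γ(X, W) j)) Γ(F, W)) := by
  letI := (f.appLE V W hWV).hom.toAlgebra
  let j' : Γ(X, W) := algebraMap Γ(S, V) Γ(X, W) j
  have hpre : X.basicOpen j' = W ⊓ f ⁻¹ᵁ S.basicOpen j := Scheme.basicOpen_appLE f W V hWV j
  have hle : X.basicOpen j' ≤ f ⁻¹ᵁ U := hpre.le.trans (inf_le_right.trans (f.preimage_mono hj))
  haveI := fp_sections_of_isFP_pullback F _ hfpU (hW.basicOpen j') hle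
  letI := Module.compHom Γ(F, X.basicOpen j') (algebraMap Γ(X, W) Γ(X, X.basicOpen j'))
  haveI : IsScalarTower Γ(X, W) Γ(X, X.basicOpen j') Γ(F, X.basicOpen j') := .of_algebraMap_smul fun _ _ => rfl
  haveI := hW.isLocalization_basicOpen j'
  haveI := H29Fitt.isLocalizedModule_resLin F hqc hW j'
  let T := Submonoid.powers j'
  let e := IsLocalization.algEquiv T Γ(X, X.basicOpen j') (Localization.Away j')
  refine H29Fitt.finitePresentation_of_semilinear (A := Γ(X, X.basicOpen j')) (M := Γ(F, X.basicOpen j'))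
    e.toAlgHom.toRingHom e.bijective
    (IsLocalizedModule.iso T (H29Fitt.resLin F j')).symm.toLinearMap.toAddMonoidHom (fun a m => ?_)
    (IsLocalizedModule.iso T (H29Fitt.resLin F j')).symm.bijective
  obtain ⟨⟨a₀, t⟩, rfl⟩ := IsLocalization.mk'_surjective T a
  let φ := (IsLocalizedModule.iso T (H29Fitt.resLin F j')).symm
  have hu : IsUnit (algebraMap Γ(X, W) (Localization.Away j') (t : Γ(X, W))) := IsLocalization.map_units _ t
  show φ (IsLocalization.mk' Γ(X, X.basicOpen j') a₀ t • m) = e (IsLocalization.mk' _ a₀ t) • φ m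
  refine hu.smul_left_cancel.mp ?_
  rw [algebraMap_smul, ← map_smul, ← algebraMap_smul Γ(X, X.basicOpen j') (t : Γ(X, W)), smul_smul,
    mul_comm, IsLocalization.mk'_spec, algebraMap_smul, map_smul]
  rw [smul_smul,
    ← e.commutes (t : Γ(X, W)), ← map_mul, mul_comm, IsLocalization.mk'_spec, e.commutes, algebraMap_smul]

/-- An admissible centre on a chart. -/
theorem exists_chart_generic {X S : Scheme.{u}} [CompactSpace S] [QuasiSeparatedSpace S]
    (f : X ⟶ S) [IsAffineHom f] [LocallyOfFinitePresentation f] [Flat f] [GeometricallyIntegral f]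
    (U : S.Opens) (hU : IsCompact (U : Set S))
    (F : X.Modules) (hqc : Coh.IsQCoh F) (hft : CohB1.IsFT F)
    (hfpU : CohB1.IsFP ((Scheme.Modules.pullback (f ⁻¹ᵁ U).ι).obj F))
    (hflU : ∀ x : X, f.base x ∈ U → closure ({f.asFiber x} : Set (f.fiber (f.base x))) = Set.univ → FlatMod.IsFlatOverAt f F x)
    {V : S.Opens} (hV : IsAffineOpen V) :
    ∃ J : S.IdealSheafData, BlowUp.IsAdmissibleFor U J ∧
      ∀ (K : S.IdealSheafData), BlowUp.IsAdmissibleFor U K →
      ∀ (S' : Scheme.{u}) (b : S' ⟶ S), BlowUp.IsBlowUp b (J * K) →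
      ∀ (X' : Scheme.{u}) (p₁ : X' ⟶ X) (p₂ : X' ⟶ S'), IsPullback p₁ p₂ f b →
      ∀ (G : X'.Modules) (π : (Scheme.Modules.pullback p₁).obj F ⟶ G),
        BlowUp.IsStrictTransform p₁ ((J * K).comap f) F G π →
        ∀ z : S', b z ∈ V → ∃ x ∈ freeLocus G, p₂ x = z := by
  classical
  let W := f ⁻¹ᵁ V
  have hW : IsAffineOpen W := hV.preimage f
  letI := (f.appLE V W le_rfl).hom.toAlgebra
  letI := Module.compHom Γ(F, W) (f.appLE V W le_rfl).hom
  haveI : IsScalarTower Γ(S, V) Γ(X, W) Γ(F, W) := .of_algebraMap_smul fun _ _ => rfl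
  haveI : F.IsQuasicoherent := hqc
  haveI := H10Coh.finite_sections F hft hW
  haveI : Algebra.FinitePresentation Γ(S, V) Γ(X, W) := f.finitePresentation_appLE hV hW le_rfl
  haveI : Module.Flat Γ(S, V) Γ(X, W) := HasRingHomProperty.appLE @Flat f inferInstance ⟨V, hV⟩ ⟨W, hW⟩ le_rfl
  have hgi : FlatCA.GeomIntegralFibres Γ(S, V) Γ(X, W) := by
    refine MorphismProperty.of_isPullback (P := @GeometricallyIntegral)
      (IsOpenImmersion.isPullback (Spec.map (f.appLE V W le_rfl)) hW.fromSpec hV.fromSpec f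
        (IsAffineOpen.SpecMap_appLE_fromSpec f hV hW le_rfl).symm ?_).flip ‹_›
    rw [hV.opensRange_fromSpec, hW.opensRange_fromSpec]
  obtain ⟨s, hsU, hs⟩ := exists_finset_eq_inter U hU hV
  obtain ⟨I, hI, hgen⟩ := exists_generic_centre (G := Γ(F, W)) hgi s
    (fun j hj => fp_away_sections f U F hqc hfpU hW le_rfl j (hsU j hj))
    fun j hj p _ hP hjp => by
      haveI : IsDomain (p.Fiber Γ(X, W)) := Groth.Agent.S1223.isDomain_fiber hgi Γ(S, V) Γ(X, W) p
      have hPc := (AffineBlowupRank.isPrime_map (S := Γ(X, W)) p).2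
      obtain ⟨x, hx⟩ := H29Blow.exists_primeIdealOf_eq hW
        (⟨p.map (algebraMap Γ(S, V) Γ(X, W)), hP⟩ : PrimeSpectrum Γ(X, W))
      have hxP : (hW.primeIdealOf x).asIdeal = p.map (algebraMap Γ(S, V) Γ(X, W)) := congrArg PrimeSpectrum.asIdeal hx
      have hr : ∀ r : Γ(S, V), f x.1 ∈ S.basicOpen r ↔ r ∉ p := fun r => by
        have h1 : x.1 ∈ X.basicOpen (algebraMap Γ(S, V) Γ(X, W) r) ↔ f x.1 ∈ S.basicOpen r := by
          rw [show X.basicOpen (algebraMap Γ(S, V) Γ(X, W) r) = W ⊓ f ⁻¹ᵁ S.basicOpen r from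
            Scheme.basicOpen_appLE f W V le_rfl r]
          exact ⟨fun h => h.2, fun h => ⟨x.2, h⟩⟩
        rw [← h1, mem_basicOpen_iff_notMem hW x, hxP, not_iff_not]
        conv_rhs => rw [← hPc]
        exact Ideal.mem_comap.symm
      have hcl : closure ({f.asFiber x.1} : Set (f.fiber (f.base x.1))) = Set.univ := by
        refine Set.eq_univ_of_forall fun v => ?_
        rw [← specializes_iff_mem_closure]
        refine (f.fiberι (f x.1)).isEmbedding.isInducing.specializes_iff.mp ?_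
        rw [f.fiberι_asFiber]
        have hy : f (f.fiberι (f x.1) v) = f x.1 := by
          have := (f.range_fiberι (f x.1)).le ⟨v, rfl⟩
          exact this
        have hyW : f.fiberι (f x.1) v ∈ W := by
          show f _ ∈ V
          rw [hy]; exact x.2
        refine specializes_iff_forall_open.mpr fun O hO hyO => ?_
        obtain ⟨g, hgO, hyg⟩ := hW.exists_basicOpen_le (V := ⟨O, hO⟩) ⟨_, hyO⟩ hyW
        refine hgO ((mem_basicOpen_iff_notMem hW x g).mpr fun hgP => ?_)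
        refine (mem_basicOpen_iff_notMem hW ⟨_, hyW⟩ g).mp hyg ?_
        rw [hxP] at hgP
        refine Ideal.map_le_iff_le_comap.mpr (fun r hr' => ?_) hgP
        rw [Ideal.mem_comap]
        by_contra hne
        have h2 := (mem_basicOpen_iff_notMem hW ⟨_, hyW⟩ _).mpr hne
        rw [show X.basicOpen (algebraMap Γ(S, V) Γ(X, W) r) = W ⊓ f ⁻¹ᵁ S.basicOpen r from
            Scheme.basicOpen_appLE f W V le_rfl r] at h2
        have h3 : f (f.fiberι (f x.1) v) ∈ S.basicOpen r := h2.2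
        rw [hy] at h3
        exact (hr r).mp h3 hr'
      have hfl := (H8Props.FlatLocus.isFlatOverAt_iff_localizedModule f F hqc hV hW le_rfl x).1
        (hflU x.1 (hsU j hj ((hr j).mpr hjp)) hcl)
      have key : ∀ (P : Ideal Γ(X, W)) [P.IsPrime], P = (hW.primeIdealOf x).asIdeal →
          Module.Flat Γ(S, V) (LocalizedModule P.primeCompl Γ(F, W)) := by
        rintro _ _ rfl
        exact hfl
      exact key _ hxP.symm
  obtain ⟨J, hJ, hJV⟩ := exists_admissible_of_ideal U hU hV (s : Set Γ(S, V)) hs I hI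
  refine ⟨J, hJ, fun K hK S' b hb X' p₁ p₂ hc G π hG z hzV => ?_⟩
  haveI hGq : G.IsQuasicoherent := isQuasicoherent_strictTransform hc.w hb hqc hG
  haveI hMq : ((Scheme.Modules.pullback p₁).obj F).IsQuasicoherent := H29Fitt.isQCoh_pullback p₁ F hqc
  haveI := hG.1
  obtain ⟨U₀, hzU₀, t₀, ht₀, hI₀⟩ := hb.1 z
  obtain ⟨r, hr, hzr⟩ := U₀.2.exists_basicOpen_le (V := b ⁻¹ᵁ V) ⟨z, hzV⟩ hzU₀
  let A : S'.affineOpens := ⟨S'.basicOpen r, U₀.2.basicOpen r⟩
  let t : Γ(S', A.1) := (S'.presheaf.map (homOfLE (S'.basicOpen_le r)).op).hom t₀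
  have ht : t ∈ nonZeroDivisors Γ(S', A.1) := by
    haveI := U₀.2.isLocalization_basicOpen r
    exact nzd_localization (Submonoid.powers r) Γ(S', S'.basicOpen r) ht₀
  have hIA : ((J * K).comap b).ideal A = Ideal.span {t} := by
    rw [← ((J * K).comap b).map_ideal (U := A) (V := U₀) (S'.basicOpen_le r), hI₀, Ideal.map_span,
      Set.image_singleton]
    rfl
  letI := (b.appLE V A.1 hr).hom.toAlgebra
  have hmap : (I * K.ideal ⟨V, hV⟩).map (algebraMap Γ(S, V) Γ(S', A.1)) = Ideal.span {t} := by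
    rw [← hIA, H29Blow.ideal_comap (J * K) b ⟨V, hV⟩ A hr, Scheme.IdealSheafData.ideal_mul, Pi.mul_apply, hJV]
    rfl
  have htr : (Ideal.span (s : Set Γ(S, V))).map (algebraMap Γ(S, V) Γ(S', A.1)) ≤ (Ideal.span {t}).radical := by
    refine Ideal.map_le_iff_le_comap.mpr (Ideal.span_le.mpr fun j hj => ?_)
    rw [SetLike.mem_coe, Ideal.mem_comap, ← hIA]
    refine mem_radical_of_disjoint _ A _ fun y hy hyE => ?_
    have hyU : b y ∈ U := hsU j hj ((Scheme.basicOpen_appLE b A.1 V hr j).le hy).2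
    rw [Scheme.IdealSheafData.support_comap] at hyE
    have hyE' : b y ∈ (J * K).support := hyE
    rw [Scheme.IdealSheafData.support_mul] at hyE'
    rcases hyE' with h | h
    · exact Set.disjoint_left.mp hJ.2 h hyU
    · exact Set.disjoint_left.mp hK.2 h hyU
  obtain ⟨g, hg, hgen₁⟩ := hgen (K.ideal ⟨V, hV⟩) Γ(S', A.1) t ht hmap htr (A.2.primeIdealOf ⟨z, hzr⟩).asIdeal
  let A₁ : S'.affineOpens := ⟨S'.basicOpen g, A.2.basicOpen g⟩
  have hz₁ : z ∈ A₁.1 := (mem_basicOpen_iff_notMem A.2 ⟨z, hzr⟩ g).mpr hg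
  have hr₁ : A₁.1 ≤ b ⁻¹ᵁ V := (S'.basicOpen_le g).trans hr
  letI : Algebra Γ(S, V) Γ(S', S'.basicOpen g) := (b.appLE V A₁.1 hr₁).hom.toAlgebra
  haveI : IsScalarTower Γ(S, V) Γ(S', A.1) Γ(S', S'.basicOpen g) := IsScalarTower.of_algebraMap_eq'
    (congrArg CommRingCat.Hom.hom (b.appLE_map hr (homOfLE (S'.basicOpen_le g)).op).symm)
  haveI := A.2.isLocalization_basicOpen g
  obtain ⟨g₁, hg₁, hgen₂⟩ := hgen₁ Γ(S', S'.basicOpen g) (A₁.2.primeIdealOf ⟨z, hz₁⟩).asIdeal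
  let A₂ : S'.affineOpens := ⟨S'.basicOpen g₁, A₁.2.basicOpen g₁⟩
  have hz₂ : z ∈ A₂.1 := (mem_basicOpen_iff_notMem A₁.2 ⟨z, hz₁⟩ g₁).mpr hg₁
  have hr₂ : A₂.1 ≤ b ⁻¹ᵁ V := (S'.basicOpen_le g₁).trans hr₁
  letI : Algebra Γ(S, V) Γ(S', S'.basicOpen g₁) := (b.appLE V A₂.1 hr₂).hom.toAlgebra
  haveI : IsScalarTower Γ(S, V) Γ(S', S'.basicOpen g) Γ(S', S'.basicOpen g₁) := IsScalarTower.of_algebraMap_eq'
    (congrArg CommRingCat.Hom.hom (b.appLE_map hr₁ (homOfLE (S'.basicOpen_le g₁)).op).symm)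
  haveI := A₁.2.isLocalization_basicOpen g₁
  obtain ⟨g₂, hg₂, hgen₃⟩ := hgen₂ Γ(S', S'.basicOpen g₁) (A₂.2.primeIdealOf ⟨z, hz₂⟩).asIdeal
  let A₃ : S'.affineOpens := ⟨S'.basicOpen g₂, A₂.2.basicOpen g₂⟩
  have hz₃ : z ∈ A₃.1 := (mem_basicOpen_iff_notMem A₂.2 ⟨z, hz₂⟩ g₂).mpr hg₂
  have hr₃ : A₃.1 ≤ b ⁻¹ᵁ V := (S'.basicOpen_le g₂).trans hr₂
  letI iRL : Algebra Γ(S, V) Γ(S', S'.basicOpen g₂) := (b.appLE V A₃.1 hr₃).hom.toAlgebra
  haveI : IsScalarTower Γ(S, V) Γ(S', S'.basicOpen g₁) Γ(S', S'.basicOpen g₂) := IsScalarTower.of_algebraMap_eq'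
    (congrArg CommRingCat.Hom.hom (b.appLE_map hr₂ (homOfLE (S'.basicOpen_le g₂)).op).symm)
  haveI := A₂.2.isLocalization_basicOpen g₂
  let ρ₁ := (S'.presheaf.map (homOfLE (S'.basicOpen_le g)).op).hom
  let ρ₂ := (S'.presheaf.map (homOfLE (S'.basicOpen_le g₁)).op).hom
  let ρ₃ := (S'.presheaf.map (homOfLE (S'.basicOpen_le g₂)).op).hom
  let c : Γ(S', S'.basicOpen g₂) := ρ₃ (ρ₂ (ρ₁ t))
  have hG' : GenFree Γ(S, V) Γ(X, W) Γ(F, W) Γ(S', S'.basicOpen g₂) c := hgen₃ Γ(S', S'.basicOpen g₂)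
  have hI₃ : ((J * K).comap b).ideal A₃ = Ideal.span {c} := by
    rw [← ((J * K).comap b).map_ideal (U := A₃) (V := A₂) (S'.basicOpen_le g₂),
      ← ((J * K).comap b).map_ideal (U := A₂) (V := A₁) (S'.basicOpen_le g₁),
      ← ((J * K).comap b).map_ideal (U := A₁) (V := A) (S'.basicOpen_le g), hIA]
    simp only [Ideal.map_span, Set.image_singleton]
    rfl
  let Z : X'.Opens := p₁ ⁻¹ᵁ W ⊓ p₂ ⁻¹ᵁ A₃.1
  have hp : IsPushout (f.appLE V W le_rfl) (b.appLE V A₃.1 hr₃)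
      (p₁.appLE W Z inf_le_left) (p₂.appLE A₃.1 Z inf_le_right) :=
    (isIso_pushoutSection_iff hc hr₃ le_rfl (UY := Z) rfl).mp
      (isIso_pushoutSection_of_isAffineOpen hc hr₃ le_rfl rfl hV A₃.2 hW)
  have hZ : IsAffineOpen Z := by
    haveI : IsAffine _ := hV
    haveI : IsAffine _ := A₃.2
    haveI : IsAffine _ := hW
    exact .of_isIso (Scheme.Hom.isPullback_resLE hc hr₃ le_rfl (UY := Z) rfl).isoPullback.hom
  letI := (p₁.appLE W Z inf_le_left).hom.toAlgebra
  letI iLB : Algebra Γ(S', S'.basicOpen g₂) Γ(X', Z) := (p₂.appLE A₃.1 Z inf_le_right).hom.toAlgebra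
  letI : Algebra Γ(S, V) Γ(X', Z) :=
    ((p₁.appLE W Z inf_le_left).hom.comp (f.appLE V W le_rfl).hom).toAlgebra
  haveI : IsScalarTower Γ(S, V) Γ(X, W) Γ(X', Z) := .of_algebraMap_eq fun _ => rfl
  haveI : IsScalarTower Γ(S, V) Γ(S', S'.basicOpen g₂) Γ(X', Z) :=
    IsScalarTower.of_algebraMap_eq' (congrArg CommRingCat.Hom.hom hp.w)
  haveI hpush : Algebra.IsPushout Γ(S, V) Γ(X, W) Γ(S', S'.basicOpen g₂) Γ(X', Z) :=
    CommRingCat.isPushout_iff_isPushout.mp hp
  haveI : Algebra.IsPushout Γ(S, V) Γ(S', S'.basicOpen g₂) Γ(X, W) Γ(X', Z) := hpush.symm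
  letI := Module.compHom Γ((Scheme.Modules.pullback p₁).obj F, Z) (p₁.appLE W Z inf_le_left).hom
  haveI : IsScalarTower Γ(X, W) Γ(X', Z) Γ((Scheme.Modules.pullback p₁).obj F, Z) :=
    .of_algebraMap_smul fun _ _ => rfl
  let p' := (A₃.2.primeIdealOf ⟨z, hz₃⟩).asIdeal
  obtain ⟨e, rk, he, hfr, hrk⟩ := hG' Γ(X', Z) Γ((Scheme.Modules.pullback p₁).obj F, Z)
    (H8Props.PullSections.pullLin p₁ F inf_le_left)
    (H8Props.PullSections.isBaseChange_pullLin p₁ F inf_le_left hqc hW hZ) p'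
  let τ : Γ(X', Z) := p₂.appLE A₃.1 Z inf_le_right c
  have hE : (BlowUp.exceptional p₁ ((J * K).comap f)).ideal ⟨Z, hZ⟩ = Ideal.span {τ} := by
    rw [BlowUp.exceptional, ← Scheme.IdealSheafData.comap_comp, hc.w, Scheme.IdealSheafData.comap_comp,
      H29Blow.ideal_comap ((J * K).comap b) p₂ A₃ ⟨Z, hZ⟩ inf_le_right, hI₃, Ideal.map_span, Set.image_singleton]
  let Lπ := H29Fitt.appLin π Z
  have hker : LinearMap.ker Lπ = FlatCA.powTorsion Γ(X', Z) τ Γ((Scheme.Modules.pullback p₁).obj F, Z) := by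
    ext m
    rw [LinearMap.mem_ker, H3CAlg.FittBlowup.mem_powTorsion_iff]
    refine (hG.2 ⟨Z, hZ⟩ m).trans ?_
    refine exists_congr fun n => ⟨fun h => ?_, fun h a ha => ?_⟩
    · exact h (τ ^ n) (by
        rw [Scheme.IdealSheafData.ideal_pow, Pi.pow_apply, hE]
        exact Ideal.pow_mem_pow (Ideal.mem_span_singleton_self _) n)
    · rw [Scheme.IdealSheafData.ideal_pow, Pi.pow_apply, hE, Ideal.span_singleton_pow,
        Ideal.mem_span_singleton'] at ha
      obtain ⟨d, rfl⟩ := ha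
      rw [mul_smul, show τ ^ n • m = 0 from h, smul_zero]
  let ε := (Submodule.quotEquivOfEq _ _ hker.symm).trans
    (Lπ.quotKerEquivOfSurjective (H10Coh.surjective_app_of_epi π hZ))
  have hgi₃ := geomIntegralFibres_baseChange Γ(S, V) Γ(S', S'.basicOpen g₂) Γ(X, W) Γ(X', Z) hgi
  haveI : Module.Flat Γ(S', S'.basicOpen g₂) Γ(X', Z) := Module.Flat.isBaseChange Γ(S, V) Γ(S', S'.basicOpen g₂) Γ(X, W) Γ(X', Z)
    (Algebra.IsPushout.out : IsBaseChange Γ(S', S'.basicOpen g₂) (IsScalarTower.toAlgHom Γ(S, V) Γ(X, W) Γ(X', Z)).toLinearMap)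
  haveI : IsDomain (p'.Fiber Γ(X', Z)) := Groth.Agent.S1223.isDomain_fiber hgi₃ Γ(S', S'.basicOpen g₂) Γ(X', Z) p'
  obtain ⟨hP, hPc⟩ := AffineBlowupRank.isPrime_map (S := Γ(X', Z)) p'
  haveI := hP
  obtain ⟨x, hxZ, hxP⟩ := exists_point_of_prime hZ (p'.map (algebraMap Γ(S', S'.basicOpen g₂) Γ(X', Z)))
  refine ⟨x, ?_, ?_⟩
  · haveI : Nontrivial (Localization.Away e) := by
      refine ⟨1, 0, fun h => ?_⟩
      rw [← map_one (algebraMap Γ(X', Z) (Localization.Away e)), IsLocalization.map_eq_zero_iff (Submonoid.powers e)] at h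
      obtain ⟨⟨_, j, rfl⟩, hj⟩ := h
      simp only [mul_one] at hj
      exact he (hP.mem_of_pow_mem j (hj ▸ Ideal.zero_mem _))
    haveI : Module.Finite Γ(X', Z) Γ((Scheme.Modules.pullback p₁).obj F, Z) :=
      Module.Finite.equiv (H8Props.PullSections.isBaseChange_pullLin p₁ F inf_le_left hqc hW hZ).equiv
    haveI := hfr
    let bb := Module.finBasisOfFinrankEq _ _ (Module.finrank_eq_of_rank_eq hrk)
    refine le_freeLocus G hGq hZ e (bb.map (LinearEquiv.ofBijective (LocalizedModule.map (Submonoid.powers e) ε.toLinearMap)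
      ⟨(FiberBasis.injective_map_iff _ _).mpr fun y hy => ⟨1, one_mem _, by rw [one_smul]; exact ε.map_eq_zero_iff.mp hy⟩,
        LocalizedModule.map_surjective _ _ ε.surjective⟩)) ((hxP e).mpr he)
  · refine eq_of_basicOpen_iff A₃.2 (?_ : p₂ x ∈ A₃.1) hz₃ fun a => ?_
    · exact hxZ.2
    · have h1 : X'.basicOpen (algebraMap Γ(S', S'.basicOpen g₂) Γ(X', Z) a) = Z ⊓ p₂ ⁻¹ᵁ S'.basicOpen a :=
        Scheme.basicOpen_appLE p₂ Z A₃.1 inf_le_right a
      have h2 : x ∈ X'.basicOpen (algebraMap Γ(S', S'.basicOpen g₂) Γ(X', Z) a) ↔ p₂ x ∈ S'.basicOpen a := by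
        rw [h1]; exact ⟨fun h => h.2, fun h => ⟨hxZ, h⟩⟩
      rw [← h2, hxP, mem_basicOpen_iff_notMem A₃.2 ⟨z, hz₃⟩ a, not_iff_not]
      conv_rhs => rw [show (A₃.2.primeIdealOf ⟨z, hz₃⟩).asIdeal = p' from rfl, ← hPc]
      exact Ideal.mem_comap.symm

/-- A blow-up making a module locally free on an open surjecting to the base. -/
theorem exists_freeLocus_surjective {X S : Scheme.{u}} [CompactSpace S] [QuasiSeparatedSpace S]
    (f : X ⟶ S) [IsAffineHom f] [LocallyOfFinitePresentation f] [Flat f] [GeometricallyIntegral f]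
    (U : S.Opens) (hU : IsCompact (U : Set S))
    (F : X.Modules) (hqc : Coh.IsQCoh F) (hft : CohB1.IsFT F)
    (hfpU : CohB1.IsFP ((Scheme.Modules.pullback (f ⁻¹ᵁ U).ι).obj F))
    (hflU : ∀ x : X, f.base x ∈ U → closure ({f.asFiber x} : Set (f.fiber (f.base x))) = Set.univ → FlatMod.IsFlatOverAt f F x) :
    ∃ (𝓘 : S.IdealSheafData) (S' : Scheme.{u}) (b : S' ⟶ S), BlowUp.IsBlowUp b 𝓘 ∧ BlowUp.IsAdmissibleFor U 𝓘 ∧
      ∀ (X' : Scheme.{u}) (p₁ : X' ⟶ X) (p₂ : X' ⟶ S'), IsPullback p₁ p₂ f b →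
      ∀ (G : X'.Modules) (π : (Scheme.Modules.pullback p₁).obj F ⟶ G), BlowUp.IsStrictTransform p₁ (𝓘.comap f) F G π →
        ∃ V : X'.Opens, FlatMod.IsFinLocFree ((Scheme.Modules.pullback V.ι).obj G) ∧ Function.Surjective (V.ι ≫ p₂).base := by
  classical
  have hchart : ∀ y : S, ∃ V : S.Opens, IsAffineOpen V ∧ y ∈ V := fun y =>
    let ⟨V, hV, hy, _⟩ := exists_isAffineOpen_mem_and_subset (U := (⊤ : S.Opens)) (x := y) trivial
    ⟨V, hV, hy⟩
  choose V hV hyV using hchart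
  obtain ⟨T, hT⟩ := CompactSpace.elim_nhds_subcover (fun y => (V y : Set S)) (fun y => (V y).2.mem_nhds (hyV y))
  choose J hJ hgood using fun y : S => exists_chart_generic f U hU F hqc hft hfpU hflU (hV y)
  have hadm : ∀ T' : Finset S, BlowUp.IsAdmissibleFor U (∏ y ∈ T', J y) := fun T' =>
    ⟨H11Strict.isFiniteTypeIdeal_prod _ _ fun y => (hJ y).1, H11Strict.disjoint_support_prod _ _ _ fun y => (hJ y).2⟩
  obtain ⟨S', b, hb⟩ := H26Blow.exists_isBlowUp (∏ y ∈ T, J y)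
  refine ⟨_, S', b, hb, hadm T, fun X' p₁ p₂ hc G π hG => ⟨freeLocus G, isFinLocFree_freeLocus G, fun z => ?_⟩⟩
  obtain ⟨i, hi, hzi⟩ := Set.mem_iUnion₂.mp (hT.ge (Set.mem_univ (b z)))
  have h := (Finset.mul_prod_erase _ J hi).symm
  obtain ⟨x, hx, hxz⟩ := hgood i _ (hadm _) S' b (h ▸ hb) X' p₁ p₂ hc G π (h ▸ hG) z hzi
  exact ⟨⟨x, hx⟩, hxz⟩

end Groth.Agent.H7Flat.Flatten
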