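import Groth.Agent.H7Flat.Flatten.Strat
import Groth.Agent.H7Flat.Flatten.ConstRank
import Mathlib

/-!
# A centre making a module free at the generic points of the fibres
-/

set_option autoImplicit false
set_option linter.style.haveILetI false
set_option backward.isDefEq.respectTransparency false
set_option maxHeartbeats 1000000

universe u

open TensorProduct

namespace Groth.Agent.H7Flat.Flatten

/-- After base change to `L`, the quotient by the `c`-torsion is free near every generic point of a fibre. -/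
def GenFree (R D G : Type u) [CommRing R] [CommRing D] [Algebra R D] [AddCommGroup G] [Module D G]
    (L : Type u) [CommRing L] [Algebra R L] (c : L) : Prop :=
  ∀ (S' M' : Type u) [CommRing S'] [Algebra D S'] [Algebra L S'] [Algebra R S'] [IsScalarTower R D S']
    [IsScalarTower R L S'] [Algebra.IsPushout R D L S'] [AddCommGroup M'] [Module S' M'] [Module D M']
    [IsScalarTower D S' M'] (φ : G →ₗ[D] M'), IsBaseChange S' φ →
    ∀ (p' : Ideal L) [p'.IsPrime], ∃ (g : S') (r : ℕ), g ∉ p'.map (algebraMap L S') ∧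
      Module.Free (Localization.Away g)
        (LocalizedModule (Submonoid.powers g) (M' ⧸ FlatCA.powTorsion S' (algebraMap L S' c) M')) ∧
      Module.rank (Localization.Away g)
        (LocalizedModule (Submonoid.powers g) (M' ⧸ FlatCA.powTorsion S' (algebraMap L S' c) M')) = r

/-- Finite presentation after inverting a multiple. -/
theorem fp_localized_of_dvd {D G : Type u} [CommRing D] [AddCommGroup G] [Module D G] [Module.Finite D G] (f g : D)
    (h : f ∣ g)
    [Module.FinitePresentation (Localization.Away f) (LocalizedModule (Submonoid.powers f) G)] :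
    Module.FinitePresentation (Localization.Away g) (LocalizedModule (Submonoid.powers g) G) := by
  obtain ⟨M₀, _, _, _, φ₀, hφ₀, hker⟩ := AffineBlowupRank.exists_fp_cover (M := G) f
  obtain ⟨c, rfl⟩ := h
  have hb : Function.Bijective (LocalizedModule.map (Submonoid.powers (f * c)) φ₀) := by
    refine ⟨(FiberBasis.injective_map_iff _ φ₀).mpr fun x hx => ?_, LocalizedModule.map_surjective _ _ hφ₀⟩
    obtain ⟨n, hn⟩ := hker x hx
    exact ⟨_, ⟨n, rfl⟩, by dsimp only; rw [mul_comm f c, mul_pow, mul_smul, hn, smul_zero]⟩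
  exact Module.FinitePresentation.of_equiv (LinearEquiv.ofBijective _ hb)

/-- Images of ideals absorbing a high power. -/
theorem map_sup_eq_of_mem {R L : Type u} [CommRing R] [CommRing L] [Algebra R L] {X F : Ideal R} {f : R} (N : ℕ)
    (hF : F.map (algebraMap R L) = Ideal.span {algebraMap R L f}) (hf : algebraMap R L (f ^ N) ∈ X.map (algebraMap R L)) :
    (X ⊔ F ^ N).map (algebraMap R L) = X.map (algebraMap R L) := by
  rw [Ideal.map_sup, Ideal.map_pow, hF, Ideal.span_singleton_pow, sup_eq_left, Ideal.span_le,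
    Set.singleton_subset_iff, ← map_pow]
  exact hf

/-- A centre making a module free at the generic points of all fibres. -/
theorem exists_generic_centre {R D G : Type u} [CommRing R] [CommRing D] [Algebra R D]
    [Algebra.FinitePresentation R D] [Module.Flat R D] (hgi : FlatCA.GeomIntegralFibres R D)
    [AddCommGroup G] [Module D G] [Module R G] [IsScalarTower R D G] [Module.Finite D G] (s : Finset R)
    (hfp : ∀ j ∈ s, Module.FinitePresentation (Localization.Away (algebraMap R D j))
      (LocalizedModule (Submonoid.powers (algebraMap R D j)) G))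
    (hflat : ∀ j ∈ s, ∀ (p : Ideal R) [p.IsPrime] [(p.map (algebraMap R D)).IsPrime], j ∉ p →
      FlatCA.FlatAt R (p.map (algebraMap R D)) G) :
    ∃ I : Ideal R, Adm (Ideal.span (s : Set R)) I ∧ ∀ (K : Ideal R) (A : Type u) [CommRing A] [Algebra R A] (t : A),
      t ∈ nonZeroDivisors A → (I * K).map (algebraMap R A) = Ideal.span {t} →
      (Ideal.span (s : Set R)).map (algebraMap R A) ≤ (Ideal.span {t}).radical →
      ∀ (Q : Ideal A) [Q.IsPrime], ∃ g : A, g ∉ Q ∧
      ∀ (L : Type u) [CommRing L] [Algebra A L] [Algebra R L] [IsScalarTower R A L] [IsLocalization.Away g L],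
      ∀ (Q₁ : Ideal L) [Q₁.IsPrime], ∃ g₁ : L, g₁ ∉ Q₁ ∧
      ∀ (L₁ : Type u) [CommRing L₁] [Algebra L L₁] [Algebra R L₁] [IsScalarTower R L L₁] [IsLocalization.Away g₁ L₁],
      ∀ (Q₂ : Ideal L₁) [Q₂.IsPrime], ∃ g₂ : L₁, g₂ ∉ Q₂ ∧
      ∀ (L₂ : Type u) [CommRing L₂] [Algebra L₁ L₂] [Algebra R L₂] [IsScalarTower R L₁ L₂] [IsLocalization.Away g₂ L₂],
        GenFree R D G L₂ (algebraMap L₁ L₂ (algebraMap L L₁ (algebraMap A L t))) := by
  classical
  let F := Ideal.span (s : Set R)
  choose k rk x N horth hrad hsum hdat using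
    fun l : s => exists_rank_partition_of hgi l.1 (hfp l.1 l.2) (hflat l.1 l.2)
  have hI : ∀ (l : s) (i : Fin (k l)), ∃ I : Ideal R, I.FG ∧ I.radical = (Ideal.span {x l i * l.1}).radical ∧ ∀ a ∈ I,
      ∀ (A : Type u) [CommRing A] [Algebra R A], algebraMap R A a ∈ nonZeroDivisors A →
        I.map (algebraMap R A) = Ideal.span {algebraMap R A a} →
        ∀ (S' M' : Type u) [CommRing S'] [Algebra D S'] [Algebra A S'] [Algebra R S'] [IsScalarTower R D S']
        [IsScalarTower R A S'] [Algebra.IsPushout R D A S']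
        [AddCommGroup M'] [Module S' M'] [Module D M'] [IsScalarTower D S' M']
        (φ : G →ₗ[D] M'), IsBaseChange S' φ →
        ∀ (p' : Ideal A) [p'.IsPrime],
          ∃ g : S', g ∉ p'.map (algebraMap A S') ∧
            Module.Free (Localization.Away g)
              (LocalizedModule (Submonoid.powers g) (M' ⧸ FlatCA.powTorsion S' (algebraMap R S' a) M')) ∧
            Module.rank (Localization.Away g)
              (LocalizedModule (Submonoid.powers g) (M' ⧸ FlatCA.powTorsion S' (algebraMap R S' a) M')) = rk l i := by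
    intro l i
    haveI := hfp l.1 l.2
    haveI := fp_localized_of_dvd (G := G) (algebraMap R D l.1) (algebraMap R D (x l i * l.1))
      (map_dvd _ (dvd_mul_left _ _))
    refine AffineBlowupRank.exists_ideal hgi (x l i * l.1) (rk l i) G fun p _ _ hp => ?_
    obtain ⟨g, α, hg, hα⟩ := hdat l i p fun h => hp (p.mul_mem_right _ h)
    exact free_rank_of_bijective α g hα _ hg
  choose I hIfg hIrad hIfree using hI
  have hM : ∀ (l : s) (i : Fin (k l)), ∃ M : ℕ,
      l.1 ^ M ∈ I l i ⊔ Ideal.span (x l '' {j | j ≠ i}) := by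
    intro l i
    let J := I l i ⊔ Ideal.span (x l '' {j | j ≠ i})
    have h1 : x l i * l.1 ∈ J.radical := Ideal.radical_mono le_sup_left
      ((hIrad l i).symm ▸ Ideal.le_radical (Ideal.mem_span_singleton_self _))
    have h2 : l.1 ^ (N l) * l.1 ∈ J.radical := by
      rw [← hsum l, Finset.sum_mul]
      refine Ideal.sum_mem _ fun j _ => ?_
      by_cases hj : j = i
      · exact hj ▸ h1
      · exact Ideal.mul_mem_right _ _ (Ideal.le_radical (Ideal.mem_sup_right (Ideal.subset_span ⟨j, hj, rfl⟩)))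
    obtain ⟨M, hM⟩ := h2
    exact ⟨(N l + 1) * M, by rw [pow_mul, pow_succ]; exact hM⟩
  choose M hM using hM
  let X' := fun l : s => Ideal.span (Set.range (x l)) ⊔ F ^ N l
  let I' := fun (l : s) (i : Fin (k l)) => I l i ⊔ Ideal.span (x l '' {j | j ≠ i}) ⊔ F ^ M l i
  have hFfg : F.FG := Submodule.fg_span (Finset.finite_toSet s)
  have hadm : ∀ (Y : Ideal R) (n : ℕ), Y.FG → Adm F (Y ⊔ F ^ n) := fun Y n hY =>
    ⟨Submodule.FG.sup hY hFfg.pow, fun z hz => Ideal.radical_mono le_sup_right
      ⟨n, Ideal.pow_mem_pow hz n⟩⟩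
  let Z := fun l : s => X' l * ∏ i, I' l i
  refine ⟨F * ∏ l, Z l, (show Adm F F from ⟨hFfg, Ideal.le_radical⟩).mul (Adm.prod _ _ fun l _ =>
    (hadm _ _ (Submodule.fg_span (Set.finite_range _))).mul (Adm.prod _ _ fun i _ =>
      hadm _ _ (Submodule.FG.sup (hIfg l i) (Submodule.fg_span ((Set.toFinite _).image _))))), ?_⟩
  intro K A _ _ t ht hIK htr Q _
  rw [mul_assoc, Ideal.map_mul] at hIK
  obtain ⟨g, hg, _, ⟨l₀, hl₀, rfl⟩, _, -, hxy⟩ := exists_principal_factors
    (show F.map (algebraMap R A) = Ideal.span (algebraMap R A '' (s : Set R)) from Ideal.map_span _ _)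
    (Ideal.span_eq _).symm ht hIK Q
  refine ⟨g, hg, fun L _ _ _ _ _ Q₁ _ => ?_⟩
  obtain ⟨hfn, hfI, hyn, hyJ, v, -, hvt⟩ := hxy L
  let l : s := ⟨l₀, hl₀⟩
  rw [Ideal.map_map, ← IsScalarTower.algebraMap_eq, ← IsScalarTower.algebraMap_apply R A L] at hfI
  have hX : (X' l).map (algebraMap R L) = Ideal.span (algebraMap R L '' Set.range (x l)) := by
    rw [map_sup_eq_of_mem (N l) hfI (Ideal.mem_map_of_mem _ ?_), Ideal.map_span]
    rw [← hsum l]
    exact Ideal.sum_mem _ fun i _ => Ideal.subset_span ⟨i, rfl⟩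
  rw [Ideal.map_map, ← IsScalarTower.algebraMap_eq, ← Finset.mul_prod_erase _ _ (Finset.mem_univ l), mul_assoc,
    mul_assoc, Ideal.map_mul] at hyJ
  obtain ⟨g₁, hg₁, _, ⟨_, ⟨i, rfl⟩, rfl⟩, _, -, hxy₁⟩ :=
    exists_principal_factors hX (Ideal.span_eq _).symm hyn hyJ Q₁
  refine ⟨g₁, hg₁, fun L₁ _ _ _ _ _ Q₂ _ => ?_⟩
  obtain ⟨hxn, -, hyn₁, hyJ₁, -⟩ := hxy₁ L₁
  rw [← IsScalarTower.algebraMap_apply R L L₁] at hxn
  have hx0 : ∀ j, j ≠ i → algebraMap R L₁ (x l j) = 0 := fun j hj =>
    mem_nonZeroDivisors_iff_right.mp hxn _ (by rw [← map_mul, horth l j i hj, map_zero])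
  have hfI₁ : F.map (algebraMap R L₁) = Ideal.span {algebraMap R L₁ l.1} := by
    rw [IsScalarTower.algebraMap_eq R L L₁, ← Ideal.map_map, hfI, Ideal.map_span, Set.image_singleton]
    rfl
  have hX0 : (I l i ⊔ Ideal.span (x l '' {j | j ≠ i})).map (algebraMap R L₁) = (I l i).map (algebraMap R L₁) := by
    rw [Ideal.map_sup, sup_eq_left, Ideal.map_span, Ideal.span_le]
    rintro _ ⟨_, ⟨j, hj, rfl⟩, rfl⟩
    rw [hx0 j hj]
    exact zero_mem _
  have hI₁ : (I' l i).map (algebraMap R L₁) = Ideal.span (algebraMap R L₁ '' (I l i : Set R)) := by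
    rw [map_sup_eq_of_mem (M l i) hfI₁ (Ideal.mem_map_of_mem _ (hM l i)), hX0]
    rfl
  rw [Ideal.map_map, ← IsScalarTower.algebraMap_eq, ← Finset.mul_prod_erase _ _ (Finset.mem_univ i), mul_assoc,
    Ideal.map_mul] at hyJ₁
  obtain ⟨g₂, hg₂, _, ⟨a, ha, rfl⟩, _, -, hxy₂⟩ :=
    exists_principal_factors hI₁ (Ideal.span_eq _).symm hyn₁ hyJ₁ Q₂
  refine ⟨g₂, hg₂, fun L₂ _ _ _ _ _ => ?_⟩
  obtain ⟨han, haI, -, -, -⟩ := hxy₂ L₂
  rw [← IsScalarTower.algebraMap_apply R L₁ L₂] at han haI
  rw [Ideal.map_map, ← IsScalarTower.algebraMap_eq] at haI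
  have hfI₂ : F.map (algebraMap R L₂) = Ideal.span {algebraMap R L₂ l.1} := by
    rw [IsScalarTower.algebraMap_eq R L₁ L₂, ← Ideal.map_map, hfI₁, Ideal.map_span, Set.image_singleton]
    rfl
  have hI₂ : (I l i).map (algebraMap R L₂) = Ideal.span {algebraMap R L₂ a} := by
    rw [← haI, IsScalarTower.algebraMap_eq R L₁ L₂, ← Ideal.map_map, ← Ideal.map_map,
      map_sup_eq_of_mem (M l i) hfI₁ (Ideal.mem_map_of_mem _ (hM l i)), hX0]
  intro S' M' _ _ _ _ _ _ _ _ _ _ _ φ hφ p' _
  obtain ⟨e, he, hfr, hrk⟩ := hIfree l i a ha L₂ han hI₂ S' M' φ hφ p'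
  refine ⟨e, rk l i, he, ?_⟩
  let τ := algebraMap L₁ L₂ (algebraMap L L₁ (algebraMap A L t))
  have hradeq : (Ideal.span {algebraMap R L₂ a}).radical = (Ideal.span {τ}).radical := by
    refine le_antisymm (Ideal.radical_le_radical_iff.mpr ?_) (Ideal.radical_le_radical_iff.mpr ?_)
    · rw [← hI₂]
      have h1 : I l i ≤ (Ideal.span {l.1}).radical := by
        refine le_trans Ideal.le_radical ((hIrad l i).le.trans ?_)
        refine Ideal.radical_mono ?_
        rw [Ideal.span_singleton_le_span_singleton]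
        exact dvd_mul_left _ _
      have h2 : algebraMap R L₂ l.1 ∈ (Ideal.span {τ}).radical := by
        have h3 : algebraMap R A l.1 ∈ (Ideal.span {t}).radical :=
          htr (Ideal.mem_map_of_mem _ (Ideal.subset_span l.2))
        have h4 := Ideal.map_radical_le ((algebraMap L₁ L₂).comp ((algebraMap L L₁).comp (algebraMap A L)))
          (Ideal.mem_map_of_mem _ h3)
        rw [Ideal.map_span, Set.image_singleton] at h4
        simp only [RingHom.comp_apply] at h4
        rw [IsScalarTower.algebraMap_apply R L₁ L₂, IsScalarTower.algebraMap_apply R L L₁,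
          IsScalarTower.algebraMap_apply R A L]
        exact h4
      refine (Ideal.map_mono h1).trans ((Ideal.map_radical_le _).trans ?_)
      rw [Ideal.radical_le_radical_iff, Ideal.map_span, Set.image_singleton, Ideal.span_le, Set.singleton_subset_iff]
      exact h2
    · rw [Ideal.span_le, Set.singleton_subset_iff]
      have h2 : algebraMap R L₂ l.1 ∈ (Ideal.span {algebraMap R L₂ a}).radical := by
        refine ⟨M l i, ?_⟩
        have h3 : algebraMap R L₁ (l.1 ^ M l i) ∈ (I l i).map (algebraMap R L₁) :=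
          hX0 ▸ Ideal.mem_map_of_mem _ (hM l i)
        have h4 := Ideal.mem_map_of_mem (algebraMap L₁ L₂) h3
        rw [Ideal.map_map, ← IsScalarTower.algebraMap_eq, hI₂, ← IsScalarTower.algebraMap_apply, map_pow] at h4
        exact h4
      show τ ∈ _
      simp only [τ]
      rw [hvt, map_mul, map_mul, map_mul, map_mul, ← IsScalarTower.algebraMap_apply R A L,
        ← IsScalarTower.algebraMap_apply R L L₁, ← IsScalarTower.algebraMap_apply R L₁ L₂]
      exact Ideal.mul_mem_right _ _ (Ideal.mul_mem_right _ _ h2)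
  letI : Module L₂ M' := Module.compHom M' (algebraMap L₂ S')
  haveI : IsScalarTower L₂ S' M' := .of_algebraMap_smul fun _ _ => rfl
  have ht' := tors_eq_of_rad (B := S') (M := M') hradeq
  simp only [tors, ← IsScalarTower.algebraMap_apply R L₂ S'] at ht'
  rw [← ht']
  exact ⟨hfr, hrk⟩

end Groth.Agent.H7Flat.Flatten
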