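import Groth.Agent.H7Flat.Flatten.Compose
import Groth.Agent.H7Flat.DevissageFP
import Groth.Agent.H7Flat.FiberBasis
import Groth.Agent.H7Flat.DevissageLoc
import Groth.Agent.H8Props.FlatAtBaseChange
import Mathlib

/-!
# Modules which are flat and finitely presented over a basic open of the base
-/

set_option autoImplicit false
set_option linter.style.haveILetI false
set_option backward.isDefEq.respectTransparency false
set_option maxHeartbeats 1000000

universe u

open TensorProduct

namespace Groth.Agent.H7Flat.Flatten

/-- Over the basic open of `j` the module is finitely presented and flat over the base. -/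
def GoodAway (R S : Type u) [CommRing R] [CommRing S] [Algebra R S] (N : Type u) [AddCommGroup N] [Module S N]
    [Module R N] [IsScalarTower R S N] (j : R) : Prop :=
  Module.FinitePresentation (Localization.Away (algebraMap R S j))
      (LocalizedModule (Submonoid.powers (algebraMap R S j)) N) ∧
    Module.Flat R (LocalizedModule (Submonoid.powers (algebraMap R S j)) N)

variable {R S : Type u} [CommRing R] [CommRing S] [Algebra R S] {N : Type u} [AddCommGroup N] [Module S N]
  [Module R N] [IsScalarTower R S N]

theorem GoodAway.flatAt {j : R} (h : GoodAway R S N j) (q : Ideal S) [q.IsPrime]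
    (hq : algebraMap R S j ∉ q) : FlatCA.FlatAt R q N :=
  (DevissageLoc.flat_away_iff _ N).mp h.2 q hq

/-- A map which is bijective up to powers of `j` transfers goodness. -/
theorem GoodAway.of_map {j : R} (h : GoodAway R S N j) {N₂ : Type u} [AddCommGroup N₂] [Module S N₂]
    [Module R N₂] [IsScalarTower R S N₂] (π : N →ₗ[S] N₂) (hπ : Function.Surjective π)
    (hker : ∀ x, π x = 0 → ∃ n : ℕ, j ^ n • x = 0) : GoodAway R S N₂ j := by
  let T := Submonoid.powers (algebraMap R S j)
  let e := LinearEquiv.ofBijective (LocalizedModule.map T π)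
    ⟨(FiberBasis.injective_map_iff T π).mpr fun x hx => by
        obtain ⟨n, hn⟩ := hker x hx
        exact ⟨algebraMap R S j ^ n, ⟨n, rfl⟩, by rw [← map_pow, algebraMap_smul]; exact hn⟩,
      LocalizedModule.map_surjective T π hπ⟩
  haveI := h.1
  haveI := h.2
  exact ⟨Module.FinitePresentation.of_equiv e, Module.Flat.of_linearEquiv (e.restrictScalars R).symm⟩

theorem GoodAway.congr {j : R} (h : GoodAway R S N j) {N₂ : Type u} [AddCommGroup N₂] [Module S N₂]
    [Module R N₂] [IsScalarTower R S N₂] (e : N ≃ₗ[S] N₂) : GoodAway R S N₂ j :=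
  h.of_map e.toLinearMap e.surjective fun _ hx => ⟨0, by rw [pow_zero, one_smul]; exact e.map_eq_zero_iff.mp hx⟩

theorem GoodAway.quotient_tors {j : R} (h : GoodAway R S N j) :
    GoodAway R S (N ⧸ tors S j N) j :=
  h.of_map (tors S j N).mkQ (Submodule.mkQ_surjective _) fun x hx =>
    mem_tors_iff.mp ((Submodule.Quotient.mk_eq_zero _).mp hx)

theorem GoodAway.baseChange {j : R} (h : GoodAway R S N j) {A B M : Type u} [CommRing A] [CommRing B]
    [Algebra R A] [Algebra A B] [Algebra R B] [Algebra S B] [IsScalarTower R A B] [IsScalarTower R S B]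
    [Algebra.IsPushout R A S B] [AddCommGroup M] [Module B M] [Module S M] [IsScalarTower S B M]
    [Module A M] [IsScalarTower A B M] (φ : N →ₗ[S] M) (hφ : IsBaseChange B φ) :
    GoodAway A B M (algebraMap R A j) := by
  have he : algebraMap A B (algebraMap R A j) = algebraMap S B (algebraMap R S j) := by
    rw [← IsScalarTower.algebraMap_apply, ← IsScalarTower.algebraMap_apply]
  refine ⟨(DevissageFP.fp_localized_baseChange hφ (Submonoid.powers (algebraMap R S j))
    (Submonoid.powers (algebraMap A B (algebraMap R A j))) ?_).1 h.1, ?_⟩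
  · rintro _ ⟨n, rfl⟩
    exact ⟨n, by dsimp only; rw [map_pow, he]⟩
  · rw [DevissageLoc.flat_away_iff]
    intro q' _ hq'
    letI : Module R M := Module.compHom M (algebraMap R A)
    haveI : IsScalarTower R A M := .of_algebraMap_smul fun _ _ => rfl
    haveI : IsScalarTower R S M := .of_algebraMap_smul fun r x => by
      rw [← algebraMap_smul B (algebraMap R S r), ← IsScalarTower.algebraMap_apply,
        IsScalarTower.algebraMap_apply R A B, algebraMap_smul]
      rfl
    haveI : Algebra.IsPushout R S A B := Algebra.IsPushout.symm ‹_›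
    exact H8Props.FlatAtBC.flat_localizedModule_of_comap (R := R) (R' := A) φ hφ q'
      (h.flatAt _ fun hm => hq' (he ▸ hm))

/-- Goodness is computed equally upstairs and downstairs of a finitely presented finite algebra. -/
theorem goodAway_comap_iff {C G : Type u} [CommRing C] [Algebra S C] [Algebra R C] [IsScalarTower R S C]
    [Module.FinitePresentation S C] [AddCommGroup G] [Module C G] [Module S G] [IsScalarTower S C G]
    [Module R G] [IsScalarTower R C G] [IsScalarTower R S G] [Module.Finite C G] (j : R) :
    GoodAway R S G j ↔ GoodAway R C G j := by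
  have h1 : ∀ t ∈ Submonoid.powers (algebraMap R S j), algebraMap S C t ∈ Submonoid.powers (algebraMap R C j) := by
    rintro _ ⟨n, rfl⟩
    exact ⟨n, by dsimp only; rw [map_pow, ← IsScalarTower.algebraMap_apply]⟩
  have h2 : ∀ c ∈ Submonoid.powers (algebraMap R C j), ∃ t ∈ Submonoid.powers (algebraMap R S j),
      c ∣ algebraMap S C t := by
    rintro _ ⟨n, rfl⟩
    exact ⟨_, ⟨n, rfl⟩, by dsimp only; rw [map_pow, ← IsScalarTower.algebraMap_apply]⟩
  exact and_congr (DevissageFP.fp_localized_comap G _ _ h1 h2)
    (DevissageLoc.flat_localizedModule_comap G _ _ h1 h2)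

end Groth.Agent.H7Flat.Flatten
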