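import Groth.Agent.H7Flat.Flatten.Coker
import Groth.Agent.H8Props.Devissage.BaseChange
import Mathlib

/-!
# Maps out of free modules which are bijective near the generic points of the fibres
-/

set_option autoImplicit false
set_option linter.style.haveILetI false
set_option backward.isDefEq.respectTransparency false
set_option maxHeartbeats 1000000

universe u

open TensorProduct

namespace Groth.Agent.H7Flat.Flatten

theorem smooth_of_relDim {R D : Type u} [CommRing R] [CommRing D] [Algebra R D] {n : ℕ}
    (h : FlatCA.SmoothRelDim n R D) : Algebra.Smooth R D := by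
  open AlgebraicGeometry in
  haveI := h
  open AlgebraicGeometry in
  exact RingHom.smooth_algebraMap.mp
    ((HasRingHomProperty.Spec_iff (P := @Smooth) (φ := CommRingCat.ofHom (algebraMap R D))).mp
      (SmoothOfRelativeDimension.smooth n _))

theorem geomIntegralFibres_baseChange (R R' D D' : Type u) [CommRing R] [CommRing R'] [CommRing D] [CommRing D']
    [Algebra R R'] [Algebra R D] [Algebra R' D'] [Algebra R D'] [Algebra D D'] [IsScalarTower R R' D']
    [IsScalarTower R D D'] [Algebra.IsPushout R R' D D'] (h : FlatCA.GeomIntegralFibres R D) :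
    FlatCA.GeomIntegralFibres R' D' :=
  CategoryTheory.MorphismProperty.of_isPullback (P := @AlgebraicGeometry.GeometricallyIntegral)
    (H8Props.Devissage.isPullback_spec R R' D D') h

/-- A module which is free after inverting `g` receives a map from a free module which becomes
bijective. -/
theorem exists_alpha {D G : Type u} [CommRing D] [AddCommGroup G] [Module D G] (g : D) {r : ℕ}
    (b : Module.Basis (Fin r) (Localization.Away g) (LocalizedModule (Submonoid.powers g) G)) :
    ∃ α : (Fin r → D) →ₗ[D] G, Function.Bijective (LocalizedModule.map (Submonoid.powers g) α) := by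
  classical
  let T := Submonoid.powers g
  choose y hy using fun i => IsLocalizedModule.surj T (LocalizedModule.mkLinearMap T G) (b i)
  refine ⟨Fintype.linearCombination D fun i => (y i).1, ?_⟩
  let α : (Fin r → D) →ₗ[D] G := Fintype.linearCombination D fun i => (y i).1
  let Φ := LocalizedModule.map T α
  have hsurj : Function.Surjective Φ := by
    rw [← LinearMap.range_eq_top, eq_top_iff, ← b.span_eq, Submodule.span_le]
    rintro _ ⟨i, rfl⟩
    have h1 : (LocalizedModule.mkLinearMap T G) (y i).1 ∈ LinearMap.range Φ := by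
      refine ⟨LocalizedModule.mk (Pi.single i 1) 1, ?_⟩
      show LocalizedModule.map T α _ = _
      rw [LocalizedModule.map_mk, LocalizedModule.mkLinearMap_apply]
      simp [α]
    have hu : IsUnit (algebraMap D (Localization.Away g) ((y i).2 : D)) :=
      IsLocalization.map_units _ (y i).2
    refine (Submodule.smul_mem_iff_of_isUnit _ hu).mp ?_
    rw [algebraMap_smul]
    exact (hy i).symm ▸ h1
  let b₀ := (Pi.basisFun D (Fin r)).ofIsLocalizedModule (Localization.Away g) T
    (LocalizedModule.mkLinearMap T (Fin r → D))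
  haveI : Module.Finite (Localization.Away g) (LocalizedModule T (Fin r → D)) := Module.Finite.of_basis b₀
  let e := b.equiv b₀ (Equiv.refl _)
  have hi := OrzechProperty.injective_of_surjective_endomorphism (e.toLinearMap ∘ₗ Φ) (e.surjective.comp hsurj)
  exact ⟨fun x y hxy => hi (congrArg e hxy), hsurj⟩

/-- Near a prime of the base, an element outside the extension of that prime stays outside the
extensions of the primes. -/
theorem exists_basicOpen_notMem {R D : Type u} [CommRing R] [CommRing D] [Algebra R D]
    [Algebra.FinitePresentation R D] [Module.Flat R D] (hgi : FlatCA.GeomIntegralFibres R D)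
    (g : D) (p : Ideal R) [p.IsPrime] (hg : g ∉ p.map (algebraMap R D)) :
    ∃ h : R, h ∉ p ∧ ∀ (p₁ : Ideal R) [p₁.IsPrime], h ∉ p₁ → g ∉ p₁.map (algebraMap R D) := by
  haveI : IsDomain (p.Fiber D) := Groth.Agent.S1223.isDomain_fiber hgi R D p
  obtain ⟨hP, hPc⟩ := AffineBlowupRank.isPrime_map (S := D) p
  have ho := PrimeSpectrum.isOpenMap_comap_of_hasGoingDown_of_finitePresentation (R := R) (S := D)
    _ (PrimeSpectrum.basicOpen g).isOpen
  have hmem : (⟨p, inferInstance⟩ : PrimeSpectrum R) ∈
      PrimeSpectrum.comap (algebraMap R D) '' (PrimeSpectrum.basicOpen g : Set _) :=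
    ⟨⟨_, hP⟩, hg, PrimeSpectrum.ext hPc⟩
  obtain ⟨_, ⟨_, ⟨h, rfl⟩, rfl⟩, hh, hle⟩ :=
    PrimeSpectrum.isBasis_basic_opens.exists_subset_of_mem_open hmem ho
  refine ⟨h, hh, fun p₁ _ hp₁ hgm => ?_⟩
  obtain ⟨Q, hQ, hQp⟩ := hle (show (⟨p₁, inferInstance⟩ : PrimeSpectrum R) ∈ PrimeSpectrum.basicOpen h from hp₁)
  exact hQ ((Ideal.map_le_iff_le_comap.mpr (congrArg PrimeSpectrum.asIdeal hQp).ge) hgm)

/-- A map which becomes bijective stays so after base change. -/
theorem bijective_map_baseChange {D B G M : Type u} [CommRing D] [CommRing B] [Algebra D B] [AddCommGroup G]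
    [Module D G] [AddCommGroup M] [Module B M] [Module D M] [IsScalarTower D B M] (φ : G →ₗ[D] M)
    (hφ : IsBaseChange B φ) {r : ℕ} (α : (Fin r → D) →ₗ[D] G) (g : D)
    (hbij : Function.Bijective (LocalizedModule.map (Submonoid.powers g) α)) (αB : (Fin r → B) →ₗ[B] M)
    (hc : ∀ x, αB ((Algebra.linearMap D B).compLeft (Fin r) x) = φ (α x)) :
    Function.Bijective (LocalizedModule.map (Submonoid.powers (algebraMap D B g)) αB) := by
  classical
  let T := Submonoid.powers g
  let T' := Submonoid.powers (algebraMap D B g)
  let ι : (Fin r → D) →ₗ[D] (Fin r → B) := (Algebra.linearMap D B).compLeft (Fin r)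
  let L' := LocalizedModule T' (Fin r → B)
  let mk' := LocalizedModule.mkLinearMap T' (Fin r → B)
  have hpow : ∀ n : ℕ, algebraMap D B g ^ n ∈ T' := fun n => ⟨n, rfl⟩
  constructor
  · have hunit : ∀ x : T, IsUnit (algebraMap D (Module.End D L') x) := by
      rintro ⟨_, n, rfl⟩
      rw [Module.End.isUnit_iff]
      have hb := (Module.End.isUnit_iff _).mp (IsLocalizedModule.map_units mk' (⟨_, hpow n⟩ : T'))
      convert hb using 1
      ext x
      simp only [Module.algebraMap_end_apply]
      rw [← algebraMap_smul B (g ^ n) x, map_pow]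
    let ρ : LocalizedModule T (Fin r → D) →ₗ[D] L' := LocalizedModule.lift T (mk'.restrictScalars D ∘ₗ ι) hunit
    let e := (LinearEquiv.ofBijective _ hbij).restrictScalars D
    let χ : M →ₗ[B] L' := hφ.lift (ρ ∘ₗ e.symm.toLinearMap ∘ₗ LocalizedModule.mkLinearMap T G)
    have hχ : ∀ x, χ (αB (ι x)) = mk' (ι x) := by
      intro x
      rw [hc, hφ.lift_eq]
      show ρ (e.symm (LocalizedModule.mkLinearMap T G (α x))) = _
      rw [show LocalizedModule.mkLinearMap T G (α x) = e (LocalizedModule.mkLinearMap T (Fin r → D) x) from ?_,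
        LinearEquiv.symm_apply_apply, LocalizedModule.mkLinearMap_apply, LocalizedModule.lift_mk_one]
      · rfl
      · show _ = LocalizedModule.map T α _
        rw [LocalizedModule.mkLinearMap_apply, LocalizedModule.mkLinearMap_apply, LocalizedModule.map_mk]
    have hall : χ ∘ₗ αB = mk' := by
      refine (Pi.basisFun B (Fin r)).ext fun i => ?_
      have : (Pi.basisFun B (Fin r)) i = ι (Pi.single i 1) := by
        ext j
        simp [ι, Pi.basisFun_apply, Pi.single_apply, apply_ite (algebraMap D B)]
      rw [this]
      exact hχ _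
    refine (FiberBasis.injective_map_iff T' αB).mpr fun x hx => ?_
    have h0 : mk' x = 0 := by rw [← hall, LinearMap.comp_apply, hx, map_zero]
    obtain ⟨⟨t, ht⟩, htx⟩ := (IsLocalizedModule.eq_zero_iff T' mk').mp h0
    exact ⟨t, ht, htx⟩
  · intro z
    induction z using LocalizedModule.induction_on with
    | _ m s =>
      suffices ∃ n : ℕ, ∃ x, algebraMap D B g ^ n • m = αB x by
        obtain ⟨n, x, hx⟩ := this
        refine ⟨LocalizedModule.mk x (⟨_, hpow n⟩ * s), ?_⟩
        rw [LocalizedModule.map_mk, ← hx, LocalizedModule.mk_eq]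
        exact ⟨1, by simp only [Submonoid.smul_def, Submonoid.coe_mul, one_smul, smul_smul]; rw [mul_comm]⟩
      rw [← hφ.equiv.apply_symm_apply m]
      induction hφ.equiv.symm m using TensorProduct.induction_on with
      | zero => exact ⟨0, 0, by simp⟩
      | tmul b x =>
        obtain ⟨w, hw⟩ := hbij.2 (LocalizedModule.mk x 1)
        induction w using LocalizedModule.induction_on with
        | _ y s₀ =>
          rw [LocalizedModule.map_mk, LocalizedModule.mk_eq] at hw
          obtain ⟨c, hc'⟩ := hw
          obtain ⟨n, hn⟩ := (c * s₀).2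
          refine ⟨n, b • ι ((c : D) • y), ?_⟩
          have e1 : g ^ n = (c : D) * s₀ := hn
          simp only [one_smul, Submonoid.smul_def, smul_smul] at hc'
          rw [hφ.equiv_tmul, map_smul, hc, map_smul, ← map_pow, e1, smul_comm, algebraMap_smul, ← map_smul, hc']
      | add p q hp hq =>
        obtain ⟨n, x, hx⟩ := hp
        obtain ⟨k, y, hy⟩ := hq
        refine ⟨n + k, algebraMap D B g ^ k • x + algebraMap D B g ^ n • y, ?_⟩
        rw [map_add, smul_add, map_add, map_smul, map_smul, ← hx, ← hy, smul_smul, smul_smul,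
          ← pow_add, ← pow_add, add_comm k n]

end Groth.Agent.H7Flat.Flatten
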