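import Groth.Agent.H7Flat.Flatten.NagataB
import Groth.Agent.H11Strict.SeparateClosed
import Groth.Agent.H11Strict.SeparateExists
import Mathlib

/-!
# A compactification of the union of two opens having compactifications
-/

set_option autoImplicit false
set_option linter.style.haveILetI false
set_option backward.isDefEq.respectTransparency false
set_option maxHeartbeats 1000000

universe u

open AlgebraicGeometry CategoryTheory Limits TopologicalSpace Opposite HTop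

namespace Groth.Agent.H7Flat.Flatten

/-- In a separated scheme the intersection of two opens embeds as a closed subscheme of their product. -/
theorem isClosed_range_inter {U S : Scheme.{u}} (g : U ⟶ S) [IsSeparated g] (U₁ U₂ : U.Opens)
    (h : U.homOfLE (inf_le_left : U₁ ⊓ U₂ ≤ U₁) ≫ U₁.ι ≫ g = U.homOfLE (inf_le_right : U₁ ⊓ U₂ ≤ U₂) ≫ U₂.ι ≫ g) :
    IsClosed (Set.range (pullback.lift (U.homOfLE (inf_le_left : U₁ ⊓ U₂ ≤ U₁))
      (U.homOfLE (inf_le_right : U₁ ⊓ U₂ ≤ U₂)) h)) := by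
  let δ := pullback.lift (U.homOfLE (inf_le_left : U₁ ⊓ U₂ ≤ U₁)) (U.homOfLE (inf_le_right : U₁ ⊓ U₂ ≤ U₂)) h
  have hsq : IsPullback (U.homOfLE (inf_le_left : U₁ ⊓ U₂ ≤ U₁)) (U.homOfLE (inf_le_right : U₁ ⊓ U₂ ≤ U₂)) U₁.ι U₂.ι := by
    refine IsOpenImmersion.isPullback _ _ _ _ (by simp) ?_
    ext x
    constructor
    · rintro ⟨z, hz⟩
      have hx' : x.1 ∈ U₁ := by
        have h1 : z.1 = x.1 := hz
        rw [← h1]; exact z.2
      exact ⟨⟨x.1, hx', x.2⟩, Subtype.ext (Scheme.homOfLE_apply _ _)⟩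
    · rintro ⟨z, rfl⟩
      refine ⟨⟨z.1, z.2.1⟩, ?_⟩
      show z.1 = (U.homOfLE _ z).1
      rw [Scheme.homOfLE_apply]
  have e : δ = hsq.isoPullback.hom ≫ pullback.mapDesc U₁.ι U₂.ι g :=
    pullback.hom_ext (by simp [δ]) (by simp [δ])
  haveI : IsClosedImmersion δ := by rw [e]; infer_instance
  exact δ.isClosedMap.isClosed_range

/-- Data on one side after separating: a new compactification and a map from the model. -/
theorem exists_separated_side {S U' Y X : Scheme.{u}} [CompactSpace S] [QuasiSeparatedSpace S]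
    (j : U' ⟶ Y) [IsOpenImmersion j] [CompactSpace U'] (π : Y ⟶ S) [IsProper π] (πX : X ⟶ S) [IsProper πX]
    (p : X ⟶ Y) (hp : p ≫ π = πX) (Z : Set Y) (hZ : IsClosed Z) (hZc : IsCompact Zᶜ) (O : X.Opens)
    (hO : IsCompact (O : Set X)) (hOZ : ∀ x ∈ O, p x ∈ j.opensRange → p x ∉ Z) :
    ∃ (E : Y.IdealSheafData) (Y' : Scheme.{u}) (c : Y' ⟶ Y) (j' : U' ⟶ Y'),
      BlowUp.IsBlowUp c E ∧ BlowUp.IsAdmissibleFor j.opensRange E ∧ IsProper c ∧ IsOpenImmersion j' ∧ j' ≫ c = j ∧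
      (BlowUp.IsFiniteTypeIdeal (E.comap p) ∧ ∀ x, p x ∈ j.opensRange → x ∉ (E.comap p).support) ∧
      ∀ (P : Scheme.{u}) (t : P ⟶ X) (s : P ⟶ Y'), t ≫ p = s ≫ c →
        ∀ z : P, t z ∈ O → s z ∈ closure (c.base ⁻¹' (Z ∩ (j.opensRange : Set Y))) →
          z ∉ closure (t.base ⁻¹' ((O : Set X) ∩ (p ⁻¹ᵁ j.opensRange : Set X))) := by
  haveI : CompactSpace Y := QuasiCompact.compactSpace_of_compactSpace π
  haveI : QuasiSeparatedSpace Y := quasiSeparatedSpace_of_quasiSeparated π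
  haveI : QuasiSeparatedSpace X := quasiSeparatedSpace_of_quasiSeparated πX
  haveI : IsProper (p ≫ π) := by rw [hp]; infer_instance
  haveI : IsProper p := IsProper.of_comp p π
  obtain ⟨E, hE, hEs, hsep⟩ :=
    H11Strict.exists_centre p j.opensRange (isCompact_range j.continuous) Z hZ hZc O hO hOZ
  have hEd : Disjoint (E.support : Set Y) (j.opensRange : Set Y) :=
    Set.disjoint_left.mpr fun y hy hy' => (hEs hy).2 hy'
  obtain ⟨Y', c, hc⟩ := H26Blow.exists_isBlowUp E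
  obtain ⟨j', hj'o, hj'⟩ := exists_lift_openImmersion hc j hEd.symm
  refine ⟨E, Y', c, j', hc, ⟨hE, hEd⟩, isProper_blowUp hE hc, hj'o, hj',
    ⟨H11Strict.isFiniteTypeIdeal_comap _ hE, fun x hx hx' => ?_⟩, fun P t s hts => hsep Y' c hc.1 P t s hts⟩
  rw [Scheme.IdealSheafData.support_comap] at hx'
  exact Set.disjoint_left.mp hEd hx' hx

/-- The union of two opens having compactifications has a compactification. -/
theorem exists_compactification_union {U S : Scheme.{u}} [CompactSpace S] [QuasiSeparatedSpace S]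
    (g : U ⟶ S) [IsSeparated g] [QuasiCompact g] (U₁ U₂ : U.Opens) (hcov : U₁ ⊔ U₂ = ⊤)
    (h₁ : ∃ (Y : Scheme.{u}) (j : (U₁ : Scheme.{u}) ⟶ Y) (p : Y ⟶ S), IsOpenImmersion j ∧ QuasiCompact j ∧ IsProper p ∧ j ≫ p = U₁.ι ≫ g)
    (h₂ : ∃ (Y : Scheme.{u}) (j : (U₂ : Scheme.{u}) ⟶ Y) (p : Y ⟶ S), IsOpenImmersion j ∧ QuasiCompact j ∧ IsProper p ∧ j ≫ p = U₂.ι ≫ g) :
    ∃ (Y : Scheme.{u}) (j : U ⟶ Y) (p : Y ⟶ S), IsOpenImmersion j ∧ QuasiCompact j ∧ IsProper p ∧ j ≫ p = g := by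
  classical
  obtain ⟨Y₁, j₁, π₁, hj₁o, hj₁q, hπ₁, hj₁⟩ := h₁
  obtain ⟨Y₂, j₂, π₂, hj₂o, hj₂q, hπ₂, hj₂⟩ := h₂
  haveI := hj₁o; haveI := hj₁q; haveI := hπ₁; haveI := hj₂o; haveI := hj₂q; haveI := hπ₂
  haveI : QuasiSeparatedSpace U := quasiSeparatedSpace_of_quasiSeparated g
  haveI : CompactSpace Y₁ := QuasiCompact.compactSpace_of_compactSpace π₁
  haveI : CompactSpace Y₂ := QuasiCompact.compactSpace_of_compactSpace π₂
  haveI : QuasiSeparatedSpace Y₁ := quasiSeparatedSpace_of_quasiSeparated π₁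
  haveI : QuasiSeparatedSpace Y₂ := quasiSeparatedSpace_of_quasiSeparated π₂
  haveI : CompactSpace (U₁ : Scheme.{u}) := QuasiCompact.compactSpace_of_compactSpace j₁
  haveI : CompactSpace (U₂ : Scheme.{u}) := QuasiCompact.compactSpace_of_compactSpace j₂
  have hU₁ : IsCompact (U₁ : Set U) := isCompact_iff_compactSpace.mpr ‹CompactSpace (U₁ : Scheme.{u})›
  have hU₂ : IsCompact (U₂ : Set U) := isCompact_iff_compactSpace.mpr ‹CompactSpace (U₂ : Scheme.{u})›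
  let U₀ := U₁ ⊓ U₂
  haveI : CompactSpace (U₀ : Scheme.{u}) :=
    isCompact_iff_compactSpace.mp (QuasiSeparatedSpace.inter_isCompact _ _ U₁.2 hU₁ U₂.2 hU₂)
  let a₁ := U.homOfLE (inf_le_left : U₀ ≤ U₁)
  let a₂ := U.homOfLE (inf_le_right : U₀ ≤ U₂)
  let k₁ := a₁ ≫ j₁
  let k₂ := a₂ ≫ j₂
  have hk : k₁ ≫ π₁ = k₂ ≫ π₂ := by simp [k₁, k₂, a₁, a₂, hj₁, hj₂]
  let γ : (U₀ : Scheme.{u}) ⟶ pullback π₁ π₂ := pullback.lift k₁ k₂ hk
  haveI : QuasiSeparatedSpace ↥(pullback π₁ π₂) := quasiSeparatedSpace_of_quasiSeparated (pullback.fst π₁ π₂ ≫ π₁)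
  haveI : QuasiCompact γ := QuasiCompact.of_comp γ (terminal.from _)
  haveI : IsSchemeTheoreticallyDominant γ.toImage := ⟨H17.ker_toImage γ⟩
  let φ₁ := γ.imageι ≫ pullback.fst π₁ π₂
  let φ₂ := γ.imageι ≫ pullback.snd π₁ π₂
  have hu₁ : γ.toImage ≫ φ₁ = k₁ := by rw [← Category.assoc, γ.toImage_imageι]; exact pullback.lift_fst _ _ _
  have hu₂ : γ.toImage ≫ φ₂ = k₂ := by rw [← Category.assoc, γ.toImage_imageι]; exact pullback.lift_snd _ _ _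
  haveI := isIso_restrict_of_dominant γ.toImage φ₁ k₁ hu₁ (O := k₁.opensRange) rfl
  haveI := isIso_restrict_of_dominant γ.toImage φ₂ k₂ hu₂ (O := k₂.opensRange) rfl
  have hpre₁ := preimage_opensRange_eq γ.toImage φ₁ k₁ hu₁
  have hpre₂ := preimage_opensRange_eq γ.toImage φ₂ k₂ hu₂
  have hQ : ∀ z, φ₁ z ∈ j₁.opensRange → φ₂ z ∈ j₂.opensRange → z ∈ Set.range γ.toImage := by
    intro z hz₁ hz₂
    have h : a₁ ≫ U₁.ι ≫ g = a₂ ≫ U₂.ι ≫ g := by simp [a₁, a₂]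
    let m : pullback (U₁.ι ≫ g) (U₂.ι ≫ g) ⟶ pullback π₁ π₂ :=
      pullback.map _ _ _ _ j₁ j₂ (𝟙 S) (by simp [hj₁]) (by simp [hj₂])
    have hγ : pullback.lift a₁ a₂ h ≫ m = γ :=
      pullback.hom_ext (by simp [m, γ, k₁]) (by simp [m, γ, k₂])
    have hzm : γ.imageι z ∈ Set.range m := by
      rw [Scheme.Pullback.range_map]
      exact ⟨hz₁, hz₂⟩
    have hzc : γ.imageι z ∈ closure (Set.range γ) := by
      rw [← Scheme.Hom.support_ker, ← Scheme.IdealSheafData.range_subschemeι]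
      exact ⟨z, rfl⟩
    obtain ⟨w, hw⟩ := hzm
    have hw' : w ∈ closure (m ⁻¹' Set.range γ) := by
      rw [← m.isOpenEmbedding.isOpenMap.preimage_closure_eq_closure_preimage m.continuous]
      show m w ∈ closure (Set.range γ)
      rw [hw]; exact hzc
    rw [show m ⁻¹' Set.range γ = Set.range (pullback.lift a₁ a₂ h) by
      rw [← hγ, Scheme.Hom.comp_base, TopCat.coe_comp, Set.range_comp]
      exact Set.preimage_image_eq _ m.isOpenEmbedding.injective,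
      (isClosed_range_inter g U₁ U₂ h).closure_eq] at hw'
    obtain ⟨x, rfl⟩ := hw'
    refine ⟨x, γ.imageι.isClosedEmbedding.injective ?_⟩
    rw [← Scheme.Hom.comp_apply, γ.toImage_imageι]
    exact (hom_congr_apply hγ x).symm.trans hw
  haveI : IsProper φ₁ := inferInstance
  haveI : IsProper φ₂ := inferInstance
  haveI : CompactSpace ↥γ.image := QuasiCompact.compactSpace_of_compactSpace (φ₁ ≫ π₁)
  haveI : QuasiSeparatedSpace ↥γ.image := quasiSeparatedSpace_of_quasiSeparated (φ₁ ≫ π₁)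
  -- separate the two closed sets in the model
  obtain ⟨B, hB, hBaway⟩ := exists_centre_awayFrom_eq (φ₂ ⁻¹ᵁ j₂.opensRange)
    (φ₂.isCompact_preimage (isCompact_range j₂.continuous))
  obtain ⟨J, hJ, hJaway⟩ := exists_centre_awayFrom_eq (φ₁ ⁻¹ᵁ j₁.opensRange)
    (φ₁.isCompact_preimage (isCompact_range j₁.continuous))
  obtain ⟨Λ, hΛ, hΛaway⟩ := exists_centre_awayFrom_eq (φ₁ ⁻¹ᵁ k₁.opensRange)
    (φ₁.isCompact_preimage (isCompact_range k₁.continuous))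
  let A := B ⊔ J
  have hmemB : ∀ z, z ∉ (B.support : Set γ.image) ↔ φ₂ z ∈ j₂.opensRange := fun z =>
    (Set.ext_iff.mp (congrArg (fun V : γ.image.Opens => (V : Set γ.image)) hBaway) z)
  have hmemJ : ∀ z, z ∉ (J.support : Set γ.image) ↔ φ₁ z ∈ j₁.opensRange := fun z =>
    (Set.ext_iff.mp (congrArg (fun V : γ.image.Opens => (V : Set γ.image)) hJaway) z)
  obtain ⟨X, d, hd⟩ := H26Blow.exists_isBlowUp (A * Λ)
  haveI := isProper_blowUp (H11Strict.isFiniteTypeIdeal_mul (H11Strict.isFiniteTypeIdeal_sup hB hJ) hΛ) hd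
  have hd' := hd.1
  rw [H29Blow.comap_mul] at hd'
  let T₁ : Set γ.image := (φ₁ ⁻¹ᵁ j₁.opensRange : Set γ.image) \ (φ₂ ⁻¹ᵁ j₂.opensRange : Set γ.image)
  let T₂ : Set γ.image := (φ₂ ⁻¹ᵁ j₂.opensRange : Set γ.image) \ (φ₁ ⁻¹ᵁ j₁.opensRange : Set γ.image)
  have hdisj : closure (d.base ⁻¹' T₁) ∩ closure (d.base ⁻¹' T₂) = ∅ :=
    H11Strict.inter_closure_eq_empty (𝟙 γ.image) T₁ T₂ A B J
      (fun z hz => by_contra fun h => hz.2 ((hmemB z).1 h))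
      (Set.disjoint_left.mpr fun z hz hz' =>
        (hmemJ z).2 hz'.1 (Scheme.IdealSheafData.support_antitone (le_sup_right : J ≤ A) hz))
      (fun z hz => by_contra fun h => hz.2 ((hmemJ z).1 h))
      (fun z hz hz' => (hmemB z).2 hz.1 (Scheme.IdealSheafData.support_antitone (le_sup_left : B ≤ A) hz'))
      le_sup_left (by rw [Scheme.IdealSheafData.comap_id, Scheme.IdealSheafData.comap_id])
      d (H29Blow.isEffCartierIdeal_left_of_mul hd') d (𝟙 X) (by simp)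
  haveI : CompactSpace X := QuasiCompact.compactSpace_of_compactSpace d
  haveI : QuasiSeparatedSpace X := quasiSeparatedSpace_of_quasiSeparated d
  obtain ⟨O₁, hO₁c, hO₁le, hO₁⟩ := H8Props.PushoutQF.exists_qc_open
    (⟨(closure (d.base ⁻¹' T₁))ᶜ, isClosed_closure.isOpen_compl⟩ : X.Opens) (closure (d.base ⁻¹' T₂))
    isClosed_closure.isCompact (fun z hz hz' => (hdisj ▸ ⟨hz', hz⟩ : z ∈ (∅ : Set X)))
  obtain ⟨O₂, hO₂c, hO₂le, hO₂⟩ := H8Props.PushoutQF.exists_qc_open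
    (⟨(closure (d.base ⁻¹' T₂))ᶜ, isClosed_closure.isOpen_compl⟩ : X.Opens) (O₁ : Set X)ᶜ
    O₁.2.isClosed_compl.isCompact (fun z hz hz' => hz (hO₁ hz'))
  let πX := d ≫ φ₁ ≫ π₁
  haveI : IsProper πX := inferInstance
  have hp₂π : (d ≫ φ₂) ≫ π₂ = πX := by simp [πX, φ₁, φ₂, pullback.condition]
  obtain ⟨E₁, Y₁', c₁, j₁', hc₁, hE₁, hc₁p, hj₁'o, hj₁', ⟨hE₁ft, hE₁d⟩, hsep₁⟩ :=
    exists_separated_side j₁ π₁ πX (d ≫ φ₁) (Category.assoc _ _ _) (k₁.opensRange : Set Y₁)ᶜ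
      k₁.opensRange.2.isClosed_compl (by rw [compl_compl]; exact isCompact_range k₁.continuous) O₁ hO₁c
      (by
        intro x hx hxj hxk
        refine hO₁le hx (subset_closure ⟨hxj, fun h2 => hxk ?_⟩)
        exact (hpre₁.ge (hQ _ hxj h2) : d x ∈ φ₁ ⁻¹ᵁ k₁.opensRange))
  obtain ⟨E₂, Y₂', c₂, j₂', hc₂, hE₂, hc₂p, hj₂'o, hj₂', ⟨hE₂ft, hE₂d⟩, hsep₂⟩ :=
    exists_separated_side j₂ π₂ πX (d ≫ φ₂) hp₂π (k₂.opensRange : Set Y₂)ᶜ
      k₂.opensRange.2.isClosed_compl (by rw [compl_compl]; exact isCompact_range k₂.continuous) O₂ hO₂c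
      (by
        intro x hx hxj hxk
        refine hO₂le hx (subset_closure ⟨hxj, fun h1 => hxk ?_⟩)
        exact (hpre₂.ge (hQ _ h1 hxj) : d x ∈ φ₂ ⁻¹ᵁ k₂.opensRange))
  haveI := hc₁p
  haveI := hc₂p
  haveI := hj₁'o
  haveI := hj₂'o
  -- the common model
  obtain ⟨X₁, e, he⟩ := H26Blow.exists_isBlowUp (E₁.comap (d ≫ φ₁) * E₂.comap (d ≫ φ₂))
  haveI := isProper_blowUp (H11Strict.isFiniteTypeIdeal_mul hE₁ft hE₂ft) he
  have he' := he.1
  rw [H29Blow.comap_mul] at he'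
  obtain ⟨s₁, hs₁, -⟩ := hc₁.2 X₁ (e ≫ d ≫ φ₁)
    (by rw [Scheme.IdealSheafData.comap_comp]; exact H29Blow.isEffCartierIdeal_left_of_mul he')
  obtain ⟨s₂, hs₂, -⟩ := hc₂.2 X₁ (e ≫ d ≫ φ₂)
    (by rw [Scheme.IdealSheafData.comap_comp]; exact H29Blow.isEffCartierIdeal_right_of_mul he')
  haveI : CompactSpace X₁ := QuasiCompact.compactSpace_of_compactSpace e
  haveI : QuasiSeparatedSpace X₁ := quasiSeparatedSpace_of_quasiSeparated e
  let D := (Λ.comap d).comap e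
  have hD : BlowUp.IsEffCartierIdeal D :=
    H29Blow.isEffCartierIdeal_comap_blowUp he (H29Blow.isEffCartierIdeal_right_of_mul hd')
  let f₁ := e ≫ d ≫ φ₁
  have hDaway : awayFrom D = f₁ ⁻¹ᵁ k₁.opensRange := by
    rw [H18HTop.awayFrom_comap, H18HTop.awayFrom_comap, hΛaway]; rfl
  have hk₁j : k₁.opensRange ≤ j₁.opensRange := by rintro _ ⟨z, rfl⟩; exact ⟨a₁ z, rfl⟩
  have hΩ₂ : ∀ z, φ₁ z ∈ k₁.opensRange → φ₂ z ∈ k₂.opensRange := fun z hz =>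
    (hpre₂.ge (hpre₁.le hz) : z ∈ φ₂ ⁻¹ᵁ k₂.opensRange)
  have hk₂j : k₂.opensRange ≤ j₂.opensRange := by rintro _ ⟨z, rfl⟩; exact ⟨a₂ z, rfl⟩
  haveI : IsIso (f₁ ∣_ k₁.opensRange) := by
    haveI : IsIso (d ∣_ (φ₁ ⁻¹ᵁ k₁.opensRange)) := by
      refine H29Blow.isIso_morphismRestrict hd _ fun z hz hz' => ?_
      rw [Scheme.IdealSheafData.support_mul] at hz'
      rcases hz' with hz' | hz'
      · exact (hmemJ z).2 (hk₁j hz) (Scheme.IdealSheafData.support_antitone (le_sup_right : J ≤ A) hz')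
      · exact (hΛaway.ge hz : z ∈ awayFrom Λ) hz'
    haveI : IsIso (e ∣_ (d ⁻¹ᵁ (φ₁ ⁻¹ᵁ k₁.opensRange))) := by
      refine H29Blow.isIso_morphismRestrict he _ fun z hz hz' => ?_
      rw [Scheme.IdealSheafData.support_mul] at hz'
      rcases hz' with hz' | hz'
      · exact hE₁d z (hk₁j hz) hz'
      · exact hE₂d z (hk₂j (hΩ₂ _ hz)) hz'
    haveI : IsIso ((e ≫ d) ∣_ (φ₁ ⁻¹ᵁ k₁.opensRange)) := by rw [morphismRestrict_comp]; infer_instance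
    show IsIso ((e ≫ d ≫ φ₁) ∣_ k₁.opensRange)
    rw [← Category.assoc, morphismRestrict_comp]
    infer_instance
  let u : (U₀ : Scheme.{u}) ⟶ X₁ :=
    k₁.isoOpensRange.hom ≫ inv (f₁ ∣_ k₁.opensRange) ≫ (f₁ ⁻¹ᵁ k₁.opensRange).ι
  have huf : u ≫ f₁ = k₁ := by
    simp only [u, Category.assoc, ← morphismRestrict_ι, IsIso.inv_hom_id_assoc, Scheme.Hom.isoOpensRange_hom_ι]
  have hu₀ : u ≫ e ≫ d = γ.toImage := by
    refine eq_of_mono_restrict φ₁ k₁.opensRange _ _ (by rw [hu₁]; simpa [f₁] using huf) ?_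
    rw [show (u ≫ e ≫ d) ≫ φ₁ = k₁ by simpa [f₁] using huf]
    exact fun _ h => h
  haveI : IsSchemeTheoreticallyDominant u := by
    haveI : IsSchemeTheoreticallyDominant (f₁ ⁻¹ᵁ k₁.opensRange).ι := by
      rw [← hDaway]; exact schDominant_awayFrom hD
    infer_instance
  haveI : QuasiCompact u := QuasiCompact.of_comp u (terminal.from _)
  have hp₁ : u ≫ e ≫ d ≫ φ₁ = k₁ := by rw [reassoc_of% hu₀, hu₁]
  have hp₂ : u ≫ e ≫ d ≫ φ₂ = k₂ := by rw [reassoc_of% hu₀, hu₂]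
  have hus₁ : u ≫ s₁ = a₁ ≫ j₁' := by
    refine eq_of_disjoint hc₁ _ _ (by rw [Category.assoc, hs₁, hp₁, Category.assoc, hj₁']) ?_
    rw [Category.assoc, hs₁, hp₁]
    refine Set.disjoint_left.mpr ?_
    rintro _ ⟨z, rfl⟩ hz
    exact Set.disjoint_left.mp hE₁.2 hz ⟨a₁ z, rfl⟩
  have hus₂ : u ≫ s₂ = a₂ ≫ j₂' := by
    refine eq_of_disjoint hc₂ _ _ (by rw [Category.assoc, hs₂, hp₂, Category.assoc, hj₂']) ?_
    rw [Category.assoc, hs₂, hp₂]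
    refine Set.disjoint_left.mpr ?_
    rintro _ ⟨z, rfl⟩ hz
    exact Set.disjoint_left.mp hE₂.2 hz ⟨a₂ z, rfl⟩
  -- the bad sets are disjoint
  let D₁ := closure (c₁.base ⁻¹' ((k₁.opensRange : Set Y₁)ᶜ ∩ (j₁.opensRange : Set Y₁)))
  let D₂ := closure (c₂.base ⁻¹' ((k₂.opensRange : Set Y₂)ᶜ ∩ (j₂.opensRange : Set Y₂)))
  have hdense : ∀ (N : Set X₁), IsOpen N → N.Nonempty → ∃ w ∈ N, f₁ w ∈ k₁.opensRange := by
    intro N hN hNne
    haveI := isDominant_awayFrom hD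
    obtain ⟨w, hw⟩ := (awayFrom D).ι.denseRange.exists_mem_open hN hNne
    exact ⟨_, hw, (hDaway.le w.2 : (awayFrom D).ι w ∈ f₁ ⁻¹ᵁ k₁.opensRange)⟩
  have hsep : Disjoint (s₁.base ⁻¹' D₁) (s₂.base ⁻¹' D₂) := by
    refine Set.disjoint_left.mpr fun z hz₁ hz₂ => ?_
    have h₁ : e z ∉ O₁ := fun h => by
      refine hsep₁ X₁ e s₁ hs₁.symm z h hz₁ (mem_closure_iff.mpr fun N hN hzN => ?_)
      obtain ⟨w, ⟨hwN, hwO⟩, hw⟩ := hdense (N ∩ e.base ⁻¹' O₁) (hN.inter (O₁.2.preimage e.continuous)) ⟨z, hzN, h⟩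
      exact ⟨w, hwN, hwO, hk₁j hw⟩
    have h₂ : e z ∉ O₂ := fun h => by
      refine hsep₂ X₁ e s₂ hs₂.symm z h hz₂ (mem_closure_iff.mpr fun N hN hzN => ?_)
      obtain ⟨w, ⟨hwN, hwO⟩, hw⟩ := hdense (N ∩ e.base ⁻¹' O₂) (hN.inter (O₂.2.preimage e.continuous)) ⟨z, hzN, h⟩
      exact ⟨w, hwN, hwO, hk₂j (hΩ₂ _ hw)⟩
    exact h₂ (hO₂ h₁)
  have hjR : ∀ {Y Y' V : Scheme.{u}} (c : Y' ⟶ Y) (j : V ⟶ Y) [IsOpenImmersion j] (j' : V ⟶ Y') (a : (U₀ : Scheme.{u}) ⟶ V)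
      (R : Set Y), IsOpen R → (∀ z, j (a z) ∈ R) → j' ≫ c = j →
      Disjoint (Set.range (a ≫ j')) (closure (c.base ⁻¹' (Rᶜ ∩ (j.opensRange : Set Y)))) := by
    intro Y Y' V c j _ j' a R hR hz hj'
    refine Set.disjoint_left.mpr ?_
    rintro _ ⟨z, rfl⟩ hy
    obtain ⟨y, hy₁, hy₂, -⟩ := mem_closure_iff.mp hy (c.base ⁻¹' R) (hR.preimage c.continuous) (by
      show c (j' (a z)) ∈ R
      rw [← Scheme.Hom.comp_apply, hj']
      exact hz z)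
    exact hy₂ hy₁
  have hR₁ := hjR c₁ j₁ j₁' a₁ (k₁.opensRange : Set Y₁) k₁.opensRange.2 (fun z => ⟨z, rfl⟩) hj₁'
  have hR₂ := hjR c₂ j₂ j₂' a₂ (k₂.opensRange : Set Y₂) k₂.opensRange.2 (fun z => ⟨z, rfl⟩) hj₂'
  haveI : QuasiSeparatedSpace Y₁' := quasiSeparatedSpace_of_quasiSeparated c₁
  haveI : QuasiSeparatedSpace Y₂' := quasiSeparatedSpace_of_quasiSeparated c₂
  obtain ⟨G₁, hG₁c, hG₁le, hG₁⟩ := H8Props.PushoutQF.exists_qc_open (⟨D₁ᶜ, isClosed_closure.isOpen_compl⟩ : Y₁'.Opens)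
    (Set.range (a₁ ≫ j₁') ∪ s₁.base '' (s₂.base ⁻¹' D₂))
    ((isCompact_range (a₁ ≫ j₁').continuous).union
      ((isClosed_closure.preimage s₂.continuous).isCompact.image s₁.continuous))
    (by
      rintro y (hy | ⟨z, hz, rfl⟩)
      · exact Set.disjoint_left.mp hR₁ hy
      · exact fun h => Set.disjoint_left.mp hsep h hz)
  obtain ⟨G₂, hG₂c, hG₂le, hG₂⟩ := H8Props.PushoutQF.exists_qc_open (⟨D₂ᶜ, isClosed_closure.isOpen_compl⟩ : Y₂'.Opens)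
    (Set.range (a₂ ≫ j₂') ∪ s₂.base '' (s₁.base ⁻¹' (G₁ : Set Y₁')ᶜ))
    ((isCompact_range (a₂ ≫ j₂').continuous).union
      ((G₁.2.isClosed_compl.preimage s₁.continuous).isCompact.image s₂.continuous))
    (by
      rintro y (hy | ⟨z, hz, rfl⟩)
      · exact Set.disjoint_left.mp hR₂ hy
      · exact fun h => hz (hG₁ (.inr ⟨z, h, rfl⟩)))
  refine exists_compactification_of_model g U₁ U₂ hU₁ hU₂ hcov j₁' (c₁ ≫ π₁) (by rw [reassoc_of% hj₁', hj₁])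
    j₂' (c₂ ≫ π₂) (by rw [reassoc_of% hj₂', hj₂]) (e ≫ πX) u
    s₁ (by rw [reassoc_of% hs₁]) hus₁ s₂ (by
      rw [reassoc_of% hs₂, ← hp₂π]; simp only [Category.assoc]) hus₂ G₁ hG₁c ?_ G₂ hG₂c ?_ ?_
  · refine le_antisymm ?_ ?_
    · rintro _ ⟨hy, ⟨w, rfl⟩⟩
      by_contra hne
      refine hG₁le hy (subset_closure ⟨?_, ⟨w, (hom_congr_apply hj₁' w).symm⟩⟩)
      rintro ⟨z, hz⟩
      refine hne ⟨z, ?_⟩
      have : a₁ z = w := j₁.isOpenEmbedding.injective (hz.trans (hom_congr_apply hj₁' w))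
      rw [Scheme.Hom.comp_apply, ← this]
    · rintro _ ⟨z, rfl⟩
      exact ⟨hG₁ (.inl ⟨z, rfl⟩), ⟨a₁ z, rfl⟩⟩
  · refine le_antisymm ?_ ?_
    · rintro _ ⟨hy, ⟨w, rfl⟩⟩
      by_contra hne
      refine hG₂le hy (subset_closure ⟨?_, ⟨w, (hom_congr_apply hj₂' w).symm⟩⟩)
      rintro ⟨z, hz⟩
      refine hne ⟨z, ?_⟩
      have : a₂ z = w := j₂.isOpenEmbedding.injective (hz.trans (hom_congr_apply hj₂' w))
      rw [Scheme.Hom.comp_apply, ← this]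
    · rintro _ ⟨z, rfl⟩
      exact ⟨hG₂ (.inl ⟨z, rfl⟩), ⟨a₂ z, rfl⟩⟩
  · refine eq_top_iff.mpr fun z _ => ?_
    show s₁ z ∈ G₁ ∨ s₂ z ∈ G₂
    by_cases h : s₁ z ∈ G₁
    · exact .inl h
    · exact .inr (hG₂ (.inr ⟨z, h, rfl⟩))

end Groth.Agent.H7Flat.Flatten
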