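import Groth.Agent.H7Flat.Flatten.Common
import Groth.Agent.H7Flat.Flatten.NagataB
import Groth.Agent.H11Strict.SeparateClosed
import Groth.Agent.S10855
import Mathlib

/-!
# The strict transform of a modification near the closure of a closed subset of the good open
-/

set_option autoImplicit false
set_option linter.style.haveILetI false
set_option backward.isDefEq.respectTransparency false
set_option maxHeartbeats 1000000

universe u

open AlgebraicGeometry CategoryTheory Limits TopologicalSpace Opposite HTop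

namespace Groth.Agent.H7Flat.Flatten

/-- Separating a closed subset of a quasi-compact open from the complement of a neighbourhood. -/
theorem exists_separating_centre {Y : Scheme.{u}} [CompactSpace Y] [QuasiSeparatedSpace Y] (V W₀ : Y.Opens)
    (hV : IsCompact (V : Set Y)) (hW₀ : IsCompact (W₀ : Set Y)) (T : Set Y) (hTW : T ⊆ W₀)
    (hT : ∀ y ∈ V, y ∈ closure T → y ∈ W₀) :
    ∃ A : Y.IdealSheafData, BlowUp.IsAdmissibleFor V A ∧
      ∀ (Y₁ : Scheme.{u}) (q : Y₁ ⟶ Y), BlowUp.IsBlowUp q A →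
        closure (q.base ⁻¹' ((V : Set Y) \ W₀)) ∩ closure (q.base ⁻¹' T) = ∅ := by
  obtain ⟨B, hB, hBaway⟩ := exists_centre_awayFrom_eq W₀ hW₀
  have hmemB : ∀ y, y ∉ (B.support : Set Y) ↔ y ∈ W₀ := fun y =>
    Set.ext_iff.mp (congrArg (fun O : Y.Opens => (O : Set Y)) hBaway) y
  let I := Scheme.IdealSheafData.vanishingIdeal ⟨closure T, isClosed_closure⟩
  have hI : (I.support : Set Y) = closure T := by simp [I]
  obtain ⟨J, hJI, hJ, hJd⟩ := H11Strict.exists_ft_le_disjoint I ((V : Set Y) \ W₀)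
    (hV.inter_right W₀.2.isClosed_compl)
    (by rw [hI]; exact Set.disjoint_left.mpr fun y hy hy' => hy'.2 (hT y hy'.1 hy))
  have hTJ : T ⊆ (J.support : Set Y) := fun y hy =>
    Scheme.IdealSheafData.support_antitone hJI (hI ▸ subset_closure hy : y ∈ (I.support : Set Y))
  let A := B ⊔ J
  have hAV : Disjoint (A.support : Set Y) (V : Set Y) := Set.disjoint_left.mpr fun y hy hyV =>
    Set.disjoint_left.mp hJd (Scheme.IdealSheafData.support_antitone (le_sup_right : J ≤ A) hy)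
      ⟨hyV, fun h => (hmemB y).2 h (Scheme.IdealSheafData.support_antitone (le_sup_left : B ≤ A) hy)⟩
  refine ⟨A, ⟨H11Strict.isFiniteTypeIdeal_sup hB hJ, hAV⟩, fun Y₁ q hq => ?_⟩
  exact H11Strict.inter_closure_eq_empty (𝟙 Y) ((V : Set Y) \ W₀) T A B J
    (fun y hy => by_contra fun h => hy.2 ((hmemB y).1 h))
    (Set.disjoint_left.mpr fun y hy hy' => Set.disjoint_left.mp hAV hy hy'.1)
    hTJ (fun y hy hy' => (hmemB y).2 (hTW hy) (Scheme.IdealSheafData.support_antitone (le_sup_left : B ≤ A) hy'))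
    le_sup_left (by rw [Scheme.IdealSheafData.comap_id, Scheme.IdealSheafData.comap_id])
    q hq.1 q (𝟙 Y₁) (by simp)

/-- A section of the strict transform over an open where the morphism is generically an isomorphism. -/
theorem isIso_strict_restrict_of_section {X Y X' Y' : Scheme.{u}} {f : X ⟶ Y} [IsSeparated f] {b : Y' ⟶ Y}
    {p₁ : X' ⟶ X} {p₂ : X' ⟶ Y'} (hc : IsPullback p₁ p₂ f b) {K : Y.IdealSheafData} (hb : BlowUp.IsBlowUp b K)
    (W₀ : Y.Opens) [Mono (f ∣_ W₀)] (W' : Y'.Opens) (h : (W' : Scheme.{u}) ⟶ X) (hh : h ≫ f = W'.ι ≫ b)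
    (hgood : ∀ y ∈ W', b y ∈ awayFrom K → b y ∈ W₀) :
    IsIso (((supportedOn ((K.comap f).comap p₁)).subschemeι ≫ p₂) ∣_ W') := by
  haveI : IsSeparated p₂ := MorphismProperty.of_isPullback hc ‹IsSeparated f›
  let E := (K.comap f).comap p₁
  let w := (supportedOn E).subschemeι
  let g := w ≫ p₂
  let R := g ⁻¹ᵁ W'
  let gR := g ∣_ W'
  have hE : HTop.IsLocPrincipal E := isEffCartier_strict hc hb
  let σ₀ : (W' : Scheme.{u}) ⟶ X' := hc.lift h W'.ι hh
  have hEσ : E.comap σ₀ = (K.comap b).comap W'.ι := by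
    rw [← Scheme.IdealSheafData.comap_comp, ← Scheme.IdealSheafData.comap_comp, hc.lift_fst, hh,
      Scheme.IdealSheafData.comap_comp]
  have hσker : w.ker ≤ σ₀.ker := by
    rw [Scheme.IdealSheafData.ker_subschemeι]
    refine H18HTop.supportedOn_le_ker σ₀ E ?_
    rw [hEσ]
    exact S10855.result W'.ι (K.comap b) hb.1
  let σ₁ := IsClosedImmersion.lift w σ₀ hσker
  have hσ₁ : σ₁ ≫ g = W'.ι := by
    rw [← Category.assoc, IsClosedImmersion.lift_fac, hc.lift_snd]
  let σ : (W' : Scheme.{u}) ⟶ (R : Scheme.{u}) := IsOpenImmersion.lift R.ι σ₁ (by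
    rw [Scheme.Opens.range_ι]
    rintro _ ⟨z, rfl⟩
    show g (σ₁ z) ∈ W'
    rw [← Scheme.Hom.comp_apply, hσ₁]
    exact z.2)
  have hσR : σ ≫ R.ι = σ₁ := IsOpenImmersion.lift_fac _ _ _
  have hσ : σ ≫ gR = 𝟙 _ := by
    rw [← cancel_mono W'.ι, Category.assoc, morphismRestrict_ι, reassoc_of% hσR, hσ₁, Category.id_comp]
  haveI : IsClosedImmersion σ := by
    haveI : IsClosedImmersion (σ ≫ gR) := by rw [hσ]; infer_instance
    exact IsClosedImmersion.of_comp σ gR
  -- the section contains the schematically dense open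
  let ER := (E.comap w).comap R.ι
  have hER : BlowUp.IsEffCartierIdeal ER :=
    S10855.result R.ι _ (H18HTop.isEffCartierIdeal_comap_supportedOn hE)
  let D := awayFrom ER
  have hD : D.ι ≫ gR ≫ σ = D.ι := by
    rw [← cancel_mono R.ι, ← cancel_mono w]
    simp only [Category.assoc, reassoc_of% hσR, σ₁, IsClosedImmersion.lift_fac]
    refine hc.hom_ext ?_ ?_
    · simp only [Category.assoc, σ₀, IsPullback.lift_fst]
      have he : D.ι ≫ gR ≫ h ≫ f = D.ι ≫ R.ι ≫ w ≫ p₁ ≫ f := by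
        rw [hh, hc.w, ← Category.assoc gR, morphismRestrict_ι]
        simp only [g, R, Category.assoc]
      refine eq_of_mono_restrict f W₀ _ _ (by simpa only [Category.assoc] using he) ?_
      simp only [Category.assoc]
      rw [he]
      rintro _ ⟨z, rfl⟩
      have hz : p₁ (w (R.ι (D.ι z))) ∈ f ⁻¹ᵁ awayFrom K := by
        have h1 : (D.ι z) ∈ awayFrom ER := z.2
        simp only [ER, E, H18HTop.awayFrom_comap] at h1
        exact h1
      have hbz : b (p₂ (w (R.ι (D.ι z)))) = f (p₁ (w (R.ι (D.ι z)))) := by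
        rw [← Scheme.Hom.comp_apply p₂ b, ← hc.w, Scheme.Hom.comp_apply]
      simp only [Scheme.Hom.comp_apply]
      rw [← hbz]
      exact hgood _ (D.ι z).2 (by rw [hbz]; exact hz)
    · simp only [Category.assoc, σ₀, IsPullback.lift_snd, gR, morphismRestrict_ι]
      rfl
  haveI : IsIso σ := by
    haveI := schDominant_awayFrom hER
    refine IsClosedImmersion.isIso_iff_ker_eq_bot.mpr (le_bot_iff.mp ?_)
    have h1 := Scheme.Hom.le_ker_comp (D.ι ≫ gR) σ
    rw [Category.assoc, hD, Scheme.Hom.ker_eq_bot D.ι] at h1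
    exact h1
  exact IsIso.of_isIso_fac_left hσ

/-- The strict transform of a modification is an isomorphism near the closure after an admissible blow-up. -/
theorem exists_iso_near_closure {X Y : Scheme.{u}} [CompactSpace Y] [QuasiSeparatedSpace Y]
    (f : X ⟶ Y) [IsProper f] (V : Y.Opens) (hV : IsCompact (V : Set Y)) (T : Set Y) (W₀ : Y.Opens)
    (hW₀ : IsCompact (W₀ : Set Y)) (hTW : T ⊆ W₀) (hT : ∀ y ∈ V, y ∈ closure T → y ∈ W₀) [IsIso (f ∣_ W₀)] :
    ∃ (K : Y.IdealSheafData) (Y' : Scheme.{u}) (b : Y' ⟶ Y), BlowUp.IsBlowUp b K ∧ BlowUp.IsAdmissibleFor V K ∧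
      ∀ (X' : Scheme.{u}) (p₁ : X' ⟶ X) (p₂ : X' ⟶ Y'), IsPullback p₁ p₂ f b →
        ∃ W' : Y'.Opens, closure (b.base ⁻¹' T) ⊆ W' ∧
          IsIso (((supportedOn ((K.comap f).comap p₁)).subschemeι ≫ p₂) ∣_ W') := by
  obtain ⟨A, hA, hsep⟩ := exists_separating_centre V W₀ hV hW₀ T hTW hT
  obtain ⟨Y₁, q, hq⟩ := H26Blow.exists_isBlowUp A
  haveI := isProper_blowUp hA.1 hq
  haveI : CompactSpace Y₁ := QuasiCompact.compactSpace_of_compactSpace q
  haveI : QuasiSeparatedSpace Y₁ := quasiSeparatedSpace_of_quasiSeparated q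
  have hd := hsep Y₁ q hq
  obtain ⟨O, hOc, hOle, hO⟩ := H8Props.PushoutQF.exists_qc_open
    (⟨(closure (q.base ⁻¹' ((V : Set Y) \ W₀)))ᶜ, isClosed_closure.isOpen_compl⟩ : Y₁.Opens)
    (closure (q.base ⁻¹' T)) isClosed_closure.isCompact
    (fun z hz hz' => (hd ▸ ⟨hz', hz⟩ : z ∈ (∅ : Set Y₁)))
  have hOW : ∀ z ∈ O, q z ∈ V → q z ∈ W₀ := fun z hz hzV => by_contra fun h => hOle hz (subset_closure ⟨hzV, h⟩)
  haveI : CompactSpace (O : Scheme.{u}) := isCompact_iff_compactSpace.mp hOc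
  haveI : QuasiCompact O.ι := H11Strict.quasiCompact_ι O hOc
  let U₁ := q ⁻¹ᵁ V
  have hU₁ : IsCompact (U₁ : Set Y₁) := q.isCompact_preimage hV
  let U₂ : (O : Scheme.{u}).Opens := O.ι ⁻¹ᵁ U₁
  have hU₂ : IsCompact (U₂ : Set O) := O.ι.isCompact_preimage hU₁
  haveI : QuasiSeparatedSpace (O : Scheme.{u}) := quasiSeparatedSpace_of_quasiSeparated O.ι
  let φ := pullback.snd f (O.ι ≫ q)
  haveI : IsIso (φ ∣_ U₂) := by
    refine property_of_range_subset (P := MorphismProperty.isomorphisms Scheme)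
      ((isPullback_morphismRestrict φ U₂).flip.paste_horiz (IsPullback.of_hasPullback f (O.ι ≫ q))) (U := W₀) ?_
      (inferInstanceAs (IsIso (f ∣_ W₀)))
    rintro _ ⟨z, rfl⟩
    simp only [Scheme.Hom.comp_apply]
    exact hOW _ (U₂.ι z).2 z.2
  obtain ⟨L, O', t, ht, hL, hLaway, h, hh⟩ := exists_iso_blowup φ U₂ hU₂
  obtain ⟨J, hJ, hJO⟩ := H11Strict.exists_admissible_extension U₁ O hU₁ hOc L hL
  obtain ⟨Y', c, hc⟩ := H26Blow.exists_isBlowUp J
  obtain ⟨K, hK, hKs, hKb⟩ := H11Strict.exists_isBlowUp_comp A hA.1 q hq J hJ.1 c hc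
  have hadm : BlowUp.IsAdmissibleFor V K := by
    refine ⟨hK, ?_⟩
    rw [hKs, Set.disjoint_union_left]
    refine ⟨hA.2, Set.disjoint_left.mpr ?_⟩
    rintro _ ⟨y, hy, rfl⟩ hyV
    exact Set.disjoint_left.mp hJ.2 hy hyV
  have hBl := S1680.result O.ι J c hc
  rw [hJO] at hBl
  obtain ⟨θ, hθ, -⟩ := ht.2 _ _ hBl.1
  let l : ((c ⁻¹ᵁ O : Y'.Opens) : Scheme.{u}) ⟶ pullback O.ι c :=
    pullback.lift (c ∣_ O) (c ⁻¹ᵁ O).ι (morphismRestrict_ι c O)
  let hW : ((c ⁻¹ᵁ O : Y'.Opens) : Scheme.{u}) ⟶ X := l ≫ θ ≫ h ≫ pullback.fst f (O.ι ≫ q)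
  refine ⟨K, Y', c ≫ q, hKb, hadm, fun X' p₁ p₂ hp => ⟨c ⁻¹ᵁ O, ?_, ?_⟩⟩
  · intro z hz
    show c z ∈ O
    refine hO ?_
    exact closure_minimal (fun w hw => subset_closure (by simpa using hw) :
      (c ≫ q).base ⁻¹' T ⊆ c.base ⁻¹' closure (q.base ⁻¹' T)) (isClosed_closure.preimage c.continuous) hz
  · refine isIso_strict_restrict_of_section hp hKb W₀ (c ⁻¹ᵁ O) hW ?_ fun y hy hyK => ?_
    · simp only [hW, Category.assoc, pullback.condition]
      rw [show pullback.snd f (O.ι ≫ q) = φ from rfl, reassoc_of% hh, reassoc_of% hθ]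
      simp [l]
    · rw [Scheme.Hom.comp_apply] at hyK ⊢
      refine hOW _ hy (by_contra fun hyV => hyK ?_)
      show q (c y) ∈ (K.support : Set Y)
      rw [hKs]
      refine Or.inr ⟨c y, ?_, rfl⟩
      have h1 : (⟨c y, hy⟩ : (O : Scheme.{u})) ∉ awayFrom L := by
        rw [hLaway]; exact hyV
      rw [← hJO, H18HTop.awayFrom_comap] at h1
      exact not_not.mp h1

end Groth.Agent.H7Flat.Flatten
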