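import Groth.Agent.H7Flat.Flatten.Basic
import Groth.Prelude.Def_BlowUp2
import Mathlib

/-!
# Products of ideals becoming principal, and affine blow-up algebras
-/

set_option autoImplicit false
set_option linter.style.haveILetI false
set_option backward.isDefEq.respectTransparency false

universe u

open TensorProduct

namespace Groth.Agent.H7Flat.Flatten

theorem nzd_localization {A : Type u} [CommRing A] (S : Submonoid A) (L : Type u) [CommRing L] [Algebra A L]
    [IsLocalization S L] {t : A} (ht : t ∈ nonZeroDivisors A) : algebraMap A L t ∈ nonZeroDivisors L := by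
  refine mem_nonZeroDivisors_iff_right.mpr fun z hz => ?_
  obtain ⟨⟨z₀, s⟩, rfl⟩ := IsLocalization.mk'_surjective S z
  rw [← IsLocalization.mk'_one (M := S) L t, ← IsLocalization.mk'_mul, IsLocalization.mk'_eq_zero_iff] at hz
  obtain ⟨u, hu⟩ := hz
  rw [IsLocalization.mk'_eq_zero_iff]
  exact ⟨u, mem_nonZeroDivisors_iff_right.mp ht _ (by rw [mul_assoc]; exact hu)⟩

/-- A principal product of two finitely generated ideals: near each prime both factors are principal,
generated by given generators. -/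
theorem exists_principal_factors {A : Type u} [CommRing A] {I J : Ideal A} {s u : Set A}
    (hI : I = Ideal.span s) (hJ : J = Ideal.span u) {t : A} (ht : t ∈ nonZeroDivisors A)
    (hIJ : I * J = Ideal.span {t}) (Q : Ideal A) [Q.IsPrime] :
    ∃ g : A, g ∉ Q ∧ ∃ x ∈ s, ∃ y ∈ u, ∀ (L : Type u) [CommRing L] [Algebra A L], [IsLocalization.Away g L] →
      algebraMap A L x ∈ nonZeroDivisors L ∧ I.map (algebraMap A L) = Ideal.span {algebraMap A L x} ∧
      algebraMap A L y ∈ nonZeroDivisors L ∧ J.map (algebraMap A L) = Ideal.span {algebraMap A L y} ∧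
      ∃ v : L, IsUnit v ∧ algebraMap A L t = algebraMap A L x * algebraMap A L y * v := by
  subst hI hJ
  obtain ⟨x, hx, y, hy, e, he, hxy⟩ : ∃ x ∈ s, ∃ y ∈ u, ∃ e, e ∉ Q ∧ x * y = t * e := by
    by_contra! hne
    have hle : Ideal.span s * Ideal.span u ≤ Q * Ideal.span {t} := by
      rw [Ideal.span_mul_span', Ideal.span_le]
      rintro _ ⟨x, hx, y, hy, rfl⟩
      have hm : x * y ∈ Ideal.span {t} := hIJ ▸ Ideal.mul_mem_mul (Ideal.subset_span hx) (Ideal.subset_span hy)
      obtain ⟨e, he⟩ := Ideal.mem_span_singleton'.mp hm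
      have heQ : e ∈ Q := by_contra fun h => hne x hx y hy e h (by rw [← he, mul_comm])
      show x * y ∈ _
      rw [← he]
      exact Ideal.mul_mem_mul heQ (Ideal.mem_span_singleton_self t)
    rw [hIJ] at hle
    obtain ⟨z, hz, hzt⟩ := Ideal.mem_mul_span_singleton.mp (hle (Ideal.mem_span_singleton_self t))
    have hz1 : z = 1 := sub_eq_zero.mp (mem_nonZeroDivisors_iff_right.mp ht _
      (by rw [sub_mul, one_mul, hzt, sub_self]))
    exact ‹Q.IsPrime›.ne_top ((Ideal.eq_top_iff_one Q).mpr (hz1 ▸ hz))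
  refine ⟨e, he, x, hx, y, hy, fun L _ _ _ => ?_⟩
  have heu : IsUnit (algebraMap A L e) := IsLocalization.Away.algebraMap_isUnit e
  have htL := nzd_localization (Submonoid.powers e) L ht
  have hxyL : algebraMap A L x * algebraMap A L y = algebraMap A L t * algebraMap A L e := by
    rw [← map_mul, hxy, map_mul]
  have hn : algebraMap A L x * algebraMap A L y ∈ nonZeroDivisors L := hxyL ▸ mul_mem htL heu.mem_nonZeroDivisors
  have hxn := (mul_mem_nonZeroDivisors.mp hn).1
  have hyn := (mul_mem_nonZeroDivisors.mp hn).2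
  have key : ∀ (a b : A) (P P' : Ideal A), a ∈ P → b ∈ P' → P * P' ≤ Ideal.span {t} →
      algebraMap A L a * algebraMap A L b = algebraMap A L t * algebraMap A L e →
      algebraMap A L b ∈ nonZeroDivisors L →
      P.map (algebraMap A L) = Ideal.span {algebraMap A L a} := by
    intro a b P P' ha hb hle hab hbn
    refine le_antisymm (Ideal.map_le_iff_le_comap.mpr fun z hz => ?_)
      (Ideal.span_le.mpr (Set.singleton_subset_iff.mpr (Ideal.mem_map_of_mem _ ha)))
    obtain ⟨w, hw⟩ := Ideal.mem_span_singleton'.mp (hle (Ideal.mul_mem_mul hz hb))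
    obtain ⟨v, hv⟩ := heu
    rw [Ideal.mem_comap, Ideal.mem_span_singleton']
    refine ⟨algebraMap A L w * ↑v⁻¹, sub_eq_zero.mp (mem_nonZeroDivisors_iff_right.mp hbn _ ?_)⟩
    rw [sub_mul, mul_assoc _ (algebraMap A L a), hab, ← hv,
      mul_comm (algebraMap A L t), mul_assoc, Units.inv_mul_cancel_left, ← map_mul, hw, map_mul, sub_self]
  obtain ⟨v, hv⟩ := heu
  refine ⟨hxn, key x y _ _ (Ideal.subset_span hx) (Ideal.subset_span hy) hIJ.le hxyL hyn, hyn,
    key y x _ _ (Ideal.subset_span hy) (Ideal.subset_span hx) (by rw [mul_comm]; exact hIJ.le)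
      (by rw [mul_comm, hxyL]) hxn, ↑v⁻¹, Units.isUnit _, ?_⟩
  rw [hxyL, ← hv, Units.mul_inv_cancel_right]

/-- If an ideal becomes principal, generated by a nonzerodivisor `a` of it, the algebra receives the
affine blow-up algebra. -/
theorem exists_algHom_affineAlgebra {R A : Type u} [CommRing R] [CommRing A] [Algebra R A] (I : Ideal R) (a : R)
    (ha : algebraMap R A a ∈ nonZeroDivisors A)
    (hI : I.map (algebraMap R A) = Ideal.span {algebraMap R A a}) :
    Nonempty (↥(BlowUp.affineAlgebra R I a) →ₐ[R] A) := by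
  let LA := Localization.Away (algebraMap R A a)
  have hinj : Function.Injective (algebraMap A LA) :=
    IsLocalization.injective LA (Submonoid.powers_le.mpr ha)
  let f : Localization.Away a →ₐ[R] LA := IsLocalization.Away.liftAlgHom a (f := Algebra.ofId R LA)
    (by
      show IsUnit (algebraMap R LA a)
      rw [IsScalarTower.algebraMap_apply R A LA]
      exact IsLocalization.Away.algebraMap_isUnit _)
  let j : A →ₐ[R] LA := IsScalarTower.toAlgHom R A LA
  have hle : BlowUp.affineAlgebra R I a ≤ j.range.comap f := by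
    refine Algebra.adjoin_le ?_
    rintro _ ⟨x, hx, rfl⟩
    obtain ⟨c, hc⟩ := Ideal.mem_span_singleton'.mp (hI ▸ Ideal.mem_map_of_mem (algebraMap R A) hx)
    refine ⟨c, ?_⟩
    have hu : IsUnit (algebraMap A LA (algebraMap R A a)) := IsLocalization.Away.algebraMap_isUnit _
    refine hu.mul_left_inj.mp ?_
    show algebraMap A LA c * algebraMap A LA (algebraMap R A a) = f _ * _
    rw [← map_mul, hc, ← IsScalarTower.algebraMap_apply R A LA, ← IsScalarTower.algebraMap_apply R A LA,
      ← f.commutes a, ← map_mul]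
    conv_rhs => rw [IsLocalization.mk'_spec (Localization.Away a) x ⟨a, Submonoid.mem_powers a⟩]
    rw [AlgHom.commutes]
  let e := AlgEquiv.ofInjective j hinj
  exact ⟨e.symm.toAlgHom.comp
    (((f.comp (BlowUp.affineAlgebra R I a).val).codRestrict j.range) fun z => hle z.2)⟩

/-- Elements of the affine blow-up algebra are fractions `x / a ^ N` with `x ∈ I ^ N`. -/
theorem exists_numerator {R : Type u} [CommRing R] (I : Ideal R) (a : R) (ha : a ∈ I)
    (z : ↥(BlowUp.affineAlgebra R I a)) :
    ∃ (N : ℕ), ∀ M, N ≤ M → ∃ x ∈ I ^ M, z * algebraMap R _ a ^ M = algebraMap R _ x := by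
  suffices h : ∀ w ∈ BlowUp.affineAlgebra R I a, ∃ N : ℕ, ∀ M, N ≤ M → ∃ x ∈ I ^ M,
      w * algebraMap R (Localization.Away a) a ^ M = algebraMap R (Localization.Away a) x by
    obtain ⟨N, hN⟩ := h z.1 z.2
    refine ⟨N, fun M hM => ?_⟩
    obtain ⟨x, hx, hxz⟩ := hN M hM
    exact ⟨x, hx, Subtype.ext (by simpa using hxz)⟩
  intro w hw
  induction hw using Algebra.adjoin_induction with
  | mem w hw =>
    obtain ⟨x, hx, rfl⟩ := hw
    refine ⟨1, fun M hM => ⟨x * a ^ (M - 1), ?_, ?_⟩⟩
    · obtain ⟨k, rfl⟩ : ∃ k, M = k + 1 := ⟨M - 1, by omega⟩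
      rw [Nat.add_sub_cancel, pow_succ']
      exact Ideal.mul_mem_mul hx (Ideal.pow_mem_pow ha k)
    · obtain ⟨k, rfl⟩ : ∃ k, M = k + 1 := ⟨M - 1, by omega⟩
      rw [Nat.add_sub_cancel, pow_succ', ← mul_assoc,
        IsLocalization.mk'_spec (Localization.Away a) x ⟨a, Submonoid.mem_powers a⟩, map_mul, map_pow]
  | algebraMap r =>
    exact ⟨0, fun M _ => ⟨r * a ^ M, Ideal.mul_mem_left _ r (Ideal.pow_mem_pow ha M),
      by rw [map_mul, map_pow]⟩⟩
  | add u v _ _ hu hv =>
    obtain ⟨N₁, h₁⟩ := hu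
    obtain ⟨N₂, h₂⟩ := hv
    refine ⟨N₁ + N₂, fun M hM => ?_⟩
    obtain ⟨x, hx, hxu⟩ := h₁ M (by omega)
    obtain ⟨y, hy, hyv⟩ := h₂ M (by omega)
    exact ⟨x + y, add_mem hx hy, by rw [add_mul, hxu, hyv, map_add]⟩
  | mul u v _ _ hu hv =>
    obtain ⟨N₁, h₁⟩ := hu
    obtain ⟨N₂, h₂⟩ := hv
    refine ⟨N₁ + N₂, fun M hM => ?_⟩
    obtain ⟨x, hx, hxu⟩ := h₁ (M - N₂) (by omega)
    obtain ⟨y, hy, hyv⟩ := h₂ N₂ le_rfl
    refine ⟨x * y, ?_, ?_⟩
    · rw [show M = (M - N₂) + N₂ by omega, pow_add]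
      exact Ideal.mul_mem_mul hx hy
    · conv_lhs => rw [show M = (M - N₂) + N₂ by omega, pow_add, mul_mul_mul_comm, hxu, hyv]
      rw [map_mul]

/-- `I` is admissible for the open complement of `V(J)`. -/
def Adm {R : Type u} [CommRing R] (J I : Ideal R) : Prop := I.FG ∧ J ≤ I.radical

theorem adm_top {R : Type u} [CommRing R] (J : Ideal R) : Adm J ⊤ := ⟨Ideal.fg_top _, by rw [Ideal.radical_top]; exact le_top⟩

theorem Adm.mul {R : Type u} [CommRing R] {J I K : Ideal R} (hI : Adm J I) (hK : Adm J K) : Adm J (I * K) :=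
  ⟨hI.1.mul hK.1, by rw [Ideal.radical_mul]; exact le_inf hI.2 hK.2⟩

theorem Adm.prod {R : Type u} [CommRing R] {J : Ideal R} {ι : Type*} (s : Finset ι) (I : ι → Ideal R)
    (h : ∀ i ∈ s, Adm J (I i)) : Adm J (∏ i ∈ s, I i) :=
  Finset.prod_induction _ (Adm J) (fun _ _ => Adm.mul) (Ideal.one_eq_top (R := R) ▸ adm_top J) h

/-- The strict transform of `N` on `A` with respect to `t` is flat over `A` and finitely presented. -/
def GoodAt (R S : Type u) [CommRing R] [CommRing S] [Algebra R S] (N : Type u) [AddCommGroup N]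
    [Module S N] (A : Type u) [CommRing A] [Algebra R A] (t : A) : Prop :=
  ∀ (B M : Type u) [CommRing B] [Algebra A B] [Algebra R B] [Algebra S B] [IsScalarTower R A B]
    [IsScalarTower R S B] [Algebra.IsPushout R A S B] [AddCommGroup M] [Module B M] [Module S M]
    [IsScalarTower S B M] [Module A M] [IsScalarTower A B M] (φ : N →ₗ[S] M), IsBaseChange B φ →
    TFGood B t M

/-- Blowing up `I` makes the strict transform of `N` flat over the base and finitely presented. -/
def Flattening (R S : Type u) [CommRing R] [CommRing S] [Algebra R S] (N : Type u) [AddCommGroup N]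
    [Module S N] (I : Ideal R) : Prop :=
  ∀ (A : Type u) [CommRing A] [Algebra R A] (t : A), t ∈ nonZeroDivisors A →
    I.map (algebraMap R A) = Ideal.span {t} → GoodAt R S N A t

end Groth.Agent.H7Flat.Flatten
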