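import Groth.Agent.H7Flat.Flatten.ConstRank
import Mathlib

/-!
# The rank at the generic points of the fibres
-/

set_option autoImplicit false
set_option linter.style.haveILetI false
set_option backward.isDefEq.respectTransparency false
set_option maxHeartbeats 1000000

universe u

open TensorProduct

namespace Groth.Agent.H7Flat.Flatten

theorem map_bijective_of_le {D F G : Type u} [CommRing D] [AddCommGroup F] [Module D F] [AddCommGroup G]
    [Module D G] {T T' : Submonoid D} (hle : T ≤ T') (α : F →ₗ[D] G)
    (h : Function.Bijective (LocalizedModule.map T α)) : Function.Bijective (LocalizedModule.map T' α) := by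
  refine ⟨(FiberBasis.injective_map_iff T' α).mpr fun x hx => ?_, fun z => ?_⟩
  · obtain ⟨t, ht, htx⟩ := (FiberBasis.injective_map_iff T α).mp h.1 x hx
    exact ⟨t, hle ht, htx⟩
  · induction z using LocalizedModule.induction_on with
    | _ m s =>
      obtain ⟨w, hw⟩ := h.2 (LocalizedModule.mk m 1)
      induction w using LocalizedModule.induction_on with
      | _ y u =>
        rw [LocalizedModule.map_mk, LocalizedModule.mk_eq] at hw
        obtain ⟨c, hc⟩ := hw
        refine ⟨LocalizedModule.mk y (⟨(u : D), hle u.2⟩ * s), ?_⟩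
        rw [LocalizedModule.map_mk, LocalizedModule.mk_eq]
        refine ⟨⟨(c : D), hle c.2⟩, ?_⟩
        simp only [Submonoid.smul_def, one_smul, Submonoid.coe_mul, smul_smul] at hc ⊢
        calc ((c : D) * (s : D)) • α y = (s : D) • (c : D) • α y := by rw [smul_smul, mul_comm]
          _ = (s : D) • ((c : D) * (u : D)) • m := by rw [hc]
          _ = ((c : D) * ((u : D) * (s : D))) • m := by rw [smul_smul]; ring_nf

/-- The module is free of rank `r` wherever such a map is bijective. -/
theorem free_rank_of_bijective {D G : Type u} [CommRing D] [AddCommGroup G] [Module D G] {r : ℕ}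
    (α : (Fin r → D) →ₗ[D] G) (g : D) (hα : Function.Bijective (LocalizedModule.map (Submonoid.powers g) α))
    (P : Ideal D) [P.IsPrime] (hg : g ∉ P) :
    Module.Free (Localization.AtPrime P) (LocalizedModule P.primeCompl G) ∧
      Module.rank (Localization.AtPrime P) (LocalizedModule P.primeCompl G) = r := by
  have hb := map_bijective_of_le (Submonoid.powers_le.mpr (show g ∈ P.primeCompl from hg)) α hα
  let b := ((Pi.basisFun D (Fin r)).ofIsLocalizedModule (Localization.AtPrime P) P.primeCompl
    (LocalizedModule.mkLinearMap P.primeCompl (Fin r → D))).map (LinearEquiv.ofBijective _ hb)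
  exact ⟨Module.Free.of_basis b, by rw [rank_eq_card_basis b, Fintype.card_fin]⟩

/-- Near the generic point of a fibre over the good locus the module is free. -/
theorem exists_rank_data_of {R D G : Type u} [CommRing R] [CommRing D] [Algebra R D] [Algebra.FinitePresentation R D]
    [Module.Flat R D] (hgi : FlatCA.GeomIntegralFibres R D) [AddCommGroup G] [Module D G] [Module.Finite D G]
    [Module R G] [IsScalarTower R D G] (f : R)
    (hfpG : Module.FinitePresentation (Localization.Away (algebraMap R D f))
      (LocalizedModule (Submonoid.powers (algebraMap R D f)) G))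
    (hflat : ∀ (p : Ideal R) [p.IsPrime] [(p.map (algebraMap R D)).IsPrime], f ∉ p →
      FlatCA.FlatAt R (p.map (algebraMap R D)) G)
    (p : Ideal R) [p.IsPrime] (hfp : f ∉ p) :
    ∃ (r : ℕ) (g : D) (α : (Fin r → D) →ₗ[D] G), g ∉ p.map (algebraMap R D) ∧
      Function.Bijective (LocalizedModule.map (Submonoid.powers g) α) := by
  classical
  haveI : IsDomain (p.Fiber D) := Groth.Agent.S1223.isDomain_fiber hgi R D p
  obtain ⟨hP, hPc⟩ := AffineBlowupRank.isPrime_map (S := D) p
  haveI := hP
  let P := p.map (algebraMap R D)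
  haveI : P.LiesOver p := ⟨hPc.symm⟩
  have hfP : algebraMap R D f ∉ P := fun h => hfp (hPc ▸ Ideal.mem_comap.mpr h)
  obtain ⟨r, α, hα⟩ := FiberBasis.exists_basis (N := G) P
  have hk := FiberBasis.kills_of_flatAt p P α hα.1 (hflat p hfp)
  have hαP : Function.Bijective (LocalizedModule.map P.primeCompl α) := by
    refine ⟨FiberBasis.kills_injective _ α hk, fun z => ?_⟩
    induction z using LocalizedModule.induction_on with
    | _ m s =>
      obtain ⟨t, ht, y, hy⟩ := FiberBasis.exists_smul_mem_range P α hα.2 m
      refine ⟨LocalizedModule.mk y (⟨t, ht⟩ * s), ?_⟩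
      rw [LocalizedModule.map_mk, hy, LocalizedModule.mk_eq]
      exact ⟨1, by simp only [Submonoid.smul_def, Submonoid.coe_mul, one_smul, smul_smul]; rw [mul_comm]⟩
  haveI := hfpG
  obtain ⟨M₀, _, _, _, φ₀, hφ₀, hker⟩ := AffineBlowupRank.exists_fp_cover (M := G) (algebraMap R D f)
  have hφb : ∀ T : Submonoid D, algebraMap R D f ∈ T → Function.Bijective (LocalizedModule.map T φ₀) := fun T hT =>
    ⟨(FiberBasis.injective_map_iff T φ₀).mpr fun x hx => by
      obtain ⟨n, hn⟩ := hker x hx
      exact ⟨_, pow_mem hT n, hn⟩, LocalizedModule.map_surjective _ _ hφ₀⟩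
  obtain ⟨α₀, hα₀⟩ := Module.projective_lifting_property φ₀ α hφ₀
  have hcomp : ∀ (T : Submonoid D) x, LocalizedModule.map T α x = LocalizedModule.map T φ₀ (LocalizedModule.map T α₀ x) := by
    intro T x
    induction x using LocalizedModule.induction_on with
    | _ m s => rw [LocalizedModule.map_mk, LocalizedModule.map_mk, LocalizedModule.map_mk, ← hα₀]; rfl
  have hα₀P : Function.Bijective (LocalizedModule.map P.primeCompl α₀) := by
    have h1 : ⇑(LocalizedModule.map P.primeCompl α) =
        ⇑(LocalizedModule.map P.primeCompl φ₀) ∘ ⇑(LocalizedModule.map P.primeCompl α₀) :=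
      funext fun x => hcomp _ x
    rw [h1] at hαP
    exact (Function.Bijective.of_comp_iff' (hφb _ hfP) _).mp hαP
  obtain ⟨g, hg, hgt⟩ := exists_bijective_map_powers P.primeCompl
    (LocalizedModule.mkLinearMap P.primeCompl (Fin r → D)) (LocalizedModule.mkLinearMap P.primeCompl M₀) α₀
    (by
      refine (Eq.mp ?_ hα₀P)
      refine congrArg Function.Bijective (funext fun x => ?_)
      induction x using LocalizedModule.induction_on with
      | _ m s =>
        rw [LocalizedModule.map_mk, IsLocalizedModule.map_LocalizedModules])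
  refine ⟨r, g * algebraMap R D f, α, fun h => (hP.mem_or_mem h).elim hg hfP, ?_⟩
  let T := Submonoid.powers (g * algebraMap R D f)
  have h2 : ⇑(LocalizedModule.map T α) = ⇑(LocalizedModule.map T φ₀) ∘ ⇑(LocalizedModule.map T α₀) :=
    funext fun x => hcomp _ x
  rw [h2]
  refine Function.Bijective.comp ⟨(FiberBasis.injective_map_iff T φ₀).mpr fun x hx => ?_,
    LocalizedModule.map_surjective _ _ hφ₀⟩ (hgt _ (dvd_mul_right _ _))
  obtain ⟨n, hn⟩ := hker x hx
  exact ⟨_, ⟨n, rfl⟩, by dsimp only; rw [mul_pow, mul_smul, hn, smul_zero]⟩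

/-- Rank data for a module good away from `f`. -/
theorem exists_rank_data {R D G : Type u} [CommRing R] [CommRing D] [Algebra R D] [Algebra.FinitePresentation R D]
    [Module.Flat R D] (hgi : FlatCA.GeomIntegralFibres R D) [AddCommGroup G] [Module D G] [Module.Finite D G]
    [Module R G] [IsScalarTower R D G] (f : R) (hgood : GoodAway R D G f) (p : Ideal R) [p.IsPrime] (hfp : f ∉ p) :
    ∃ (r : ℕ) (g : D) (α : (Fin r → D) →ₗ[D] G), g ∉ p.map (algebraMap R D) ∧
      Function.Bijective (LocalizedModule.map (Submonoid.powers g) α) :=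
  exists_rank_data_of hgi f hgood.1 (fun q _ _ hfq => hgood.flatAt _ fun h => hfq (by
    haveI : IsDomain (q.Fiber D) := Groth.Agent.S1223.isDomain_fiber hgi R D q
    rw [← (AffineBlowupRank.isPrime_map (S := D) q).2]
    exact Ideal.mem_comap.mpr h)) p hfp

end Groth.Agent.H7Flat.Flatten
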