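import Groth.Agent.H7Flat.Flatten.Rank
import Mathlib

/-!
# Blowing up to make the rank at the generic points constant
-/

set_option autoImplicit false
set_option linter.style.haveILetI false
set_option backward.isDefEq.respectTransparency false
set_option maxHeartbeats 1000000

universe u

open TensorProduct

namespace Groth.Agent.H7Flat.Flatten

/-- A chart on which all generic ranks are `r`. -/
theorem exists_centre_rank_chart {R R₁ D G : Type u} [CommRing R] [CommRing R₁] [Algebra R R₁] [CommRing D]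
    [Algebra R D] [Algebra.FinitePresentation R D] [Module.Flat R D] (hgi : FlatCA.GeomIntegralFibres R D) (m : ℕ)
    (hsm : FlatCA.SmoothRelDim m R D) (hlow : Below.{u} m) [AddCommGroup G] [Module D G] [Module.Finite D G]
    [Module R G] [IsScalarTower R D G] (f : R) (hgood : GoodAway R D G f) (b : R) (r : ℕ)
    (hbf : (Ideal.span {algebraMap R R₁ b}).radical = (Ideal.span {algebraMap R R₁ f}).radical)
    (hr : ∀ (p : Ideal R) [p.IsPrime], b ∉ p → ∃ (g : D) (α : (Fin r → D) →ₗ[D] G),
      g ∉ p.map (algebraMap R D) ∧ Function.Bijective (LocalizedModule.map (Submonoid.powers g) α))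
    (S₁ M₁ : Type u) [CommRing S₁] [Algebra R₁ S₁] [Algebra R S₁] [Algebra D S₁] [IsScalarTower R R₁ S₁]
    [IsScalarTower R D S₁] [Algebra.IsPushout R R₁ D S₁] [AddCommGroup M₁] [Module S₁ M₁] [Module D M₁]
    [IsScalarTower D S₁ M₁] [Module R₁ M₁] [IsScalarTower R₁ S₁ M₁] (φ : G →ₗ[D] M₁) (hφ : IsBaseChange S₁ φ) :
    ∃ I₁, Adm ((Ideal.span {f}).map (algebraMap R R₁)) I₁ ∧
      Flattening R₁ S₁ (M₁ ⧸ tors S₁ (algebraMap R R₁ b) M₁) I₁ := by
  classical
  haveI : Module.Finite S₁ M₁ := Module.Finite.equiv hφ.equiv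
  haveI : Algebra.FinitePresentation R₁ S₁ := Algebra.FinitePresentation.equiv (Algebra.IsPushout.equiv R R₁ D S₁)
  haveI : Module.Flat R₁ S₁ := Module.Flat.isBaseChange R R₁ D S₁
    (Algebra.IsPushout.out : IsBaseChange R₁ (IsScalarTower.toAlgHom R D S₁).toLinearMap)
  have hgi₁ := geomIntegralFibres_baseChange R R₁ D S₁ hgi
  have hsm₁ := H8Props.Devissage.smoothRelDim_baseChange R R₁ D S₁ m hsm
  let π := (tors S₁ (algebraMap R R₁ b) M₁).mkQ
  have htk : ∀ x, π x = 0 → ∃ n : ℕ, algebraMap R R₁ f ^ n • x = 0 := fun x hx =>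
    mem_tors_iff.mp (tors_eq_of_rad (B := S₁) (M := M₁) hbf ▸ (Submodule.Quotient.mk_eq_zero _).mp hx)
  have hgood₂ := (hgood.baseChange (A := R₁) φ hφ).of_map π (Submodule.mkQ_surjective _) htk
  obtain ⟨I₁, hI₁, hfl⟩ := exists_flattening_of_const_rank hgi₁ m hsm₁ hlow (algebraMap R R₁ f) hgood₂ r
    fun p₁ hp₁ hP₁ hfp₁ => by
      haveI := hp₁
      haveI := hP₁
      let p₀ := p₁.comap (algebraMap R R₁)
      have hbp₁ : algebraMap R R₁ b ∉ p₁ := fun h => by
        refine hfp₁ ?_
        have h' : algebraMap R R₁ f ∈ (Ideal.span {algebraMap R R₁ b}).radical :=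
          hbf.symm ▸ Ideal.le_radical (Ideal.mem_span_singleton_self _)
        exact hp₁.radical ▸ Ideal.radical_mono (Ideal.span_le.mpr (Set.singleton_subset_iff.mpr h)) h'
      obtain ⟨g, α, hg, hα⟩ := hr p₀ (fun h => hbp₁ h)
      haveI : IsDomain (p₀.Fiber D) := Groth.Agent.S1223.isDomain_fiber hgi R D p₀
      haveI : IsDomain (p₁.Fiber S₁) := Groth.Agent.S1223.isDomain_fiber hgi₁ R₁ S₁ p₁
      obtain ⟨hP₀, hP₀c⟩ := AffineBlowupRank.isPrime_map (S := D) p₀
      haveI := hP₀
      obtain ⟨-, hP₁c⟩ := AffineBlowupRank.isPrime_map (S := S₁) p₁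
      obtain ⟨q, hq, hq1, hq2⟩ := H8Props.FlatAtBC.exists_prime_over (R := R) (S := D) (R' := R₁) (S' := S₁)
        (hP := Algebra.IsPushout.symm ‹_›) (p₀.map (algebraMap R D)) p₁ hP₀c.symm
      have hg₁ : algebraMap D S₁ g ∉ p₁.map (algebraMap R₁ S₁) := fun h => hg (by
        rw [← hq1]
        exact (Ideal.map_le_iff_le_comap.mpr hq2.ge) h)
      have hf₁ : algebraMap R₁ S₁ (algebraMap R R₁ f) ∉ p₁.map (algebraMap R₁ S₁) := fun h =>
        hfp₁ (hP₁c ▸ Ideal.mem_comap.mpr h)
      obtain ⟨αB, -, hc, -, -, -⟩ := exists_alphaB φ hφ α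
      let g' := algebraMap D S₁ g * algebraMap R₁ S₁ (algebraMap R R₁ f)
      have hg' : g' ∉ p₁.map (algebraMap R₁ S₁) := fun h => (hP₁.mem_or_mem h).elim hg₁ hf₁
      let T := (p₁.map (algebraMap R₁ S₁)).primeCompl
      have hb : Function.Bijective (LocalizedModule.map T (π ∘ₗ αB)) := by
        have h1 := map_bijective_of_le (Submonoid.powers_le.mpr (show algebraMap D S₁ g ∈ T from hg₁)) αB
          (bijective_map_baseChange φ hφ α g hα αB hc)
        have h2 : Function.Bijective (LocalizedModule.map T π) :=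
          ⟨(FiberBasis.injective_map_iff T π).mpr fun x hx => by
            obtain ⟨n, hn⟩ := htk x hx
            exact ⟨_, pow_mem (show algebraMap R₁ S₁ (algebraMap R R₁ f) ∈ T from hf₁) n,
              by rw [← map_pow, algebraMap_smul]; exact hn⟩,
          LocalizedModule.map_surjective _ _ (Submodule.mkQ_surjective _)⟩
        have h3 : ⇑(LocalizedModule.map T (π ∘ₗ αB)) = ⇑(LocalizedModule.map T π) ∘ ⇑(LocalizedModule.map T αB) :=
          funext fun x => by
            induction x using LocalizedModule.induction_on with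
            | _ y s => simp only [Function.comp_apply, LocalizedModule.map_mk]; rfl
        rw [h3]
        exact h2.comp h1
      let bs := ((Pi.basisFun S₁ (Fin r)).ofIsLocalizedModule (Localization.AtPrime (p₁.map (algebraMap R₁ S₁))) T
        (LocalizedModule.mkLinearMap T (Fin r → S₁))).map (LinearEquiv.ofBijective _ hb)
      exact ⟨Module.Free.of_basis bs, by rw [rank_eq_card_basis bs, Fintype.card_fin]⟩
  exact ⟨I₁, by rwa [Ideal.map_span, Set.image_singleton], hfl⟩

/-- The partition of the good locus by the rank. -/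
theorem exists_rank_partition_of {R D G : Type u} [CommRing R] [CommRing D] [Algebra R D] [Algebra.FinitePresentation R D]
    [Module.Flat R D] (hgi : FlatCA.GeomIntegralFibres R D) [AddCommGroup G] [Module D G] [Module.Finite D G]
    [Module R G] [IsScalarTower R D G] (f : R)
    (hfpG : Module.FinitePresentation (Localization.Away (algebraMap R D f))
      (LocalizedModule (Submonoid.powers (algebraMap R D f)) G))
    (hflat : ∀ (p : Ideal R) [p.IsPrime] [(p.map (algebraMap R D)).IsPrime], f ∉ p →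
      FlatCA.FlatAt R (p.map (algebraMap R D)) G) :
    ∃ (k : ℕ) (rk : Fin k → ℕ) (x : Fin k → R) (N : ℕ), (∀ i j, i ≠ j → x i * x j = 0) ∧
      (Ideal.span (Set.range x)).radical = (Ideal.span {f}).radical ∧ ∑ i, x i = f ^ N ∧
      ∀ i (p : Ideal R) [p.IsPrime], x i ∉ p → ∃ (g : D) (α : (Fin (rk i) → D) →ₗ[D] G),
        g ∉ p.map (algebraMap R D) ∧ Function.Bijective (LocalizedModule.map (Submonoid.powers g) α) := by
  classical
  have hloc : ∀ P : {P : PrimeSpectrum R // f ∉ P.asIdeal}, ∃ (r : ℕ) (h : R), h ∉ P.1.asIdeal ∧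
      ∀ (p : Ideal R) [p.IsPrime], h ∉ p → ∃ (g : D) (α : (Fin r → D) →ₗ[D] G),
        g ∉ p.map (algebraMap R D) ∧ Function.Bijective (LocalizedModule.map (Submonoid.powers g) α) := by
    intro P
    obtain ⟨r, g, α, hg, hα⟩ := exists_rank_data_of hgi f hfpG hflat P.1.asIdeal P.2
    obtain ⟨h, hh, hopen⟩ := exists_basicOpen_notMem hgi g P.1.asIdeal hg
    exact ⟨r, h, hh, fun p hp hhp => ⟨g, α, @hopen p hp hhp, hα⟩⟩
  choose r h hh hdat using hloc
  have hfrad : f ∈ (Ideal.span (Set.range h)).radical := by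
    rw [Ideal.radical_eq_sInf, Ideal.mem_sInf]
    rintro p ⟨hle, hp⟩
    by_contra hfp
    exact hh ⟨⟨p, hp⟩, hfp⟩ (hle (Ideal.subset_span ⟨_, rfl⟩))
  obtain ⟨N₀, hN₀⟩ := hfrad
  obtain ⟨s, hs, hmem⟩ := Submodule.mem_span_finite_of_mem_span hN₀
  choose pt hpt using fun y : {y // y ∈ s} => hs y.2
  let vals : Finset ℕ := Finset.univ.image fun y : {y // y ∈ s} => r (pt y)
  let k := vals.card
  let v : Fin k ≃ {a // a ∈ vals} := vals.equivFin.symm
  let cls : {y // y ∈ s} → Fin k := fun y => v.symm ⟨r (pt y), Finset.mem_image_of_mem _ (Finset.mem_univ y)⟩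
  have hnil : ∀ y z : {y // y ∈ s}, cls y ≠ cls z → ∃ M : ℕ, ((y : R) * z * f) ^ M = 0 := by
    intro y z hyz
    suffices hn : IsNilpotent ((y : R) * z * f) from hn
    rw [nilpotent_iff_mem_prime]
    intro p hp
    by_contra hm
    have hy : h (pt y) ∉ p := fun h' => hm (by rw [← hpt y]; exact p.mul_mem_right _ (p.mul_mem_right _ h'))
    have hz : h (pt z) ∉ p := fun h' => hm (by rw [← hpt z]; exact p.mul_mem_right _ (p.mul_mem_left _ h'))
    haveI := hp
    haveI : IsDomain (p.Fiber D) := Groth.Agent.S1223.isDomain_fiber hgi R D p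
    obtain ⟨hP, -⟩ := AffineBlowupRank.isPrime_map (S := D) p
    haveI := hP
    obtain ⟨g, α, hg, hα⟩ := hdat (pt y) p hy
    obtain ⟨g', α', hg', hα'⟩ := hdat (pt z) p hz
    have e1 := (free_rank_of_bijective α g hα _ hg).2
    have e2 := (free_rank_of_bijective α' g' hα' _ hg').2
    have e3 : r (pt y) = r (pt z) := by exact_mod_cast e1.symm.trans e2
    exact hyz (congrArg v.symm (Subtype.ext e3))
  choose M hM using hnil
  let MM : ℕ := (Finset.univ.sup fun y : {y // y ∈ s} => Finset.univ.sup fun z =>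
    if hyz : cls y ≠ cls z then M y z hyz else 0) + 1
  have hpow : ∀ y z, cls y ≠ cls z → ((y : R) * z * f) ^ MM = 0 := by
    intro y z hyz
    refine pow_eq_zero_of_le ?_ (hM y z hyz)
    refine le_trans ?_ (Nat.le_succ _)
    refine le_trans ?_ (Finset.le_sup (Finset.mem_univ y))
    exact le_trans (by rw [dif_pos hyz]) (Finset.le_sup (Finset.mem_univ z))
  have hmem' : f ^ N₀ ∈ (Ideal.span (Set.range fun y : {y // y ∈ s} => (y : R) ^ MM)).radical := by
    refine (Ideal.span_le (I := (Ideal.span _).radical)).mpr (fun a ha => ?_) hmem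
    exact Ideal.mem_radical_of_pow_mem (m := MM) (Ideal.le_radical (Ideal.subset_span ⟨⟨a, ha⟩, rfl⟩))
  obtain ⟨L, hL⟩ := hmem'
  obtain ⟨c, hc⟩ := (Submodule.mem_span_range_iff_exists_fun R).mp hL
  simp only [smul_eq_mul] at hc
  let x : Fin k → R := fun i =>
    f ^ MM * ∑ y ∈ Finset.univ.filter (fun y => cls y = i), c y * (y : R) ^ MM
  have hsum : ∑ i, x i = f ^ (MM + N₀ * L) := by
    rw [← Finset.mul_sum, Finset.sum_fiberwise, hc, ← pow_mul, ← pow_add]
  refine ⟨k, fun i => v i, x, MM + N₀ * L, fun i j hij => ?_, le_antisymm ?_ ?_, hsum, fun i p hp hxp => ?_⟩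
  · simp only [x, Finset.mul_sum, Finset.sum_mul]
    refine Finset.sum_eq_zero fun y hy => Finset.sum_eq_zero fun z hz => ?_
    obtain ⟨-, hy⟩ := Finset.mem_filter.mp hy
    obtain ⟨-, hz⟩ := Finset.mem_filter.mp hz
    have h0 := hpow z y (by rw [hy, hz]; exact hij)
    have h1 := hpow y z (by rw [hy, hz]; exact fun e => hij e.symm)
    first
      | linear_combination (c y * c z * f ^ MM) * h0
      | linear_combination (c y * c z * f ^ MM) * h1
      | (rw [mul_pow, mul_pow] at h0; linear_combination (c y * c z * f ^ MM) * h0)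
  · refine Ideal.radical_mono (Ideal.span_le.mpr ?_)
    rintro _ ⟨i, rfl⟩
    exact Ideal.mul_mem_right _ _ (Ideal.pow_mem_of_mem _ (Ideal.mem_span_singleton_self f) MM (Nat.succ_pos _))
  · rw [Ideal.radical_le_radical_iff, Ideal.span_le, Set.singleton_subset_iff]
    refine ⟨MM + N₀ * L, ?_⟩
    rw [← hsum]
    exact Ideal.sum_mem _ fun i _ => Ideal.subset_span ⟨i, rfl⟩
  · obtain ⟨y, hy, hyp⟩ : ∃ y, cls y = i ∧ (y : R) ∉ p := by
      by_contra! hall
      refine hxp (Ideal.mul_mem_left _ _ (Ideal.sum_mem _ fun y hy => ?_))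
      exact Ideal.mul_mem_left _ _ (Ideal.pow_mem_of_mem _ (hall y (Finset.mem_filter.mp hy).2) MM (Nat.succ_pos _))
    have hri : r (pt y) = v i := by rw [← hy]; simp [cls]
    have h1 := hdat (pt y) p (by rw [hpt y]; exact hyp)
    generalize r (pt y) = a at hri h1
    subst hri
    exact h1

/-- The partition for a module good away from `f`. -/
theorem exists_rank_partition {R D G : Type u} [CommRing R] [CommRing D] [Algebra R D] [Algebra.FinitePresentation R D]
    [Module.Flat R D] (hgi : FlatCA.GeomIntegralFibres R D) [AddCommGroup G] [Module D G] [Module.Finite D G]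
    [Module R G] [IsScalarTower R D G] (f : R) (hgood : GoodAway R D G f) :
    ∃ (k : ℕ) (rk : Fin k → ℕ) (x : Fin k → R) (N : ℕ), (∀ i j, i ≠ j → x i * x j = 0) ∧
      (Ideal.span (Set.range x)).radical = (Ideal.span {f}).radical ∧ ∑ i, x i = f ^ N ∧
      ∀ i (p : Ideal R) [p.IsPrime], x i ∉ p → ∃ (g : D) (α : (Fin (rk i) → D) →ₗ[D] G),
        g ∉ p.map (algebraMap R D) ∧ Function.Bijective (LocalizedModule.map (Submonoid.powers g) α) :=
  exists_rank_partition_of hgi f hgood.1 fun q _ _ hfq => hgood.flatAt _ fun h => hfq (by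
    haveI : IsDomain (q.Fiber D) := Groth.Agent.S1223.isDomain_fiber hgi R D q
    rw [← (AffineBlowupRank.isPrime_map (S := D) q).2]
    exact Ideal.mem_comap.mpr h)

/-- Flattening over a ring in which the good locus is the basic open of `f`. -/
theorem exists_flattening_of_single {R D G : Type u} [CommRing R] [CommRing D] [Algebra R D]
    [Algebra.FinitePresentation R D] [Module.Flat R D] (hgi : FlatCA.GeomIntegralFibres R D) (m : ℕ)
    (hsm : FlatCA.SmoothRelDim m R D) (hlow : Below.{u} m) [AddCommGroup G] [Module D G] [Module.Finite D G]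
    [Module R G] [IsScalarTower R D G] (f : R) (hgood : GoodAway R D G f) :
    ∃ I : Ideal R, Adm (Ideal.span {f}) I ∧ Flattening R D G I := by
  classical
  obtain ⟨k, rk, x, N, horth, hrad, hsum, hdat⟩ := exists_rank_partition hgi f hgood
  refine exists_flattening_of_charts (Ideal.span {f}) (Submodule.fg_span_singleton f) x
    ⟨Submodule.fg_span (Set.finite_range x), hrad.symm ▸ Ideal.le_radical⟩ fun i S₁ M₁ _ _ _ _ _ _ _ _ _ _ _ _ _ φ hφ => ?_
  refine exists_centre_rank_chart hgi m hsm hlow f hgood (x i) (rk i) ?_ (hdat i) S₁ M₁ φ hφ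
  have hnzd := affineAlgebra_nzd (Ideal.span (Set.range x)) (x i)
  refine le_antisymm (Ideal.radical_le_radical_iff.mpr ?_) (Ideal.radical_le_radical_iff.mpr ?_)
  · have h0 : Ideal.span {x i} ≤ (Ideal.span {f}).radical := by
      rw [← hrad, Ideal.span_le, Set.singleton_subset_iff]
      exact Ideal.le_radical (Ideal.subset_span ⟨i, rfl⟩)
    have := (Ideal.map_mono h0).trans
      (Ideal.map_radical_le (algebraMap R ↥(BlowUp.affineAlgebra R (Ideal.span (Set.range x)) (x i))))
    rwa [Ideal.map_span, Ideal.map_span, Set.image_singleton, Set.image_singleton] at this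
  · rw [Ideal.span_le, Set.singleton_subset_iff]
    refine ⟨N, ?_⟩
    rw [← map_pow, ← hsum, map_sum]
    refine Ideal.sum_mem _ fun j _ => ?_
    by_cases hji : j = i
    · exact hji ▸ Ideal.mem_span_singleton_self _
    · rw [mem_nonZeroDivisors_iff_right.mp hnzd (algebraMap R _ (x j)) (by rw [← map_mul, horth j i hji, map_zero])]
      exact zero_mem _

end Groth.Agent.H7Flat.Flatten
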