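import Groth.Agent.H7Flat.Flatten.Good
import Groth.Agent.H7Flat.DevissageChain
import Mathlib

/-!
# Transfer of flattening centres along finite algebras
-/

set_option autoImplicit false
set_option linter.style.haveILetI false
set_option backward.isDefEq.respectTransparency false
set_option maxHeartbeats 1000000

universe u

open TensorProduct

namespace Groth.Agent.H7Flat.Flatten

theorem Flattening.congr {R S N N₂ : Type u} [CommRing R] [CommRing S] [Algebra R S] [AddCommGroup N] [Module S N]
    [AddCommGroup N₂] [Module S N₂] (e : N ≃ₗ[S] N₂) {I : Ideal R} (h : Flattening R S N I) :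
    Flattening R S N₂ I := by
  intro A _ _ t ht hI B M _ _ _ _ _ _ _ _ _ _ _ _ _ φ hφ
  exact h A t ht hI B M (φ ∘ₗ e.toLinearMap) ((IsBaseChange.ofEquiv e).comp hφ)

theorem tors_restrictScalars {A B C M : Type u} [CommRing A] [CommRing B] [CommRing C] [Algebra A B] [Algebra A C]
    [Algebra B C] [IsScalarTower A B C] [AddCommGroup M] [Module C M] [Module B M] [IsScalarTower B C M]
    [Module A M] [IsScalarTower A B M] [IsScalarTower A C M] (t : A) :
    (tors C t M).restrictScalars B = tors B t M := by
  ext m
  rw [Submodule.restrictScalars_mem, mem_tors_iff, mem_tors_iff]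

/-- Base changes of a module over an algebra, seen over a smaller algebra. -/
theorem exists_upper_model {R S A B C : Type u} [CommRing R] [CommRing S] [CommRing A] [CommRing B] [CommRing C]
    [Algebra R S] [Algebra R A] [Algebra A B] [Algebra R B] [Algebra S B] [IsScalarTower R A B]
    [IsScalarTower R S B] [Algebra.IsPushout R A S B] [Algebra S C] [Algebra R C] [IsScalarTower R S C]
    {G M : Type u} [AddCommGroup G] [Module C G] [Module S G] [IsScalarTower S C G]
    [AddCommGroup M] [Module B M] [Module S M] [IsScalarTower S B M] [Module A M] [IsScalarTower A B M]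
    (φ : G →ₗ[S] M) (hφ : IsBaseChange B φ) :
    ∃ (B' M' : Type u) (_ : CommRing B') (_ : Algebra A B') (_ : Algebra R B') (_ : Algebra C B')
      (_ : IsScalarTower R A B') (_ : IsScalarTower R C B') (_ : Algebra.IsPushout R A C B')
      (_ : Algebra B B') (_ : IsScalarTower A B B') (_ : Algebra S B') (_ : IsScalarTower S B B')
      (_ : IsScalarTower S C B') (_ : Algebra.IsPushout S B C B')
      (_ : AddCommGroup M') (_ : Module B' M') (_ : Module C M') (_ : IsScalarTower C B' M')
      (_ : Module A M') (_ : IsScalarTower A B' M') (_ : Module B M') (_ : IsScalarTower B B' M')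
      (_ : IsScalarTower A B M') (ψ : G →ₗ[C] M'), IsBaseChange B' ψ ∧ Nonempty (M' ≃ₗ[B] M) := by
  let B' := B ⊗[S] C
  letI iCB : Algebra C B' := Algebra.TensorProduct.rightAlgebra
  haveI tSC : IsScalarTower S C B' := Algebra.TensorProduct.right_isScalarTower
  haveI hp : Algebra.IsPushout S B C B' := inferInstance
  haveI : IsScalarTower R B B' := inferInstance
  haveI tRC : IsScalarTower R C B' := IsScalarTower.of_algebraMap_eq fun r => by
    rw [IsScalarTower.algebraMap_apply R S C, ← IsScalarTower.algebraMap_apply S C B',
      IsScalarTower.algebraMap_apply R B B', IsScalarTower.algebraMap_apply R S B,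
      ← IsScalarTower.algebraMap_apply S B B']
  haveI tRA : IsScalarTower R A B' := inferInstance
  haveI hpA : Algebra.IsPushout R A C B' :=
    haveI h1 : Algebra.IsPushout R S A B := Algebra.IsPushout.symm ‹_›
    haveI h2 : Algebra.IsPushout S C B B' := hp.symm
    ((Algebra.IsPushout.comp_iff (R := R) (S := S) (R' := A) (S' := B) (T := C) (T' := B')).mpr h2).symm
  let M' := B' ⊗[C] G
  letI mB : Module B M' := TensorProduct.leftModule
  haveI tB : IsScalarTower B B' M' := inferInstance
  haveI tA : IsScalarTower A B' M' := inferInstance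
  haveI tAB : IsScalarTower A B M' := inferInstance
  let ψ : G →ₗ[C] M' := TensorProduct.mk C B' G 1
  have hψ : IsBaseChange B' ψ := TensorProduct.isBaseChange C G B'
  letI : Module S M' := TensorProduct.leftModule
  have h2 : IsBaseChange B (ψ.restrictScalars S) :=
    H8Props.Devissage.isBaseChange_restrict (B := S) (A := C) (B' := B) (A' := B') (M := G) (M' := M') hψ
  exact ⟨B', M', inferInstance, inferInstance, inferInstance, iCB, tRA, tRC, hpA, inferInstance, inferInstance,
    inferInstance, inferInstance, tSC, hp, inferInstance, inferInstance, inferInstance, inferInstance,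
    inferInstance, tA, mB, tB, tAB, ψ, hψ, ⟨h2.equiv.symm ≪≫ₗ hφ.equiv⟩⟩

/-- A flattening centre for a module over a finitely presented finite algebra works over the algebra below. -/
theorem Flattening.restrict {R S C G : Type u} [CommRing R] [CommRing S] [CommRing C] [Algebra R S] [Algebra R C]
    [Algebra S C] [IsScalarTower R S C] [Module.FinitePresentation S C] [AddCommGroup G] [Module C G]
    [Module S G] [IsScalarTower S C G] {I : Ideal R} (h : Flattening R C G I) : Flattening R S G I := by
  intro A _ _ t ht hI B M _ _ _ _ _ _ _ _ _ _ _ _ _ φ hφ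
  obtain ⟨B', M', _, _, _, _, _, _, _, _, _, _, _, _, _, _, _, _, _, _, _, _, _, _, ψ, hψ, ⟨e⟩⟩ :=
    exists_upper_model (R := R) (A := A) (B := B) (C := C) φ hφ
  obtain ⟨hfl, hfp⟩ := h A t ht hI B' M' ψ hψ
  haveI := hfl
  haveI := hfp
  haveI : Module.FinitePresentation B B' :=
    Module.FinitePresentation.of_equiv (Algebra.IsPushout.equiv S B C B').toLinearEquiv
  haveI : Module.FinitePresentation B (M' ⧸ tors B' t M') := Module.FinitePresentation.trans B _ B'
  let e' : (M' ⧸ tors B t M') ≃ₗ[B] (M' ⧸ tors B' t M') :=
    Submodule.quotEquivOfEq _ _ (tors_restrictScalars t).symm ≪≫ₗ Submodule.Quotient.restrictScalarsEquiv B _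
  exact tfGood_congr e ⟨Module.Flat.of_linearEquiv (e'.restrictScalars A), Module.FinitePresentation.of_equiv e'.symm⟩

/-- A flattening centre for a finite module below works over a finite algebra. -/
theorem Flattening.extend {R D C G : Type u} [CommRing R] [CommRing D] [CommRing C] [Algebra R D] [Algebra R C]
    [Algebra D C] [IsScalarTower R D C] [Module.Finite D C] [AddCommGroup G] [Module C G] [Module D G]
    [IsScalarTower D C G] [Module.Finite C G] {I : Ideal R} (h : Flattening R D G I) : Flattening R C G I := by
  intro A _ _ t ht hI B M _ _ _ _ _ _ _ _ _ _ _ _ _ φ hφ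
  haveI : Module.Finite B M := Module.Finite.equiv hφ.equiv
  let E := A ⊗[R] D
  letI : Algebra D E := Algebra.TensorProduct.rightAlgebra
  haveI : IsScalarTower R D E := Algebra.TensorProduct.right_isScalarTower
  let θ : E →ₐ[R] B := Algebra.TensorProduct.lift (IsScalarTower.toAlgHom R A B)
    ((IsScalarTower.toAlgHom R C B).comp (IsScalarTower.toAlgHom R D C)) fun _ _ => .all _ _
  letI : Algebra E B := θ.toRingHom.toAlgebra
  letI : Algebra D B := ((algebraMap C B).comp (algebraMap D C)).toAlgebra
  haveI : IsScalarTower D C B := IsScalarTower.of_algebraMap_eq fun _ => rfl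
  haveI : IsScalarTower A E B := IsScalarTower.of_algebraMap_eq fun a => by
    show _ = θ (a ⊗ₜ[R] (1 : D))
    rw [Algebra.TensorProduct.lift_tmul, map_one, mul_one]
    rfl
  haveI : IsScalarTower D E B := IsScalarTower.of_algebraMap_eq fun a => by
    show _ = θ ((1 : A) ⊗ₜ[R] a)
    rw [Algebra.TensorProduct.lift_tmul, map_one, one_mul]
    rfl
  haveI hE : Algebra.IsPushout R A D E := inferInstance
  haveI : IsScalarTower R D B := IsScalarTower.of_algebraMap_eq fun r => by
    rw [IsScalarTower.algebraMap_apply D C B, ← IsScalarTower.algebraMap_apply R D C,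
      ← IsScalarTower.algebraMap_apply]
  haveI hEB : Algebra.IsPushout D E C B :=
    haveI h1 : Algebra.IsPushout R D A E := hE.symm
    haveI h2 : Algebra.IsPushout R C A B := Algebra.IsPushout.symm ‹_›
    ((Algebra.IsPushout.comp_iff (R := R) (S := D) (R' := A) (S' := E) (T := C) (T' := B)).mp h2).symm
  haveI : Module.Finite E B := Module.Finite.equiv (Algebra.IsPushout.equiv D E C B).toLinearEquiv
  letI : Module E M := Module.compHom M (algebraMap E B)
  haveI : IsScalarTower E B M := .of_algebraMap_smul fun _ _ => rfl
  letI : Module D M := Module.compHom M (algebraMap D B)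
  haveI : IsScalarTower D B M := .of_algebraMap_smul fun _ _ => rfl
  haveI : IsScalarTower D E M := .of_algebraMap_smul fun d x => by
    rw [← algebraMap_smul B (algebraMap D E d), ← IsScalarTower.algebraMap_apply, algebraMap_smul]
  haveI : IsScalarTower D C M := .of_algebraMap_smul fun d x => by
    rw [← algebraMap_smul B (algebraMap D C d), ← IsScalarTower.algebraMap_apply, algebraMap_smul]
  haveI : IsScalarTower A E M := .of_algebraMap_smul fun a x => by
    rw [← algebraMap_smul B (algebraMap A E a), ← IsScalarTower.algebraMap_apply, algebraMap_smul]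
  have hb : IsBaseChange E (φ.restrictScalars D) :=
    H8Props.Devissage.isBaseChange_restrict (B := D) (A := C) (B' := E) (A' := B) (M := G) (M' := M) hφ
  obtain ⟨hfl, hfp⟩ := h A t ht hI E M (φ.restrictScalars D) hb
  haveI := hfl
  haveI := hfp
  let e' : (M ⧸ tors E t M) ≃ₗ[E] (M ⧸ tors B t M) :=
    Submodule.quotEquivOfEq _ _ (tors_restrictScalars t).symm ≪≫ₗ Submodule.Quotient.restrictScalarsEquiv E _
  haveI : Module.FinitePresentation E (M ⧸ tors B t M) := Module.FinitePresentation.of_equiv e'
  exact ⟨Module.Flat.of_linearEquiv (e'.restrictScalars A).symm,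
    DevissageChain.fp_of_restrictScalars (D := E) (C := B) (G := M ⧸ tors B t M)⟩

end Groth.Agent.H7Flat.Flatten
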